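import Mathlib
import Cfsg.Prelude.Def_GeometricClasses

/-!
Basic vocabulary for the Aschbacher-type theorem: invariant subspaces, Clifford theory in prime dimension.
-/

set_option autoImplicit false
set_option linter.unusedSectionVars false
set_option linter.style.haveILetI false

namespace Cfsg.Agent.Aschbacher

open scoped MatrixGroups Matrix
open Module

variable {ι : Type} [Fintype ι] [DecidableEq ι] {F : Type*} [Field F]

/-- `M` is normalised by every element of `G`. -/
def NormalIn (M G : Subgroup (GL ι F)) : Prop := ∀ g ∈ G, ∀ x ∈ M, g * x * g⁻¹ ∈ M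

/-- `W` is invariant under all elements of `G`. -/
def Inv (G : Subgroup (GL ι F)) (W : Submodule F (ι → F)) : Prop :=
  ∀ g ∈ G, ∀ w ∈ W, (g : Matrix ι ι F) *ᵥ w ∈ W

/-- `G` is irreducible. -/
def Irr (G : Subgroup (GL ι F)) : Prop := ∀ W : Submodule F (ι → F), Inv G W → W = ⊥ ∨ W = ⊤

/-- `M` is diagonalisable: common eigenvectors span. -/
def Diag (M : Subgroup (GL ι F)) : Prop :=
  Submodule.span F {v : ι → F | ∀ x ∈ M, ∃ c : F, (x : Matrix ι ι F) *ᵥ v = c • v} = ⊤

/-- All elements of `M` commute with one another. -/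
def Comm (M : Subgroup (GL ι F)) : Prop := ∀ x ∈ M, ∀ y ∈ M, x * y = y * x

theorem mulVec_gl_inj (g : GL ι F) : Function.Injective fun v : ι → F => (g : Matrix ι ι F) *ᵥ v :=
  Matrix.mulVec_injective_iff_isUnit.mpr ⟨g, rfl⟩

theorem inv_mulVec_mulVec (g : GL ι F) (v : ι → F) :
    ((g⁻¹ : GL ι F) : Matrix ι ι F) *ᵥ ((g : Matrix ι ι F) *ᵥ v) = v := by
  rw [Matrix.mulVec_mulVec, ← Units.val_mul, inv_mul_cancel, Units.val_one, Matrix.one_mulVec]

theorem mulVec_inv_mulVec (g : GL ι F) (v : ι → F) :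
    (g : Matrix ι ι F) *ᵥ (((g⁻¹ : GL ι F) : Matrix ι ι F) *ᵥ v) = v := by
  rw [Matrix.mulVec_mulVec, ← Units.val_mul, mul_inv_cancel, Units.val_one, Matrix.one_mulVec]

/-- The linear automorphism given by an invertible matrix. -/
noncomputable def glEquiv (g : GL ι F) : (ι → F) ≃ₗ[F] (ι → F) :=
  LinearEquiv.ofLinearMap (Matrix.toLin' (g : Matrix ι ι F)) (Matrix.toLin' ((g⁻¹ : GL ι F) : Matrix ι ι F))
    (by rw [← Matrix.toLin'_mul, ← Units.val_mul, mul_inv_cancel, Units.val_one, Matrix.toLin'_one])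
    (by rw [← Matrix.toLin'_mul, ← Units.val_mul, inv_mul_cancel, Units.val_one, Matrix.toLin'_one])

@[simp] theorem glEquiv_apply (g : GL ι F) (v : ι → F) : glEquiv g v = (g : Matrix ι ι F) *ᵥ v := rfl

/-- The image of a subspace under an invertible matrix. -/
noncomputable def img (g : GL ι F) (W : Submodule F (ι → F)) : Submodule F (ι → F) :=
  W.map (Matrix.toLin' (g : Matrix ι ι F))

theorem mem_img {g : GL ι F} {W : Submodule F (ι → F)} {v : ι → F} :
    v ∈ img g W ↔ ∃ w ∈ W, (g : Matrix ι ι F) *ᵥ w = v := by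
  simp [img, Submodule.mem_map]

theorem finrank_img (g : GL ι F) (W : Submodule F (ι → F)) : finrank F (img g W) = finrank F W :=
  LinearEquiv.finrank_map_eq (glEquiv g) W

theorem mem_scalars_of_smul {g : GL ι F} {c : F} [Nonempty ι]
    (h : (g : Matrix ι ι F) = c • (1 : Matrix ι ι F)) : g ∈ Geo.scalars ι F := by
  have hc : c ≠ 0 := by
    rintro rfl
    have := g.isUnit
    rw [h, zero_smul] at this
    exact not_isUnit_zero this
  exact (Geo.mem_scalars_iff g).mpr ⟨Units.mk0 c hc, h⟩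

/-- A matrix fixing every line through a spanning set with a common scalar is scalar. -/
theorem eq_smul_one_of_span {S : Set (ι → F)} (hS : Submodule.span F S = ⊤) {M : Matrix ι ι F} {c : F}
    (h : ∀ v ∈ S, M *ᵥ v = c • v) : M = c • (1 : Matrix ι ι F) := by
  apply Matrix.toLin'.injective
  refine LinearMap.ext_on hS fun v hv => ?_
  simp [h v hv, Matrix.smul_mulVec]

theorem ext_of_span {S : Set (ι → F)} (hS : Submodule.span F S = ⊤) {A B : Matrix ι ι F}
    (h : ∀ v ∈ S, A *ᵥ v = B *ᵥ v) : A = B := by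
  apply Matrix.toLin'.injective
  exact LinearMap.ext_on hS fun v hv => by simpa using h v hv

theorem Diag.comm {M : Subgroup (GL ι F)} (h : Diag M) : Comm M := by
  intro x hx y hy
  apply Units.ext
  rw [Units.val_mul, Units.val_mul]
  refine ext_of_span h fun v hv => ?_
  obtain ⟨a, ha⟩ := hv x hx
  obtain ⟨b, hb⟩ := hv y hy
  rw [← Matrix.mulVec_mulVec, ← Matrix.mulVec_mulVec, ha, hb, Matrix.mulVec_smul, Matrix.mulVec_smul,
    ha, hb, smul_comm]

theorem irr_not_le_scalars {G : Subgroup (GL ι F)} (hG : Irr G) (hn : 1 < Fintype.card ι) :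
    ¬ G ≤ Geo.scalars ι F := by
  intro h
  haveI : Nonempty ι := Fintype.card_pos_iff.mp (by omega)
  obtain ⟨v, hv⟩ := exists_ne (0 : ι → F)
  have hinv : Inv G (Submodule.span F {v}) := by
    intro g hg w hw
    obtain ⟨c, hc⟩ := (Geo.mem_scalars_iff g).mp (h hg)
    rw [hc, Matrix.smul_mulVec, Matrix.one_mulVec]
    exact Submodule.smul_mem _ _ hw
  rcases hG _ hinv with h0 | h1
  · exact hv (by simpa using h0)
  · have h2 := congrArg (fun W : Submodule F (ι → F) => finrank F W) h1
    simp only [finrank_span_singleton hv, finrank_top, Module.finrank_pi] at h2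
    omega

/-- If a family of `d`-dimensional subspaces spans and each of them is either inside or independent of every
"good" subspace, then `d` divides the dimension. -/
theorem dvd_card_of_family {d : ℕ} (good : Submodule F (ι → F) → Prop) (T : Set (Submodule F (ι → F)))
    (h0 : good ⊥) (hsup : ∀ U W, good U → W ∈ T → good (U ⊔ W))
    (hmin : ∀ U W, good U → W ∈ T → W ≤ U ∨ W ⊓ U = ⊥)
    (hdim : ∀ W ∈ T, finrank F W = d) (htop : sSup T = ⊤) : d ∣ Fintype.card ι := by
  suffices H : ∀ k : ℕ, ∀ U, good U → d ∣ finrank F U → Fintype.card ι - finrank F U ≤ k → d ∣ Fintype.card ι from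
    H (Fintype.card ι) ⊥ h0 (by simp) (by omega)
  intro k
  induction k with
  | zero =>
    intro U _ hd hk
    have h1 : finrank F U ≤ Fintype.card ι := (U.finrank_le).trans (le_of_eq (Module.finrank_pi F))
    rwa [show Fintype.card ι = finrank F U by omega]
  | succ k ih =>
    intro U hU hd hk
    by_cases hall : ∀ W ∈ T, W ≤ U
    · have : U = ⊤ := top_le_iff.mp (htop ▸ sSup_le hall)
      rwa [this, finrank_top, Module.finrank_pi] at hd
    · push Not at hall
      obtain ⟨W, hW, hWU⟩ := hall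
      have hbot : W ⊓ U = ⊥ := (hmin U W hU hW).resolve_left hWU
      have hlt : finrank F U < finrank F ↥(U ⊔ W) :=
        Submodule.finrank_lt_finrank_of_lt (left_lt_sup.mpr hWU)
      have hadd := Submodule.finrank_sup_add_finrank_inf_eq U W
      rw [inf_comm, hbot, finrank_bot, hdim W hW] at hadd
      refine ih (U ⊔ W) (hsup U W hU hW) ?_ (by omega)
      rw [show finrank F ↥(U ⊔ W) = finrank F U + d by omega]
      exact dvd_add hd dvd_rfl

theorem inv_sSup_translates {G : Subgroup (GL ι F)} {T : Set (Submodule F (ι → F))}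
    (h : ∀ g ∈ G, ∀ W ∈ T, img g W ∈ T) : Inv G (sSup T) := by
  intro g hg w hw
  have hle : sSup T ≤ (sSup T).comap (Matrix.toLin' (g : Matrix ι ι F)) := by
    refine sSup_le fun W hW => ?_
    intro x hx
    rw [Submodule.mem_comap]
    exact le_sSup (h g hg W hW) (Submodule.mem_map_of_mem hx)
  simpa using hle hw

theorem sSup_translates_eq_top {G : Subgroup (GL ι F)} (hG : Irr G) {T : Set (Submodule F (ι → F))}
    (h : ∀ g ∈ G, ∀ W ∈ T, img g W ∈ T) {W : Submodule F (ι → F)} (hW : W ∈ T) (hW0 : W ≠ ⊥) :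
    sSup T = ⊤ :=
  (hG _ (inv_sSup_translates h)).resolve_left fun hb => hW0 (le_bot_iff.mp (hb ▸ le_sSup hW))

theorem NormalIn.inv_img {M G : Subgroup (GL ι F)} (hM : NormalIn M G) {g : GL ι F} (hg : g ∈ G)
    {W : Submodule F (ι → F)} (hW : Inv M W) : Inv M (img g W) := by
  intro x hx v hv
  obtain ⟨w, hw, rfl⟩ := mem_img.mp hv
  have hy : g⁻¹ * x * g ∈ M := by simpa using hM g⁻¹ (inv_mem hg) x hx
  refine mem_img.mpr ⟨_, hW _ hy w hw, ?_⟩
  rw [Matrix.mulVec_mulVec, Matrix.mulVec_mulVec, ← Units.val_mul, ← Units.val_mul]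
  congr 2
  group

/-- Clifford's theorem in prime dimension. -/
theorem irr_or_diag (hn : (Fintype.card ι).Prime) {M G : Subgroup (GL ι F)} (hM : NormalIn M G) (hG : Irr G) :
    Irr M ∨ Diag M := by
  refine or_iff_not_imp_left.mpr fun hnot => ?_
  simp only [Irr, not_forall, not_or] at hnot
  obtain ⟨W, hWi, hWb, hWt⟩ := hnot
  let P : ℕ → Prop := fun d => ∃ U : Submodule F (ι → F), Inv M U ∧ U ≠ ⊥ ∧ finrank F U = d
  have hP : ∃ d, P d := ⟨_, W, hWi, hWb, rfl⟩
  classical
  set d := Nat.find hP with hd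
  obtain ⟨W₀, hW₀i, hW₀b, hW₀d⟩ := Nat.find_spec hP
  have hdlt : d < Fintype.card ι := by
    have h1 : d ≤ finrank F W := Nat.find_min' hP ⟨W, hWi, hWb, rfl⟩
    have h2 := Submodule.finrank_lt hWt
    rw [Module.finrank_pi] at h2
    omega
  have hdpos : 0 < d := by
    have : finrank F W₀ ≠ 0 := by simpa [Submodule.finrank_eq_zero] using hW₀b
    omega
  let T : Set (Submodule F (ι → F)) := {U | Inv M U ∧ finrank F U = d}
  have hT : ∀ g ∈ G, ∀ U ∈ T, img g U ∈ T := fun g hg U hU => ⟨hM.inv_img hg hU.1, by rw [finrank_img]; exact hU.2⟩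
  have htop := sSup_translates_eq_top hG hT (show W₀ ∈ T from ⟨hW₀i, hW₀d⟩) hW₀b
  have hdvd : d ∣ Fintype.card ι := by
    refine dvd_card_of_family (Inv M) T ?_ ?_ ?_ (fun U hU => hU.2) htop
    · intro g _ w hw
      simp [(Submodule.mem_bot F).mp hw]
    · intro U U' hU hU' g hg w hw
      obtain ⟨a, ha, b, hb, rfl⟩ := Submodule.mem_sup.mp hw
      rw [Matrix.mulVec_add]
      exact Submodule.add_mem_sup (hU g hg a ha) (hU'.1 g hg b hb)
    · intro U U' hU hU'
      refine or_iff_not_imp_right.mpr fun hne => ?_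
      have hi : Inv M (U' ⊓ U) := fun g hg w hw => ⟨hU'.1 g hg w hw.1, hU g hg w hw.2⟩
      have h1 : d ≤ finrank F ↥(U' ⊓ U) := Nat.find_min' hP ⟨_, hi, hne, rfl⟩
      have h2 : U' ⊓ U = U' := Submodule.eq_of_le_of_finrank_le inf_le_left (hU'.2.le.trans h1)
      exact inf_eq_left.mp h2
  have hd1 : d = 1 := (hn.eq_one_or_self_of_dvd d hdvd).resolve_right (Nat.ne_of_lt hdlt)
  refine top_le_iff.mp ?_
  rw [← htop]
  refine sSup_le fun U hU v hv => Submodule.subset_span fun x hx => ?_
  rcases eq_or_ne v 0 with rfl | hv0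
  · exact ⟨0, by simp⟩
  have hU1 : finrank F U = 1 := hU.2.trans hd1
  obtain ⟨c, hc⟩ := exists_smul_eq_of_finrank_eq_one hU1 (x := (⟨v, hv⟩ : U))
    (fun h => hv0 (congrArg Subtype.val h)) ⟨_, hU.1 x hx v hv⟩
  exact ⟨c, (congrArg Subtype.val hc).symm⟩

/-- The common eigenvectors with eigenvalue function `χ`. -/
def weightSpace (M : Subgroup (GL ι F)) (χ : GL ι F → F) : Submodule F (ι → F) where
  carrier := {v | ∀ x ∈ M, (x : Matrix ι ι F) *ᵥ v = χ x • v}
  add_mem' {a b} ha hb x hx := by rw [Matrix.mulVec_add, ha x hx, hb x hx, smul_add]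
  zero_mem' x _ := by simp
  smul_mem' c a ha x hx := by rw [Matrix.mulVec_smul, ha x hx, smul_comm]

/-- A non-scalar diagonalisable normal subgroup of an irreducible group in prime dimension gives a frame. -/
theorem exists_frame (hn : (Fintype.card ι).Prime) {M G : Subgroup (GL ι F)} (hM : NormalIn M G) (hG : Irr G)
    (hdiag : Diag M) (hns : ¬ M ≤ Geo.scalars ι F) :
    ∃ (b : Module.Basis (Fin (Fintype.card ι)) F (ι → F)) (χ : Fin (Fintype.card ι) → GL ι F → F),
      (∀ i, ∀ x ∈ M, (x : Matrix ι ι F) *ᵥ b i = χ i x • b i) ∧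
      (∀ i j, i ≠ j → ∃ x ∈ M, χ i x ≠ χ j x) ∧
      (∀ g ∈ G, ∀ i, ∃ (j : Fin (Fintype.card ι)) (c : F), (g : Matrix ι ι F) *ᵥ b i = c • b j) ∧
      (∀ i j, ∃ g ∈ G, ∃ c : F, (g : Matrix ι ι F) *ᵥ b i = c • b j) := by
  classical
  haveI : Nonempty ι := Fintype.card_pos_iff.mp hn.pos
  obtain ⟨S, hSsub, hSspan, hSli⟩ :=
    exists_linearIndependent F {v : ι → F | ∀ x ∈ M, ∃ c : F, (x : Matrix ι ι F) *ᵥ v = c • v}
  rw [hdiag] at hSspan
  let b₀ : Module.Basis S F (ι → F) := Module.Basis.mk hSli (by rw [Subtype.range_coe]; exact hSspan.ge)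
  haveI : Fintype S := FiniteDimensional.fintypeBasisIndex b₀
  have hcard : Fintype.card S = Fintype.card ι := by
    rw [← Module.finrank_eq_card_basis b₀, Module.finrank_pi]
  let b := b₀.reindex (Fintype.equivFinOfCardEq hcard)
  have hev : ∀ i, ∀ x ∈ M, ∃ c : F, (x : Matrix ι ι F) *ᵥ b i = c • b i := fun i => by
    simp only [b, Module.Basis.reindex_apply, b₀, Module.Basis.mk_apply]
    exact hSsub (Subtype.mem _)
  choose χ hχ using hev
  let χ' : Fin (Fintype.card ι) → GL ι F → F := fun i x => if hx : x ∈ M then χ i x hx else 0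
  have hχ' : ∀ i, ∀ x ∈ M, (x : Matrix ι ι F) *ᵥ b i = χ' i x • b i := fun i x hx => by
    simp only [χ', dif_pos hx]; exact hχ i x hx
  have hker : ∀ {v : ι → F} {ψ : GL ι F → F}, v ∈ weightSpace M ψ → ∀ i, b.repr v i ≠ 0 → ∀ x ∈ M, χ' i x = ψ x := by
    intro v ψ hv i hi x hx
    have h1 : (x : Matrix ι ι F) *ᵥ v = ∑ k, (b.repr v k * χ' k x) • b k := by
      conv_lhs => rw [← b.sum_repr v]
      rw [Matrix.mulVec_sum]
      exact Finset.sum_congr rfl fun k _ => by rw [Matrix.mulVec_smul, hχ' k x hx, smul_smul]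
    have h2 := hv x hx
    rw [h1] at h2
    have h3 := congrArg (fun w => b.repr w i) h2
    simp only [b.repr_sum_self, map_smul, Finsupp.smul_apply, smul_eq_mul] at h3
    exact mul_left_cancel₀ hi (h3.trans (mul_comm _ _))
  -- weight spaces are spanned by the basis vectors they contain
  let cls : (GL ι F → F) → Set (Fin (Fintype.card ι)) := fun ψ => {i | ∀ x ∈ M, χ' i x = ψ x}
  have hwspan : ∀ ψ, weightSpace M ψ = Submodule.span F (b '' cls ψ) := by
    intro ψ
    refine le_antisymm (fun v hv => ?_) (Submodule.span_le.mpr ?_)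
    · rw [b.mem_span_image]
      intro i hi
      exact hker hv i (Finsupp.mem_support_iff.mp hi)
    · rintro _ ⟨i, hi, rfl⟩ x hx
      rw [hχ' i x hx, hi x hx]
  have htrans : ∀ g ∈ G, ∀ ψ : GL ι F → F,
      img g (weightSpace M ψ) = weightSpace M (fun x => ψ (g⁻¹ * x * g)) := by
    intro g hg ψ
    refine le_antisymm ?_ ?_
    · intro v hv x hx
      obtain ⟨w, hw, rfl⟩ := mem_img.mp hv
      have hy : g⁻¹ * x * g ∈ M := by simpa using hM g⁻¹ (inv_mem hg) x hx
      rw [← Matrix.mulVec_smul, ← hw _ hy, Matrix.mulVec_mulVec, Matrix.mulVec_mulVec, ← Units.val_mul,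
        ← Units.val_mul]
      congr 2
      group
    · intro v hv
      refine mem_img.mpr ⟨_, ?_, mulVec_inv_mulVec g v⟩
      intro y hy
      have h1 := hv (g * y * g⁻¹) (hM g hg y hy)
      simp only [show g⁻¹ * (g * y * g⁻¹) * g = y by group] at h1
      rw [← Matrix.mulVec_smul, ← h1, Matrix.mulVec_mulVec, Matrix.mulVec_mulVec, ← Units.val_mul,
        ← Units.val_mul]
      congr 2
      group
  let i₀ : Fin (Fintype.card ι) := ⟨0, hn.pos⟩
  let T : Set (Submodule F (ι → F)) := {U | ∃ g ∈ G, U = img g (weightSpace M (χ' i₀))}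
  have hne : weightSpace M (χ' i₀) ≠ ⊥ := by
    intro h
    exact b.ne_zero i₀ ((Submodule.mem_bot F).mp (h ▸ (fun x hx => hχ' i₀ x hx)))
  have himg1 : img (1 : GL ι F) (weightSpace M (χ' i₀)) = weightSpace M (χ' i₀) := by
    simp [img]
  have htop : sSup T = ⊤ := by
    refine sSup_translates_eq_top hG ?_ (W := weightSpace M (χ' i₀)) ⟨1, one_mem _, himg1.symm⟩ hne
    rintro g hg _ ⟨g', hg', rfl⟩
    refine ⟨g * g', mul_mem hg hg', ?_⟩
    simp only [img, ← Submodule.map_comp, ← Matrix.toLin'_mul, Units.val_mul]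
  set d := finrank F (weightSpace M (χ' i₀))
  have hdvd : d ∣ Fintype.card ι := by
    refine dvd_card_of_family
      (fun U => ∃ Ψ : Set (GL ι F → F), U = Submodule.span F (b '' {i | ∃ ψ ∈ Ψ, i ∈ cls ψ})) T ?_ ?_ ?_ ?_ htop
    · exact ⟨∅, by simp⟩
    · rintro U W ⟨Ψ, rfl⟩ ⟨g, hg, rfl⟩
      refine ⟨insert (fun x => χ' i₀ (g⁻¹ * x * g)) Ψ, ?_⟩
      rw [htrans g hg, hwspan, ← Submodule.span_union, ← Set.image_union]
      congr 2
      ext i
      simp [or_comm]
    · rintro U W ⟨Ψ, rfl⟩ ⟨g, hg, rfl⟩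
      rw [htrans g hg, hwspan]
      set ψ₀ : GL ι F → F := fun x => χ' i₀ (g⁻¹ * x * g)
      by_cases h : ∃ ψ ∈ Ψ, ∀ x ∈ M, ψ₀ x = ψ x
      · obtain ⟨ψ, hψ, heq⟩ := h
        exact Or.inl (Submodule.span_mono (Set.image_mono fun i hi => ⟨ψ, hψ, fun x hx => (hi x hx).trans (heq x hx)⟩))
      · refine Or.inr (disjoint_iff.mp (b.linearIndependent.disjoint_span_image ?_))
        rw [Set.disjoint_left]
        rintro i hi ⟨ψ, hψ, hi'⟩
        exact h ⟨ψ, hψ, fun x hx => (hi x hx).symm.trans (hi' x hx)⟩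
    · rintro W ⟨g, -, rfl⟩
      exact finrank_img g _
  have hd1 : d = 1 := by
    refine (hn.eq_one_or_self_of_dvd d hdvd).resolve_right fun hd => hns ?_
    intro x hx
    have htop' : weightSpace M (χ' i₀) = ⊤ :=
      Submodule.eq_top_of_finrank_eq (hd.trans (Module.finrank_pi F).symm)
    refine mem_scalars_of_smul (c := χ' i₀ x) (eq_smul_one_of_span (S := Set.univ) (by simp) fun v _ => ?_)
    exact (show v ∈ weightSpace M (χ' i₀) by rw [htop']; trivial) x hx
  -- every basis vector lies in some translate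
  have horb : ∀ i, ∃ g ∈ G, img g (weightSpace M (χ' i₀)) = Submodule.span F {b i} := by
    intro i
    by_contra hcon
    push Not at hcon
    have hle : sSup T ≤ Submodule.span F (b '' {k | k ≠ i}) := by
      refine sSup_le ?_
      rintro _ ⟨g, hg, rfl⟩
      rw [htrans g hg, hwspan]
      refine Submodule.span_mono (Set.image_mono fun k hk hki => ?_)
      subst hki
      refine hcon g hg ?_
      refine (Submodule.eq_of_le_of_finrank_le ?_ ?_).symm
      · rw [Submodule.span_le, Set.singleton_subset_iff, htrans g hg]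
        intro x hx
        rw [hχ' k x hx, hk x hx]
      · rw [finrank_img, finrank_span_singleton (b.ne_zero k)]
        exact hd1.le
    have hi : b i ∈ Submodule.span F (b '' {k | k ≠ i}) := hle (htop ▸ Submodule.mem_top)
    exact b.linearIndependent.notMem_span_image (by simp) hi
  have hdist : ∀ i j, i ≠ j → ∃ x ∈ M, χ' i x ≠ χ' j x := by
    intro i j hij
    by_contra hcon
    push Not at hcon
    obtain ⟨g, hg, hgi⟩ := horb i
    have h1 : Submodule.span F {b i} = weightSpace M (χ' i) := by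
      refine Submodule.eq_of_le_of_finrank_le ?_ ?_
      · rw [Submodule.span_le, Set.singleton_subset_iff]
        exact hχ' i
      · have h3 : weightSpace M (χ' i) ≤ img g (weightSpace M (χ' i₀)) := by
          have hbi : b i ∈ img g (weightSpace M (χ' i₀)) := by rw [hgi]; exact Submodule.mem_span_singleton_self _
          rw [htrans g hg] at hbi ⊢
          intro v hv x hx
          have h4 := (hχ' i x hx).symm.trans (hbi x hx)
          have h5 := smul_left_injective F (b.ne_zero i) h4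
          rw [hv x hx, h5]
        refine (Submodule.finrank_mono h3).trans ?_
        rw [finrank_img, finrank_span_singleton (b.ne_zero i)]
        exact hd1.le
    have hj : b j ∈ Submodule.span F {b i} := by
      rw [h1]
      exact fun x hx => by rw [hχ' j x hx, hcon x hx]
    rw [show ({b i} : Set (ι → F)) = b '' {i} by simp] at hj
    exact b.linearIndependent.notMem_span_image (by simpa using Ne.symm hij) hj
  refine ⟨b, χ', hχ', hdist, ?_, ?_⟩
  · intro g hg i
    obtain ⟨g', hg', hgi⟩ := horb i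
    have hmem : (g : Matrix ι ι F) *ᵥ b i ∈ img (g * g') (weightSpace M (χ' i₀)) := by
      have h1 : b i ∈ img g' (weightSpace M (χ' i₀)) := by rw [hgi]; exact Submodule.mem_span_singleton_self _
      obtain ⟨w, hw, hw'⟩ := mem_img.mp h1
      exact mem_img.mpr ⟨w, hw, by rw [← hw', Matrix.mulVec_mulVec, ← Units.val_mul]⟩
    have hne0 : (g : Matrix ι ι F) *ᵥ b i ≠ 0 := fun h => b.ne_zero i (mulVec_gl_inj g (by simpa using h))
    obtain ⟨j, hj⟩ : ∃ j, b.repr ((g : Matrix ι ι F) *ᵥ b i) j ≠ 0 := by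
      by_contra hcon
      push Not at hcon
      exact hne0 (b.repr.map_eq_zero_iff.mp (Finsupp.ext hcon))
    rw [htrans (g * g') (mul_mem hg hg')] at hmem
    have hjj : b j ∈ weightSpace M (fun x => χ' i₀ ((g * g')⁻¹ * x * (g * g'))) := fun x hx => by
      rw [hχ' j x hx, hker hmem j hj x hx]
    have hfin : finrank F (weightSpace M (fun x => χ' i₀ ((g * g')⁻¹ * x * (g * g')))) = 1 := by
      rw [← htrans (g * g') (mul_mem hg hg'), finrank_img]; exact hd1
    obtain ⟨c, hc⟩ := exists_smul_eq_of_finrank_eq_one hfin (x := ⟨b j, hjj⟩)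
      (fun h => b.ne_zero j (congrArg Subtype.val h)) ⟨_, hmem⟩
    exact ⟨j, c, (congrArg Subtype.val hc).symm⟩
  · intro i j
    obtain ⟨g₁, hg₁, h₁⟩ := horb i
    obtain ⟨g₂, hg₂, h₂⟩ := horb j
    have h3 : img (g₂ * g₁⁻¹) (Submodule.span F {b i}) = Submodule.span F {b j} := by
      rw [← h₁, ← h₂]
      simp only [img, ← Submodule.map_comp, ← Matrix.toLin'_mul, ← Units.val_mul]
      rw [inv_mul_cancel_right]
    refine ⟨g₂ * g₁⁻¹, mul_mem hg₂ (inv_mem hg₁), ?_⟩
    have h4 : ((g₂ * g₁⁻¹ : GL ι F) : Matrix ι ι F) *ᵥ b i ∈ Submodule.span F {b j} :=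
      h3 ▸ mem_img.mpr ⟨b i, Submodule.mem_span_singleton_self _, rfl⟩
    obtain ⟨c, hc⟩ := Submodule.mem_span_singleton.mp h4
    exact ⟨c, hc.symm⟩

/-- A group permuting the lines of a basis stabilises the decomposition into these lines. -/
theorem lines_decomposition {k : ℕ} (hk : 2 ≤ k) (b : Module.Basis (Fin k) F (ι → F)) :
    Geo.IsMDecomposition 1 (fun i => Submodule.span F {b i}) := by
  refine ⟨hk, one_pos, fun i => finrank_span_singleton (b.ne_zero i),
    b.linearIndependent.iSupIndep_span_singleton, ?_⟩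
  rw [← Submodule.span_range_eq_iSup, b.span_eq]

theorem le_decompositionStabilizer {k : ℕ} (b : Module.Basis (Fin k) F (ι → F)) {G : Subgroup (GL ι F)}
    (h : ∀ g ∈ G, ∀ i, ∃ (j : Fin k) (c : F), (g : Matrix ι ι F) *ᵥ b i = c • b j) :
    G ≤ Geo.decompositionStabilizer (fun i => Submodule.span F {b i}) := by
  intro g hg
  choose σ c hσ using h g hg
  have hc : ∀ i, c i ≠ 0 := fun i hi => b.ne_zero i (mulVec_gl_inj g (by simp [hσ i, hi]))
  have hinj : Function.Injective σ := by
    intro i j hij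
    by_contra hne
    have h0 : (g : Matrix ι ι F) *ᵥ (c j • b i - c i • b j) = 0 := by
      rw [Matrix.mulVec_sub, Matrix.mulVec_smul, Matrix.mulVec_smul, hσ i, hσ j, hij, smul_comm, sub_self]
    have h1 : c j • b i - c i • b j = 0 := mulVec_gl_inj g (by simpa using h0)
    have h2 := congrArg (fun w => b.repr w i) h1
    simp [Finsupp.single_apply, Ne.symm hne] at h2
    exact hc j h2
  refine ⟨Equiv.ofBijective σ (Finite.injective_iff_bijective.mp hinj), fun i => ?_⟩
  rw [Submodule.map_span, Set.image_singleton, Matrix.toLin'_apply, hσ i, Equiv.ofBijective_apply,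
    Submodule.span_singleton_smul_eq (hc i).isUnit]

theorem inv_le_subspaceStabilizer [Finite F] {G : Subgroup (GL ι F)} {W : Submodule F (ι → F)} (h : Inv G W) :
    G ≤ Geo.subspaceStabilizer W := by
  intro g hg v
  refine ⟨fun hv => h g hg v hv, fun hv => ?_⟩
  have := h g⁻¹ (inv_mem hg) _ hv
  simpa [inv_mulVec_mulVec] using this

theorem irr_iff {G : Subgroup (GL ι F)} : Irr G ↔ Geo.ActsIrreducibly (Geo.matrixSet G) := by
  constructor
  · intro h W hW
    refine h W fun g hg w hw => hW _ ⟨g, hg, rfl⟩ ?_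
    exact ⟨w, hw, by simp⟩
  · intro h W hW
    refine h W ?_
    rintro _ ⟨g, hg, rfl⟩ _ ⟨w, hw, rfl⟩
    simpa using hW g hg w hw

end Cfsg.Agent.Aschbacher
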