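import Cfsg.Agent.Aschbacher.FieldAux

/-!
The involutory automorphism of a finite field of square order, and the minimal field containing roots of unity.
-/

set_option autoImplicit false
set_option linter.unusedSectionVars false
set_option linter.style.haveILetI false

namespace Cfsg.Agent.Aschbacher

variable {F : Type*} [Field F] [Fintype F]

theorem exists_involution {q : ℕ} (hQ : Fintype.card F = q ^ 2) :
    ∃ σ : F ≃+* F, σ ≠ RingEquiv.refl F ∧ (∀ a, σ (σ a) = a) ∧ ∀ a, σ a = a ^ q := by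
  obtain ⟨p, hp⟩ := CharP.exists F
  haveI : Fact p.Prime := ⟨CharP.char_is_prime F p⟩
  obtain ⟨f, -, hf⟩ := FiniteField.card F p
  have hdvd : q ∣ p ^ (f : ℕ) := by rw [← hf, hQ]; exact dvd_pow_self _ two_ne_zero
  obtain ⟨k, -, rfl⟩ := (Nat.dvd_prime_pow Fact.out).mp hdvd
  let σ : F ≃+* F := RingEquiv.ofBijective (iterateFrobenius F p k)
    (Finite.injective_iff_bijective.mp (iterateFrobenius F p k).injective)
  have hσ : ∀ a, σ a = a ^ p ^ k := fun a => by simp [σ, iterateFrobenius_def]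
  refine ⟨σ, ?_, fun a => by rw [hσ, hσ, ← pow_mul, ← pow_two, ← hQ, FiniteField.pow_card], hσ⟩
  intro h
  obtain ⟨F₁, hF₁, hmem⟩ := exists_subfield_card two_pos hQ
  have htop : F₁ = ⊤ := Subfield.ext fun x => ⟨fun _ => trivial, fun _ => (hmem x).mpr (by rw [← hσ, h]; rfl)⟩
  have h2 := (subfield_eq_top_iff F₁).mp htop
  rw [hF₁, hQ] at h2
  have h3 : 1 < p ^ k := by rw [← hF₁]; exact one_lt_natCard_subfield F₁
  nlinarith

/-- The minimal exponent `e` with `n ∣ p^e - 1`, given a primitive n-th root of unity. -/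
theorem exists_min_exponent {n p : ℕ} (hp : p.Prime) [CharP F p] (hn : n.Prime) {ω : F} (hω : IsPrimitiveRoot ω n) :
    ∃ e f : ℕ, Fintype.card F = p ^ f ∧ 0 < e ∧ e ∣ f ∧ e ∣ n - 1 ∧ n ≠ p ∧ n ∣ p ^ e - 1 ∧
      ∀ d, 0 < d → d < e → ¬ n ∣ p ^ d - 1 := by
  classical
  haveI : Fact p.Prime := ⟨hp⟩
  obtain ⟨f, -, hf⟩ := FiniteField.card F p
  have hdf : n ∣ p ^ (f : ℕ) - 1 := by
    rw [← hf]
    exact hω.dvd_of_pow_eq_one _ (FiniteField.pow_card_sub_one_eq_one ω (hω.ne_zero hn.ne_zero))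
  have hnp : n ≠ p := by
    rintro rfl
    exact (hω.neZero' (n := n)).out (CharP.cast_eq_zero F n)
  have hd1 : n ∣ p ^ (n - 1) - 1 := by
    have hcop : Nat.Coprime p n := (Nat.coprime_primes hp hn).mpr (Ne.symm hnp)
    have h2 := Nat.ModEq.pow_totient hcop
    rw [Nat.totient_prime hn] at h2
    exact (Nat.modEq_iff_dvd' (Nat.one_le_pow _ _ hp.pos)).mp h2.symm
  have hex : ∃ e, 0 < e ∧ n ∣ p ^ e - 1 := ⟨f, f.pos, hdf⟩
  obtain ⟨he0, hed⟩ := Nat.find_spec hex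
  have key : ∀ m, n ∣ p ^ m - 1 → Nat.find hex ∣ m := by
    intro m hm
    have h3 : n ∣ p ^ Nat.gcd (Nat.find hex) m - 1 := by
      rw [← Nat.pow_sub_one_gcd_pow_sub_one]
      exact Nat.dvd_gcd hed hm
    have h4 : Nat.find hex ≤ Nat.gcd (Nat.find hex) m :=
      Nat.find_min' hex ⟨Nat.gcd_pos_of_pos_left _ he0, h3⟩
    have h5 := Nat.le_antisymm h4 (Nat.gcd_le_left _ he0)
    rw [h5]
    exact Nat.gcd_dvd_right _ _
  exact ⟨Nat.find hex, f, hf, he0, key _ hdf, key _ hd1, hnp, hed,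
    fun d hd hlt h => Nat.find_min hex hlt ⟨hd, h⟩⟩

end Cfsg.Agent.Aschbacher
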