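import Mathlib

/-!
Subfields of finite fields: membership by powers, subfields of prime index, norms.
-/

set_option autoImplicit false
set_option linter.unusedSectionVars false
set_option linter.style.haveILetI false

namespace Cfsg.Agent.Aschbacher

open Polynomial

variable {F : Type*} [Field F] [Fintype F]

theorem one_lt_natCard_subfield (F₀ : Subfield F) : 1 < Nat.card F₀ := Finite.one_lt_card

theorem mem_subfield_iff_pow (F₀ : Subfield F) (x : F) : x ∈ F₀ ↔ x ^ Nat.card F₀ = x := by
  classical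
  constructor
  · intro hx
    haveI : Fintype F₀ := Fintype.ofFinite F₀
    have h := congrArg Subtype.val (FiniteField.pow_card (⟨x, hx⟩ : F₀))
    simpa [Nat.card_eq_fintype_card] using h
  · intro hx
    by_contra hnx
    haveI : Fintype F₀ := Fintype.ofFinite F₀
    set S : Finset F := insert x ((Finset.univ : Finset F₀).image Subtype.val)
    have hS : S.card = Nat.card F₀ + 1 := by
      rw [Finset.card_insert_of_notMem, Finset.card_image_of_injective _ Subtype.val_injective, Finset.card_univ,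
        Nat.card_eq_fintype_card]
      simp only [Finset.mem_image, Finset.mem_univ, true_and, not_exists]
      intro y hy
      exact hnx (hy ▸ y.2)
    have hne : (X ^ Nat.card F₀ - X : F[X]) ≠ 0 :=
      FiniteField.X_pow_card_sub_X_ne_zero F (one_lt_natCard_subfield F₀)
    have hsub : S ⊆ (X ^ Nat.card F₀ - X : F[X]).roots.toFinset := by
      intro y hy
      rw [Multiset.mem_toFinset, mem_roots hne]
      rcases Finset.mem_insert.mp hy with rfl | hy
      · rw [IsRoot.def, eval_sub, eval_pow, eval_X, hx, sub_self]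
      · obtain ⟨z, -, rfl⟩ := Finset.mem_image.mp hy
        have h := congrArg Subtype.val (FiniteField.pow_card z)
        simp only [SubmonoidClass.coe_pow] at h
        simp [Nat.card_eq_fintype_card, h]
    have h1 := Finset.card_le_card hsub
    have h2 := (Multiset.toFinset_card_le _).trans (card_roots' (X ^ Nat.card F₀ - X : F[X]))
    rw [FiniteField.X_pow_card_sub_X_natDegree_eq F (one_lt_natCard_subfield F₀)] at h2
    omega

theorem ringHom_mem_subfield (σ : F →+* F) (F₀ : Subfield F) {x : F} (hx : x ∈ F₀) : σ x ∈ F₀ := by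
  rw [mem_subfield_iff_pow] at hx ⊢
  rw [← map_pow, hx]

theorem exists_card_pow (F₀ : Subfield F) : ∃ m : ℕ, 0 < m ∧ Fintype.card F = Nat.card F₀ ^ m :=
  ⟨Module.finrank F₀ F, Module.finrank_pos, by
    rw [← Nat.card_eq_fintype_card]; exact Module.natCard_eq_pow_finrank⟩

theorem subfield_eq_top_iff (F₀ : Subfield F) : F₀ = ⊤ ↔ Nat.card F₀ = Fintype.card F := by
  constructor
  · rintro rfl
    rw [← Nat.card_eq_fintype_card]
    exact Nat.card_congr Subfield.topEquiv.toEquiv
  · intro h
    refine (Subfield.ext fun x => ⟨fun _ => trivial, fun _ => ?_⟩)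
    rw [mem_subfield_iff_pow, h]
    exact FiniteField.pow_card x

/-- The subfield of elements fixed by the `q₁`-power map, for `Fintype.card F = q₁ ^ r`. -/
theorem exists_subfield_card {q₁ r : ℕ} (hr : 0 < r) (hQ : Fintype.card F = q₁ ^ r) :
    ∃ F₁ : Subfield F, Nat.card F₁ = q₁ ∧ ∀ x : F, x ∈ F₁ ↔ x ^ q₁ = x := by
  classical
  obtain ⟨p, hp⟩ := CharP.exists F
  haveI : Fact p.Prime := ⟨CharP.char_is_prime F p⟩
  obtain ⟨f, -, hf⟩ := FiniteField.card F p
  have hdvd : q₁ ∣ p ^ (f : ℕ) := by rw [← hf, hQ]; exact dvd_pow_self _ hr.ne'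
  obtain ⟨k, -, rfl⟩ := (Nat.dvd_prime_pow Fact.out).mp hdvd
  have hk : 1 < p ^ k := by
    rcases Nat.lt_or_ge 1 (p ^ k) with h | h
    · exact h
    · have h1 : p ^ k = 1 := le_antisymm h (Nat.one_le_pow _ _ (Nat.Prime.pos Fact.out))
      rw [h1, one_pow] at hQ
      exact absurd hQ (Fintype.one_lt_card.ne')
  let F₁ : Subfield F := (iterateFrobenius F p k).eqLocusField (RingHom.id F)
  have hmem : ∀ x : F, x ∈ F₁ ↔ x ^ p ^ k = x := fun x => by
    rw [RingHom.mem_eqLocusField, iterateFrobenius_def, RingHom.id_apply]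
  refine ⟨F₁, ?_, hmem⟩
  obtain ⟨m, hm0, hm⟩ := exists_card_pow F₁
  have hker : Nat.card (powMonoidHom (p ^ k - 1) : Fˣ →* Fˣ).ker = p ^ k - 1 := by
    rw [IsCyclic.card_powMonoidHom_ker, Nat.card_units, Nat.card_eq_fintype_card, hQ]
    exact Nat.gcd_eq_right (by simpa using Nat.sub_dvd_pow_sub_pow (p ^ k) 1 r)
  have he : (powMonoidHom (p ^ k - 1) : Fˣ →* Fˣ).ker ≃ F₁ˣ :=
    { toFun := fun u => Units.mk0 ⟨((u : Fˣ) : F), by
          rw [hmem]
          have h1 : ((u : Fˣ) : F) ^ (p ^ k - 1) = 1 := by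
            have := congrArg Units.val (MonoidHom.mem_ker.mp u.2)
            simpa using this
          calc ((u : Fˣ) : F) ^ p ^ k = ((u : Fˣ) : F) ^ (p ^ k - 1 + 1) := by congr 1; omega
            _ = ((u : Fˣ) : F) := by rw [pow_succ, h1, one_mul]⟩ (fun h => (u : Fˣ).ne_zero (congrArg Subtype.val h))
      invFun := fun u => ⟨Units.mk0 ((u : F₁) : F) (fun h => u.ne_zero (Subtype.ext h)), by
          rw [MonoidHom.mem_ker]
          apply Units.ext
          simp only [powMonoidHom_apply, Units.val_pow_eq_pow_val, Units.val_mk0, Units.val_one]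
          have h1 : ((u : F₁) : F) ^ p ^ k = ((u : F₁) : F) := (hmem _).mp (u : F₁).2
          have h2 : ((u : F₁) : F) ≠ 0 := fun h => u.ne_zero (Subtype.ext h)
          refine mul_right_cancel₀ h2 ?_
          rw [← pow_succ, show p ^ k - 1 + 1 = p ^ k by omega, h1, one_mul]⟩
      left_inv := fun u => by ext; simp
      right_inv := fun u => by ext; simp }
  rw [Nat.card_congr he, Nat.card_units] at hker
  have := one_lt_natCard_subfield F₁
  omega

/-- Every proper subfield lies in a subfield of prime index. -/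
theorem exists_prime_index {q₀ m : ℕ} (hm : 1 < m) (hQ : Fintype.card F = q₀ ^ m) :
    ∃ (F₁ : Subfield F) (r : ℕ), r.Prime ∧ Fintype.card F = Nat.card F₁ ^ r ∧ ∀ x : F, x ^ q₀ = x → x ∈ F₁ := by
  have hr : m.minFac.Prime := Nat.minFac_prime (by omega)
  obtain ⟨j, hj⟩ : m.minFac ∣ m := Nat.minFac_dvd m
  have hQ' : Fintype.card F = (q₀ ^ j) ^ m.minFac := by rw [hQ, ← pow_mul, mul_comm, ← hj]
  obtain ⟨F₁, hcard, hmem⟩ := exists_subfield_card hr.pos hQ'
  refine ⟨F₁, _, hr, hcard ▸ hQ', fun x hx => (hmem x).mpr ?_⟩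
  clear hQ' hcard hmem hj
  induction j with
  | zero => simp
  | succ j ih => rw [pow_succ, pow_mul, ih, hx]

theorem exists_prime_index_above (F₀ : Subfield F) (hF₀ : F₀ ≠ ⊤) :
    ∃ (F₁ : Subfield F) (r : ℕ), r.Prime ∧ Fintype.card F = Nat.card F₁ ^ r ∧ F₀ ≤ F₁ := by
  obtain ⟨m, hm0, hm⟩ := exists_card_pow F₀
  have hm1 : 1 < m := by
    rcases Nat.lt_or_ge 1 m with h | h
    · exact h
    · have : m = 1 := by omega
      exact absurd ((subfield_eq_top_iff F₀).mpr (by rw [hm, this, pow_one])) hF₀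
  obtain ⟨F₁, r, hr, hc, hmem⟩ := exists_prime_index hm1 hm
  exact ⟨F₁, r, hr, hc, fun x hx => hmem x ((mem_subfield_iff_pow F₀ x).mp hx)⟩

/-- The norm to the subfield of index two is surjective. -/
theorem exists_norm_eq {q : ℕ} (hQ : Fintype.card F = q ^ 2) {c : F} (hc : c ^ q = c) :
    ∃ s : F, s ^ (q + 1) = c := by
  classical
  rcases eq_or_ne c 0 with rfl | hc0
  · exact ⟨0, by simp⟩
  have hq : 1 < q := by
    by_contra h
    have h1 : q ≤ 1 := by omega
    interval_cases q <;> simp at hQ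
    exact absurd hQ Fintype.one_lt_card.ne'
  have hfac : q ^ 2 - 1 = (q - 1) * (q + 1) := by
    have : q ^ 2 - 1 = (q + 1) * (q - 1) := by
      have := Nat.sq_sub_sq q 1
      simpa using this
    rw [this, mul_comm]
  have hle : (powMonoidHom (q + 1) : Fˣ →* Fˣ).range ≤ (powMonoidHom (q - 1) : Fˣ →* Fˣ).ker := by
    rintro _ ⟨u, rfl⟩
    rw [MonoidHom.mem_ker, powMonoidHom_apply, powMonoidHom_apply, ← pow_mul, mul_comm, ← hfac, ← hQ,
      ← Fintype.card_units, pow_card_eq_one]
  have heq : (powMonoidHom (q + 1) : Fˣ →* Fˣ).range = (powMonoidHom (q - 1) : Fˣ →* Fˣ).ker := by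
    refine Subgroup.eq_of_le_of_card_ge hle ?_
    rw [IsCyclic.card_powMonoidHom_ker, IsCyclic.card_powMonoidHom_range, Nat.card_units, Nat.card_eq_fintype_card,
      hQ, hfac, Nat.gcd_eq_right (dvd_mul_right _ _), Nat.gcd_eq_right (dvd_mul_left _ _), Nat.mul_div_cancel _ (by omega)]
  have hmem : Units.mk0 c hc0 ∈ (powMonoidHom (q - 1) : Fˣ →* Fˣ).ker := by
    rw [MonoidHom.mem_ker]
    apply Units.ext
    simp only [powMonoidHom_apply, Units.val_pow_eq_pow_val, Units.val_mk0, Units.val_one]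
    refine mul_right_cancel₀ hc0 ?_
    rw [← pow_succ, show q - 1 + 1 = q by omega, hc, one_mul]
  rw [← heq] at hmem
  obtain ⟨s, hs⟩ := hmem
  exact ⟨(s : F), by simpa using congrArg Units.val hs⟩

/-- In characteristic two squaring is surjective. -/
theorem exists_sq_of_even (h : Even (Fintype.card F)) (c : F) : ∃ s : F, s ^ 2 = c := by
  have h2 : ringChar F = 2 := FiniteField.even_card_iff_char_two.mpr (Nat.even_iff.mp h)
  haveI : CharP F 2 := ringChar.of_eq h2
  haveI : Fact (Nat.Prime 2) := ⟨Nat.prime_two⟩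
  exact (PerfectRing.bijective_frobenius (R := F) (p := 2)).2 c

end Cfsg.Agent.Aschbacher
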