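import Cfsg.Agent.Aschbacher.Prime
import Cfsg.Agent.Aschbacher.FieldAux

/-!
Descent of normalisers to subfields, Gram matrices and uniqueness of invariant forms.
-/

set_option autoImplicit false
set_option linter.unusedSectionVars false
set_option linter.style.haveILetI false

namespace Cfsg.Agent.Aschbacher

open scoped MatrixGroups Matrix
open Module

variable {ι : Type} [Fintype ι] [DecidableEq ι] {F : Type*} [Field F]

/-- All entries lie in the subfield. -/
def Rational (F₀ : Subfield F) (A : Matrix ι ι F) : Prop := ∀ i j, A i j ∈ F₀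

theorem Rational.mul {F₀ : Subfield F} {A B : Matrix ι ι F} (hA : Rational F₀ A) (hB : Rational F₀ B) :
    Rational F₀ (A * B) := fun i j => by
  rw [Matrix.mul_apply]
  exact sum_mem fun k _ => mul_mem (hA i k) (hB k j)

theorem Rational.transpose {F₀ : Subfield F} {A : Matrix ι ι F} (hA : Rational F₀ A) : Rational F₀ Aᵀ :=
  fun i j => hA j i

theorem Rational.det {F₀ : Subfield F} {A : Matrix ι ι F} (hA : Rational F₀ A) : A.det ∈ F₀ := by
  rw [Matrix.det_apply']
  exact sum_mem fun σ _ => mul_mem (intCast_mem _ _) (prod_mem fun i _ => hA _ _)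

theorem Rational.map {F₀ : Subfield F} [Fintype F] {A : Matrix ι ι F} (hA : Rational F₀ A) (σ : F →+* F) :
    Rational F₀ (A.map σ) := fun i j => ringHom_mem_subfield σ F₀ (hA i j)

/-- An intertwiner of two rational systems which is unique up to scalars is rational up to a scalar. -/
theorem exists_rational_multiple (F₀ : Subfield F) {α : Type*} (a b : α → Matrix ι ι F)
    (ha : ∀ k, Rational F₀ (a k)) (hb : ∀ k, Rational F₀ (b k)) {x : Matrix ι ι F} (hx0 : x ≠ 0)
    (hx : ∀ k, x * a k = b k * x)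
    (huniq : ∀ y : Matrix ι ι F, (∀ k, y * a k = b k * y) → ∃ c : F, y = c • x) :
    ∃ c : F, c ≠ 0 ∧ Rational F₀ (c • x) := by
  obtain ⟨i, j, hij⟩ : ∃ i j, x i j ≠ 0 := by
    by_contra h
    push Not at h
    exact hx0 (Matrix.ext h)
  obtain ⟨φ, hφ⟩ : ∃ φ : F →ₗ[F₀] F₀, φ (x i j) ≠ 0 := by
    by_contra h
    push Not at h
    exact hij ((Module.forall_dual_apply_eq_zero_iff F₀ (x i j)).mp h)
  let y : Matrix ι ι F := fun s t => ((φ (x s t) : F₀) : F)
  have hy : ∀ k, y * a k = b k * y := by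
    intro k
    ext s t
    have h1 : φ ((x * a k) s t) = φ ((b k * x) s t) := by rw [hx k]
    simp only [Matrix.mul_apply, map_sum] at h1 ⊢
    have e1 : ∀ l, φ (x s l * a k l t) = ⟨a k l t, ha k l t⟩ * φ (x s l) := fun l => by
      rw [mul_comm, ← smul_eq_mul (⟨a k l t, ha k l t⟩ : F₀), ← map_smul]
      rfl
    have e2 : ∀ l, φ (b k s l * x l t) = ⟨b k s l, hb k s l⟩ * φ (x l t) := fun l => by
      rw [← smul_eq_mul (⟨b k s l, hb k s l⟩ : F₀), ← map_smul]
      rfl
    simp only [e1, e2] at h1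
    have h2 := congrArg Subtype.val h1
    push_cast at h2
    simpa [y, mul_comm] using h2
  obtain ⟨c, hc⟩ := huniq y hy
  refine ⟨c, ?_, fun s t => ?_⟩
  · rintro rfl
    have : y i j = 0 := by rw [hc]; simp
    exact hφ (Subtype.ext this)
  · rw [← hc]
    exact (φ (x s t)).2

theorem mulVec_basis_matrix (B : Matrix ι ι F) (v : ι → F) : B *ᵥ v = ∑ i, v i • B.col i := by
  ext j
  simp [Matrix.mulVec, dotProduct, mul_comm]

theorem mem_scalars_smul {c : F} (hc : c ≠ 0) :
    ∃ z ∈ Geo.scalars ι F, (z : Matrix ι ι F) = c • (1 : Matrix ι ι F) := by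
  refine ⟨Units.map (Matrix.scalar ι : F →+* Matrix ι ι F).toMonoidHom (Units.mk0 c hc), ⟨_, rfl⟩, ?_⟩
  simp [Matrix.smul_one_eq_diagonal]

/-- Membership in a subfield group from a rational multiple of a conjugate. -/
theorem mem_subfieldSubgroup {F₀ : Subfield F} {P g : GL ι F} {c : F} (hc : c ≠ 0)
    (h : Rational F₀ (c • ((P⁻¹ * g * P : GL ι F) : Matrix ι ι F))) : g ∈ Geo.subfieldSubgroup F₀ P := by
  set A : Matrix ι ι F := c • ((P⁻¹ * g * P : GL ι F) : Matrix ι ι F) with hA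
  let A₀ : Matrix ι ι F₀ := fun i j => ⟨A i j, h i j⟩
  have hmap : A₀.map F₀.subtype = A := by ext i j; rfl
  have hdet : A₀.det ≠ 0 := by
    intro h0
    have h1 : A.det = 0 := by rw [← hmap, ← RingHom.mapMatrix_apply, ← RingHom.map_det, h0, map_zero]
    rw [hA, Matrix.det_smul] at h1
    rcases mul_eq_zero.mp h1 with h2 | h2
    · exact hc (pow_eq_zero_iff'.mp h2).1
    · exact ((P⁻¹ * g * P : GL ι F).isUnit.map (Matrix.detMonoidHom)).ne_zero h2
  let u : GL ι F₀ := Matrix.GeneralLinearGroup.mkOfDetNeZero A₀ hdet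
  obtain ⟨z, hz, hzc⟩ := mem_scalars_smul (ι := ι) (inv_ne_zero hc)
  refine ⟨Matrix.GeneralLinearGroup.map F₀.subtype u * z,
    mul_mem (Subgroup.mem_sup_left ⟨u, rfl⟩) (Subgroup.mem_sup_right hz), ?_⟩
  have hval : Matrix.GeneralLinearGroup.map F₀.subtype u * z = P⁻¹ * g * P := by
    apply Units.ext
    rw [Units.val_mul, hzc]
    show A₀.map F₀.subtype * _ = _
    rw [hmap, hA, Matrix.mul_smul, Matrix.mul_one, smul_smul, inv_mul_cancel₀ hc, one_smul]
  rw [hval]
  simp [mul_assoc]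

/-- The normaliser of an absolutely irreducible rational group lies in the subfield group. -/
theorem le_subfieldSubgroup [Nonempty ι] {F₀ : Subfield F} {B : GL ι F} {P H : Subgroup (GL ι F)}
    (habs : Geo.ActsAbsolutelyIrreducibly (Geo.matrixSet P)) (hn : NormalIn P H)
    (hP : ∀ s ∈ P, Rational F₀ ((B * s * B⁻¹ : GL ι F) : Matrix ι ι F)) : H ≤ Geo.subfieldSubgroup F₀ B⁻¹ := by
  intro g hg
  have huniq : ∀ y : Matrix ι ι F, (∀ s : P, y * ((B * s * B⁻¹ : GL ι F) : Matrix ι ι F) =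
      ((B * (g * s * g⁻¹) * B⁻¹ : GL ι F) : Matrix ι ι F) * y) →
      ∃ c : F, y = c • ((B * g * B⁻¹ : GL ι F) : Matrix ι ι F) := by
    intro y hy
    set x : GL ι F := B * g * B⁻¹ with hx
    have h1 : ∀ m ∈ Geo.matrixSet P,
        (((B⁻¹ * x⁻¹ : GL ι F) : Matrix ι ι F) * y * (B : Matrix ι ι F)) * m =
          m * (((B⁻¹ * x⁻¹ : GL ι F) : Matrix ι ι F) * y * (B : Matrix ι ι F)) := by
      rintro _ ⟨s, hs, rfl⟩
      have h2 := hy ⟨s, hs⟩
      have e2 : B⁻¹ * x⁻¹ * (B * (g * s * g⁻¹) * B⁻¹) = s * (B⁻¹ * x⁻¹) := by rw [hx]; group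
      calc ((B⁻¹ * x⁻¹ : GL ι F) : Matrix ι ι F) * y * (B : Matrix ι ι F) * (s : Matrix ι ι F)
          = ((B⁻¹ * x⁻¹ : GL ι F) : Matrix ι ι F) * (y * ((B * s * B⁻¹ : GL ι F) : Matrix ι ι F)) *
              (B : Matrix ι ι F) := by
            simp [mul_assoc]
        _ = ((B⁻¹ * x⁻¹ * (B * (g * s * g⁻¹) * B⁻¹) : GL ι F) : Matrix ι ι F) * y * (B : Matrix ι ι F) := by
            rw [h2]; simp [mul_assoc]
        _ = (s : Matrix ι ι F) * (((B⁻¹ * x⁻¹ : GL ι F) : Matrix ι ι F) * y * (B : Matrix ι ι F)) := by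
            rw [e2]; simp [mul_assoc]
    obtain ⟨d, hd⟩ := habs.2 _ h1
    refine ⟨d, ?_⟩
    have h3 := congrArg (fun M => ((x * B : GL ι F) : Matrix ι ι F) * M * ((B⁻¹ : GL ι F) : Matrix ι ι F)) hd
    simp only [Matrix.mul_smul, Matrix.smul_mul, Matrix.mul_one] at h3
    rw [← Units.val_mul, show x * B * B⁻¹ = x by group] at h3
    rw [← h3]
    simp [mul_assoc]
  obtain ⟨c, hc, hrat⟩ := exists_rational_multiple F₀
    (fun s : P => ((B * s * B⁻¹ : GL ι F) : Matrix ι ι F))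
    (fun s : P => ((B * (g * s * g⁻¹) * B⁻¹ : GL ι F) : Matrix ι ι F))
    (fun s => hP s s.2) (fun s => hP _ (hn g hg s s.2)) (x := ((B * g * B⁻¹ : GL ι F) : Matrix ι ι F))
    (B * g * B⁻¹).ne_zero (fun s => by rw [← Units.val_mul, ← Units.val_mul]; congr 1; group) huniq
  exact mem_subfieldSubgroup hc (by simpa [mul_assoc] using hrat)

/-! ### Gram matrices -/

/-- `f` has Gram matrix `G` with respect to `σ`. -/
def IsGram (σ : F →+* F) (f : (ι → F) → (ι → F) → F) (G : Matrix ι ι F) : Prop :=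
  ∀ u v, f u v = u ⬝ᵥ (G *ᵥ fun i => σ (v i))

theorem mulVec_comp (σ : F →+* F) (A : Matrix ι ι F) (v : ι → F) :
    (fun i => σ ((A *ᵥ v) i)) = A.map σ *ᵥ fun i => σ (v i) := by
  funext i
  exact RingHom.map_mulVec σ A v i

theorem single_comp (σ : F →+* F) (i : ι) : (fun k => σ ((Pi.single i (1 : F) : ι → F) k)) = Pi.single i (1 : F) := by
  funext k
  rcases eq_or_ne k i with rfl | h
  · simp
  · simp [Pi.single_eq_of_ne h]

theorem IsGram.apply_single {σ : F →+* F} {f : (ι → F) → (ι → F) → F} {G : Matrix ι ι F} (h : IsGram σ f G)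
    (i j : ι) : f (Pi.single i 1) (Pi.single j 1) = G i j := by
  rw [h, single_comp, single_dotProduct, Matrix.mulVec_single_one, one_mul]
  rfl

theorem exists_gram (σ : F →+* F) (f : (ι → F) → (ι → F) → F) (hal : ∀ x y v, f (x + y) v = f x v + f y v)
    (hsl : ∀ (c : F) x v, f (c • x) v = c * f x v) (har : ∀ v x y, f v (x + y) = f v x + f v y)
    (hsr : ∀ (c : F) v x, f v (c • x) = σ c * f v x) : IsGram σ f (Geo.gramMatrix f) := by
  intro u v
  let Ll : (ι → F) → ((ι → F) →ₗ[F] F) := fun w =>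
    { toFun := fun x => f x w, map_add' := fun a b => hal a b w, map_smul' := fun c a => hsl c a w }
  let Rl : (ι → F) → ((ι → F) →ₛₗ[σ] F) := fun w =>
    { toFun := fun x => f w x, map_add' := fun a b => har w a b, map_smul' := fun c a => by simp [hsr] }
  have hu : f u v = ∑ i, u i * f (Pi.single i 1) v := by
    show Ll v u = _
    conv_lhs => rw [pi_eq_sum_univ' u]
    simp [Ll, map_sum, smul_eq_mul]
  have hv : ∀ i : ι, f (Pi.single i 1) v = ∑ j, σ (v j) * f (Pi.single i 1) (Pi.single j 1) := fun i => by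
    show Rl (Pi.single i 1) v = _
    conv_lhs => rw [pi_eq_sum_univ' v]
    simp [Rl, map_sum, smul_eq_mul]
  rw [hu]
  refine Finset.sum_congr rfl fun i _ => ?_
  rw [hv]
  simp [Matrix.mulVec, dotProduct, Geo.gramMatrix, mul_comm]

theorem IsGram.inj {σ : F →+* F} {f : (ι → F) → (ι → F) → F} {G G' : Matrix ι ι F} (h : IsGram σ f G)
    (h' : IsGram σ f G') : G = G' :=
  Matrix.ext fun i j => by rw [← h.apply_single, h'.apply_single]

theorem IsGram.comp {σ : F →+* F} {f : (ι → F) → (ι → F) → F} {G : Matrix ι ι F} (h : IsGram σ f G)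
    (A : Matrix ι ι F) : IsGram σ (fun u v => f (A *ᵥ u) (A *ᵥ v)) (Aᵀ * G * A.map σ) := by
  intro u v
  show f (A *ᵥ u) (A *ᵥ v) = _
  rw [h, mulVec_comp, ← Matrix.mulVec_mulVec, ← Matrix.mulVec_mulVec, Matrix.dotProduct_mulVec u Aᵀ,
    Matrix.vecMul_transpose]

theorem IsGram.smul {σ : F →+* F} {f : (ι → F) → (ι → F) → F} {G : Matrix ι ι F} (h : IsGram σ f G)
    (c : F) : IsGram σ (fun u v => c * f u v) (c • G) := by
  intro u v
  show c * f u v = _
  rw [h, Matrix.smul_mulVec, dotProduct_smul, smul_eq_mul]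

theorem gram_isUnit [Finite F] {σ : F →+* F} {f : (ι → F) → (ι → F) → F} {G : Matrix ι ι F}
    (h : IsGram σ f G) (hnd : Geo.IsNondegenerateForm f) : IsUnit G := by
  refine Matrix.mulVec_injective_iff_isUnit.mp fun a b hab => sub_eq_zero.mp ?_
  have hw : G *ᵥ (a - b) = 0 := by rw [Matrix.mulVec_sub]; exact sub_eq_zero.mpr hab
  generalize a - b = w at hw ⊢
  by_contra hw0
  have hσ : Function.Bijective σ := Finite.injective_iff_bijective.mp σ.injective
  choose v hv using fun i => hσ.2 (w i)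
  have hv0 : v ≠ 0 := fun hv0 => hw0 (funext fun i => by rw [← hv i, hv0]; simp)
  obtain ⟨x, hx⟩ := (hnd v hv0).1
  refine hx ?_
  rw [h, show (fun i => σ (v i)) = w from funext hv, hw, dotProduct_zero]

theorem preserves_iff_gram {σ : F →+* F} {f : (ι → F) → (ι → F) → F} {G : Matrix ι ι F} (h : IsGram σ f G)
    (A : Matrix ι ι F) : (∀ u v, f (A *ᵥ u) (A *ᵥ v) = f u v) ↔ Aᵀ * G * A.map σ = G := by
  constructor
  · intro hp
    exact (h.comp A).inj (fun u v => by rw [← h u v]; exact hp u v)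
  · intro hA u v
    have h1 := h.comp A u v
    rw [hA] at h1
    exact h1.trans (h u v).symm

/-- Two forms preserved by an absolutely irreducible group, the first non-degenerate, are proportional. -/
theorem gram_unique [Finite F] {σ : F →+* F} {G G' : Matrix ι ι F} (hG : IsUnit G) {P : Subgroup (GL ι F)}
    (habs : Geo.ActsAbsolutelyIrreducibly (Geo.matrixSet P))
    (h : ∀ s ∈ P, (s : Matrix ι ι F)ᵀ * G * (s : Matrix ι ι F).map σ = G)
    (h' : ∀ s ∈ P, (s : Matrix ι ι F)ᵀ * G' * (s : Matrix ι ι F).map σ = G') : ∃ c : F, G' = c • G := by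
  obtain ⟨u, rfl⟩ := hG
  let σe : F ≃+* F := RingEquiv.ofBijective σ (Finite.injective_iff_bijective.mp σ.injective)
  set X : Matrix ι ι F := ((u⁻¹ : GL ι F) : Matrix ι ι F) * G'
  have hcomm : ∀ s ∈ P, (s : Matrix ι ι F).map σ * X = X * (s : Matrix ι ι F).map σ := by
    intro s hs
    have hu : (u : Matrix ι ι F) * (s : Matrix ι ι F).map σ =
        ((s⁻¹ : GL ι F) : Matrix ι ι F)ᵀ * (u : Matrix ι ι F) := by
      calc _ = ((s⁻¹ : GL ι F) : Matrix ι ι F)ᵀ * ((s : Matrix ι ι F)ᵀ * (u : Matrix ι ι F) * (s : Matrix ι ι F).map σ) := by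
            rw [← mul_assoc, ← mul_assoc, ← Matrix.transpose_mul, ← Units.val_mul, mul_inv_cancel, Units.val_one,
              Matrix.transpose_one, one_mul]
        _ = _ := by rw [h s hs]
    have hg' : G' * (s : Matrix ι ι F).map σ = ((s⁻¹ : GL ι F) : Matrix ι ι F)ᵀ * G' := by
      calc _ = ((s⁻¹ : GL ι F) : Matrix ι ι F)ᵀ * ((s : Matrix ι ι F)ᵀ * G' * (s : Matrix ι ι F).map σ) := by
            rw [← mul_assoc, ← mul_assoc, ← Matrix.transpose_mul, ← Units.val_mul, mul_inv_cancel, Units.val_one,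
              Matrix.transpose_one, one_mul]
        _ = _ := by rw [h' s hs]
    have hu' : ((u⁻¹ : GL ι F) : Matrix ι ι F) * ((s⁻¹ : GL ι F) : Matrix ι ι F)ᵀ =
        (s : Matrix ι ι F).map σ * ((u⁻¹ : GL ι F) : Matrix ι ι F) := by
      have h2 := congrArg (fun M => ((u⁻¹ : GL ι F) : Matrix ι ι F) * M * ((u⁻¹ : GL ι F) : Matrix ι ι F)) hu
      simp only [← mul_assoc, Units.inv_mul, one_mul] at h2
      simpa [mul_assoc] using h2.symm
    calc (s : Matrix ι ι F).map σ * X
        = ((u⁻¹ : GL ι F) : Matrix ι ι F) * ((s⁻¹ : GL ι F) : Matrix ι ι F)ᵀ * G' := by rw [hu', mul_assoc]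
      _ = ((u⁻¹ : GL ι F) : Matrix ι ι F) * (G' * (s : Matrix ι ι F).map σ) := by rw [hg', mul_assoc]
      _ = X * (s : Matrix ι ι F).map σ := (mul_assoc _ _ _).symm
  have hY : ∀ m ∈ Geo.matrixSet P, (X.map σe.symm) * m = m * (X.map σe.symm) := by
    rintro _ ⟨s, hs, rfl⟩
    have h1 := congrArg (fun M => σe.symm.toRingHom.mapMatrix M) (hcomm s hs).symm
    simp only [map_mul] at h1
    have h2 : σe.symm.toRingHom.mapMatrix ((s : Matrix ι ι F).map σ) = (s : Matrix ι ι F) := by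
      ext i j
      exact σe.symm_apply_apply _
    rw [h2] at h1
    exact h1
  obtain ⟨d, hd⟩ := habs.2 _ hY
  refine ⟨σ d, ?_⟩
  have hX : X = σ d • (1 : Matrix ι ι F) := by
    ext i j
    have h1 := congrFun (congrFun hd i) j
    simp only [Matrix.map_apply, Matrix.smul_apply, smul_eq_mul] at h1 ⊢
    rw [← σe.apply_symm_apply (X i j), h1]
    show σ _ = _
    rcases eq_or_ne i j with rfl | hij
    · simp
    · simp [Matrix.one_apply_ne hij]
  calc G' = (u : Matrix ι ι F) * X := by rw [← mul_assoc, ← Units.val_mul, mul_inv_cancel, Units.val_one, one_mul]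
    _ = σ d • (u : Matrix ι ι F) := by rw [hX, Matrix.mul_smul, Matrix.mul_one]

/-- The normaliser of an absolutely irreducible group fixing a form consists of similarities. -/
theorem le_similarityGroup [Finite F] [Nonempty ι] {σ : F →+* F} {f : (ι → F) → (ι → F) → F} {G : Matrix ι ι F}
    (hf : IsGram σ f G) (hnd : Geo.IsNondegenerateForm f) {P H : Subgroup (GL ι F)}
    (habs : Geo.ActsAbsolutelyIrreducibly (Geo.matrixSet P)) (hn : NormalIn P H)
    (hP : Geo.FixesForm (Geo.matrixSet P) f) : H ≤ Geo.similarityGroup f := by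
  intro g hg
  have hGu := gram_isUnit hf hnd
  have hg' := hf.comp (g : Matrix ι ι F)
  obtain ⟨c, hc⟩ := gram_unique (σ := σ) hGu habs
    (G' := (g : Matrix ι ι F)ᵀ * G * (g : Matrix ι ι F).map σ)
    (fun s hs => (preserves_iff_gram hf _).mp (hP _ ⟨s, hs, rfl⟩))
    (fun s hs => (preserves_iff_gram hg' _).mp fun u v => by
      have hy := hn g hg s hs
      have h1 := hP _ ⟨_, hy, rfl⟩ ((g : Matrix ι ι F) *ᵥ u) ((g : Matrix ι ι F) *ᵥ v)
      have e : ∀ w : ι → F, ((g * s * g⁻¹ : GL ι F) : Matrix ι ι F) *ᵥ ((g : Matrix ι ι F) *ᵥ w) =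
          (g : Matrix ι ι F) *ᵥ ((s : Matrix ι ι F) *ᵥ w) := fun w => by
        rw [Matrix.mulVec_mulVec, Matrix.mulVec_mulVec, ← Units.val_mul, ← Units.val_mul]
        congr 2
        group
      rw [e, e] at h1
      exact h1)
  have hc0 : c ≠ 0 := by
    rintro rfl
    rw [zero_smul] at hc
    have hu : IsUnit ((g : Matrix ι ι F)ᵀ * G * (g : Matrix ι ι F).map σ) :=
      (((Matrix.isUnit_transpose (A := (g : Matrix ι ι F))).mpr g.isUnit).mul hGu).mul (g.isUnit.map σ.mapMatrix)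
    rw [hc] at hu
    exact not_isUnit_zero hu
  refine ⟨Units.mk0 c hc0, fun u v => ?_⟩
  have h1 := hg' u v
  rw [hc] at h1
  exact h1.trans ((hf.smul c) u v).symm

/-- A non-degenerate alternating matrix has even size. -/
theorem det_eq_zero_of_alternating (hodd : Odd (Fintype.card ι)) {G : Matrix ι ι F} (hdiag : ∀ i, G i i = 0)
    (hskew : ∀ i j, G i j = - G j i) : G.det = 0 := by
  rw [Matrix.det_apply']
  have key : ∀ σ : Equiv.Perm ι,
      ((σ⁻¹).sign : F) * ∏ i, G (σ⁻¹ i) i = - ((σ.sign : F) * ∏ i, G (σ i) i) := by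
    intro σ
    have h1 : ∏ i, G (σ⁻¹ i) i = ∏ i, G i (σ i) := by
      refine (Equiv.prod_comp σ (fun i => G (σ⁻¹ i) i)).symm.trans (Finset.prod_congr rfl fun i _ => ?_)
      simp
    rw [h1, Equiv.Perm.sign_inv]
    simp_rw [fun i => hskew i (σ i)]
    rw [Finset.prod_neg, Finset.card_univ, hodd.neg_one_pow]
    ring
  refine Finset.sum_involution (fun σ _ => σ⁻¹) ?_ ?_ (fun σ _ => Finset.mem_univ _) (fun σ _ => inv_inv σ)
  · intro σ _
    rw [key σ]
    ring
  · intro σ _ hne heq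
    refine hne ?_
    haveI : Fact (Nat.Prime 2) := ⟨Nat.prime_two⟩
    have h2 : σ ^ 2 ^ 1 = 1 := by
      rw [pow_one, pow_two]
      nth_rw 1 [← heq]
      exact inv_mul_cancel σ
    obtain ⟨i, hi⟩ := Equiv.Perm.exists_fixed_point_of_prime (p := 2) (by
      rintro ⟨k, hk⟩
      obtain ⟨l, hl⟩ := hodd
      omega) h2
    have hz : G (σ i) i = 0 := by rw [hi]; exact hdiag i
    exact mul_eq_zero_of_right _ (Finset.prod_eq_zero (Finset.mem_univ i) hz)

end Cfsg.Agent.Aschbacher
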