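import Cfsg.Agent.Aschbacher.Basic

/-!
Structure of irreducible subgroups of GL(n, F) for prime n: frame, field normaliser, class two, or almost simple.
-/

set_option autoImplicit false
set_option linter.unusedSectionVars false
set_option linter.style.haveILetI false

namespace Cfsg.Agent.Aschbacher

open scoped MatrixGroups Matrix commutatorElement
open Module

variable {ι : Type} [Fintype ι] [DecidableEq ι] {F : Type*} [Field F]

/-- A matrix commuting with an irreducible group is zero or injective. -/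
theorem eq_zero_or_injective {M : Subgroup (GL ι F)} (hM : Irr M) {m : Matrix ι ι F}
    (hm : ∀ x ∈ M, m * (x : Matrix ι ι F) = (x : Matrix ι ι F) * m) :
    m = 0 ∨ Function.Injective fun v : ι → F => m *ᵥ v := by
  have hinv : Inv M (LinearMap.ker (Matrix.toLin' m)) := by
    intro x hx w hw
    simp only [LinearMap.mem_ker, Matrix.toLin'_apply] at hw ⊢
    rw [Matrix.mulVec_mulVec, hm x hx, ← Matrix.mulVec_mulVec, hw, Matrix.mulVec_zero]
  rcases hM _ hinv with h | h
  · right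
    intro a b hab
    exact LinearMap.ker_eq_bot.mp h (by simpa using hab)
  · left
    refine Matrix.toLin'.injective (LinearMap.ext fun v => ?_)
    have hv : v ∈ LinearMap.ker (Matrix.toLin' m) := h ▸ Submodule.mem_top
    simpa using hv

/-- Commutative subalgebras centralising an irreducible group are fields of degree dividing the dimension,
self-centralising when the degree is the dimension. -/
theorem field_of_centralizing {M : Subgroup (GL ι F)} (hM : Irr M) (hι : Nonempty ι)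
    (K : Subalgebra F (Matrix ι ι F)) (hcomm : ∀ x ∈ K, ∀ y ∈ K, x * y = y * x)
    (hK : ∀ k ∈ K, ∀ x ∈ M, k * (x : Matrix ι ι F) = (x : Matrix ι ι F) * k) :
    Geo.IsFieldSubalgebra (finrank F K) K ∧ finrank F K ∣ Fintype.card ι ∧
      (finrank F K = Fintype.card ι → ∀ y : Matrix ι ι F, (∀ k ∈ K, k * y = y * k) → y ∈ K) := by
  have hinj : ∀ k ∈ K, k ≠ 0 → Function.Injective fun v : ι → F => k *ᵥ v :=
    fun k hk h0 => (eq_zero_or_injective hM (hK k hk)).resolve_left h0
  have hinv : ∀ k ∈ K, k ≠ 0 → ∃ l ∈ K, k * l = 1 := by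
    intro k hk h0
    let f : K →ₗ[F] K := LinearMap.mulLeft F (⟨k, hk⟩ : K)
    have hf : Function.Injective f := by
      intro a b hab
      have h1 : k * (a : Matrix ι ι F) = k * (b : Matrix ι ι F) := congrArg Subtype.val hab
      refine Subtype.ext (Matrix.ext_of_mulVec_single fun i => hinj k hk h0 ?_)
      simp only [Matrix.mulVec_mulVec, h1]
    obtain ⟨l, hl⟩ := (LinearMap.injective_iff_surjective.mp hf) 1
    exact ⟨l, l.2, congrArg Subtype.val hl⟩
  refine ⟨⟨hcomm, hinv, rfl⟩, ?_, ?_⟩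
  · let ev : (ι → F) → (K →ₗ[F] (ι → F)) := fun v =>
      { toFun := fun k => (k : Matrix ι ι F) *ᵥ v
        map_add' := fun a b => by simp [Matrix.add_mulVec]
        map_smul' := fun c a => by simp [Matrix.smul_mulVec] }
    let T : Set (Submodule F (ι → F)) := {W | ∃ v : ι → F, v ≠ 0 ∧ W = LinearMap.range (ev v)}
    refine dvd_card_of_family (fun U => ∀ k ∈ K, ∀ u ∈ U, k *ᵥ u ∈ U) T ?_ ?_ ?_ ?_ ?_
    · intro k _ u hu
      simp [(Submodule.mem_bot F).mp hu]
    · rintro U _ hU ⟨v, -, rfl⟩ k hk u hu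
      obtain ⟨a, ha, b, ⟨c, rfl⟩, rfl⟩ := Submodule.mem_sup.mp hu
      rw [Matrix.mulVec_add]
      exact Submodule.add_mem_sup (hU k hk a ha)
        ⟨⟨k, hk⟩ * c, by simp [ev, Matrix.mulVec_mulVec]⟩
    · rintro U _ hU ⟨v, hv, rfl⟩
      refine or_iff_not_imp_right.mpr fun hne => ?_
      obtain ⟨w, ⟨⟨k, rfl⟩, hwU⟩, hw0⟩ := (Submodule.ne_bot_iff _).mp hne
      have hk0 : (k : Matrix ι ι F) ≠ 0 := fun h => hw0 (by simp [ev, h])
      obtain ⟨l, hl, hkl⟩ := hinv k k.2 hk0
      have hvU : v ∈ U := by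
        have := hU l hl _ hwU
        simpa [ev, Matrix.mulVec_mulVec, ← hcomm (k : Matrix ι ι F) k.2 l hl, hkl] using this
      rintro _ ⟨j, rfl⟩
      exact hU j j.2 v hvU
    · rintro _ ⟨v, hv, rfl⟩
      refine LinearMap.finrank_range_of_inj ?_
      rw [← LinearMap.ker_eq_bot, Submodule.eq_bot_iff]
      intro k hk
      simp only [LinearMap.mem_ker, ev, LinearMap.coe_mk, AddHom.coe_mk] at hk
      by_contra h0
      exact hv (hinj k k.2 (fun h => h0 (Subtype.ext h)) (by simpa using hk))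
    · refine top_le_iff.mp fun v _ => ?_
      rcases eq_or_ne v 0 with rfl | hv
      · exact Submodule.zero_mem _
      · exact le_sSup (show LinearMap.range (ev v) ∈ T from ⟨v, hv, rfl⟩) ⟨1, by simp [ev]⟩
  · intro hfin y hy
    obtain ⟨v, hv⟩ := exists_ne (0 : ι → F)
    let e : K →ₗ[F] (ι → F) :=
      { toFun := fun k => (k : Matrix ι ι F) *ᵥ v
        map_add' := fun a b => by simp [Matrix.add_mulVec]
        map_smul' := fun c a => by simp [Matrix.smul_mulVec] }
    have he : Function.Injective e := by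
      rw [← LinearMap.ker_eq_bot, Submodule.eq_bot_iff]
      intro k hk
      simp only [LinearMap.mem_ker, e, LinearMap.coe_mk, AddHom.coe_mk] at hk
      by_contra h0
      exact hv (hinj k k.2 (fun h => h0 (Subtype.ext h)) (by simpa using hk))
    have hes : Function.Surjective e :=
      (LinearMap.injective_iff_surjective_of_finrank_eq_finrank (by rw [hfin, Module.finrank_pi])).mp he
    obtain ⟨k, hk⟩ := hes (y *ᵥ v)
    have heq : y = (k : Matrix ι ι F) := by
      refine Matrix.ext_of_mulVec_single fun i => ?_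
      obtain ⟨j, hj⟩ := hes (Pi.single i 1)
      simp only [e, LinearMap.coe_mk, AddHom.coe_mk] at hj hk
      rw [← hj, Matrix.mulVec_mulVec, ← hy j j.2, ← Matrix.mulVec_mulVec, ← hk, Matrix.mulVec_mulVec,
        Matrix.mulVec_mulVec, hcomm j j.2 k k.2]
    exact heq ▸ k.2

theorem eq_smul_of_finrank_one {K : Subalgebra F (Matrix ι ι F)} [Nonempty ι] (h : finrank F K = 1) {k : Matrix ι ι F}
    (hk : k ∈ K) : ∃ c : F, k = c • (1 : Matrix ι ι F) := by
  obtain ⟨c, hc⟩ := exists_smul_eq_of_finrank_eq_one h (x := (1 : K)) one_ne_zero ⟨k, hk⟩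
  exact ⟨c, (congrArg Subtype.val hc).symm⟩

/-- In prime dimension a non-abelian irreducible group is absolutely irreducible. -/
theorem absIrr_of_irr (hn : (Fintype.card ι).Prime) {M : Subgroup (GL ι F)} (hirr : Irr M) (hM : ¬ Comm M) :
    Geo.ActsAbsolutelyIrreducibly (Geo.matrixSet M) := by
  haveI hι : Nonempty ι := Fintype.card_pos_iff.mp hn.pos
  refine ⟨irr_iff.mp hirr, fun m hm => ?_⟩
  have hm' : ∀ x ∈ M, m * (x : Matrix ι ι F) = (x : Matrix ι ι F) * m := fun x hx => hm _ ⟨x, hx, rfl⟩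
  let K := Algebra.adjoin F ({m} : Set (Matrix ι ι F))
  have hmem : ∀ k ∈ K, ∃ p : Polynomial F, k = Polynomial.aeval m p := fun k hk => by
    rw [show K = _ from Algebra.adjoin_singleton_eq_range_aeval F m] at hk
    obtain ⟨p, hp⟩ := hk
    exact ⟨p, hp.symm⟩
  have hcomm : ∀ x ∈ K, ∀ y ∈ K, x * y = y * x := by
    intro x hx y hy
    obtain ⟨p, rfl⟩ := hmem x hx
    obtain ⟨q, rfl⟩ := hmem y hy
    rw [← map_mul, ← map_mul, mul_comm]
  have hK : ∀ k ∈ K, ∀ x ∈ M, k * (x : Matrix ι ι F) = (x : Matrix ι ι F) * k := by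
    intro k hk x hx
    have hle : K ≤ Subalgebra.centralizer F {(x : Matrix ι ι F)} := by
      refine Algebra.adjoin_le (Set.singleton_subset_iff.mpr ?_)
      exact Subalgebra.mem_centralizer_iff F |>.mpr fun g hg => by
        rw [Set.mem_singleton_iff.mp hg]; exact (hm' x hx).symm
    exact ((Subalgebra.mem_centralizer_iff F).mp (hle hk) _ rfl).symm
  obtain ⟨-, hdvd, hself⟩ := field_of_centralizing hirr hι K hcomm hK
  rcases hn.eq_one_or_self_of_dvd _ hdvd with h1 | h1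
  · exact eq_smul_of_finrank_one h1 (Algebra.subset_adjoin rfl)
  · exfalso
    refine hM fun x hx y hy => Units.ext ?_
    rw [Units.val_mul, Units.val_mul]
    exact hcomm _ (hself h1 _ fun k hk => hK k hk x hx) _ (hself h1 _ fun k hk => hK k hk y hy)

/-- An element commuting with an absolutely irreducible group is scalar. -/
theorem mem_scalars_of_commute [Nonempty ι] {M : Subgroup (GL ι F)}
    (hM : Geo.ActsAbsolutelyIrreducibly (Geo.matrixSet M)) {g : GL ι F} (hg : ∀ x ∈ M, g * x = x * g) :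
    g ∈ Geo.scalars ι F := by
  obtain ⟨c, hc⟩ := hM.2 (g : Matrix ι ι F) (by
    rintro _ ⟨x, hx, rfl⟩
    simpa using congrArg Units.val (hg x hx))
  exact mem_scalars_of_smul hc

theorem scalars_central {z : GL ι F} (hz : z ∈ Geo.scalars ι F) (g : GL ι F) : g * z = z * g := by
  obtain ⟨c, hc⟩ := (Geo.mem_scalars_iff z).mp hz
  exact Units.ext (by simp [hc])

/-- A normalised irreducible abelian group gives a normalised field of degree equal to the dimension. -/
theorem field_of_comm_irr (hn : (Fintype.card ι).Prime) {M G : Subgroup (GL ι F)} (hMG : NormalIn M G)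
    (hc : Comm M) (hirr : Irr M) :
    Geo.IsFieldSubalgebra (Fintype.card ι) (Algebra.adjoin F (Geo.matrixSet M)) ∧
      G ≤ Geo.subalgebraNormalizer (Algebra.adjoin F (Geo.matrixSet M)) := by
  haveI hι : Nonempty ι := Fintype.card_pos_iff.mp hn.pos
  set K := Algebra.adjoin F (Geo.matrixSet M) with hKdef
  have hcK : ∀ x ∈ M, ∀ k ∈ K, k * (x : Matrix ι ι F) = (x : Matrix ι ι F) * k := by
    intro x hx k hk
    have hle : K ≤ Subalgebra.centralizer F {(x : Matrix ι ι F)} := by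
      refine Algebra.adjoin_le ?_
      rintro _ ⟨y, hy, rfl⟩
      refine (Subalgebra.mem_centralizer_iff F).mpr fun g hg => ?_
      rw [Set.mem_singleton_iff.mp hg]
      simpa using congrArg Units.val (hc x hx y hy)
    exact ((Subalgebra.mem_centralizer_iff F).mp (hle hk) _ rfl).symm
  have hcomm : ∀ x ∈ K, ∀ y ∈ K, x * y = y * x := by
    intro x hx y hy
    have hle : K ≤ Subalgebra.centralizer F {y} := by
      refine Algebra.adjoin_le ?_
      rintro _ ⟨z, hz, rfl⟩
      refine (Subalgebra.mem_centralizer_iff F).mpr fun g hg => ?_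
      rw [Set.mem_singleton_iff.mp hg]
      exact hcK z hz y hy
    exact ((Subalgebra.mem_centralizer_iff F).mp (hle hx) _ rfl).symm
  obtain ⟨hfld, hdvd, -⟩ := field_of_centralizing hirr hι K hcomm fun k hk x hx => hcK x hx k hk
  have hd : finrank F K = Fintype.card ι := by
    refine (hn.eq_one_or_self_of_dvd _ hdvd).resolve_left fun h1 => irr_not_le_scalars hirr hn.one_lt ?_
    intro x hx
    obtain ⟨c, hc⟩ := eq_smul_of_finrank_one h1 (Algebra.subset_adjoin ⟨x, hx, rfl⟩)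
    exact mem_scalars_of_smul hc
  refine ⟨hd ▸ hfld, ?_⟩
  have hconj : ∀ g ∈ G, ∀ k ∈ K, (g : Matrix ι ι F) * k * ((g⁻¹ : GL ι F) : Matrix ι ι F) ∈ K := by
    intro g hg k hk
    induction hk using Algebra.adjoin_induction with
    | mem y hy =>
      obtain ⟨x, hx, rfl⟩ := hy
      exact Algebra.subset_adjoin ⟨g * x * g⁻¹, hMG g hg x hx, by simp⟩
    | algebraMap r =>
      have : (g : Matrix ι ι F) * algebraMap F (Matrix ι ι F) r * ((g⁻¹ : GL ι F) : Matrix ι ι F) =
          algebraMap F (Matrix ι ι F) r := by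
        rw [← Algebra.commutes, mul_assoc, ← Units.val_mul, mul_inv_cancel, Units.val_one, mul_one]
      rw [this]
      exact K.algebraMap_mem r
    | add a b _ _ ha hb => rw [mul_add, add_mul]; exact add_mem ha hb
    | mul a b _ _ ha hb =>
      have : (g : Matrix ι ι F) * (a * b) * ((g⁻¹ : GL ι F) : Matrix ι ι F) =
          ((g : Matrix ι ι F) * a * ((g⁻¹ : GL ι F) : Matrix ι ι F)) *
            ((g : Matrix ι ι F) * b * ((g⁻¹ : GL ι F) : Matrix ι ι F)) := by
        simp [mul_assoc]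
      rw [this]
      exact mul_mem ha hb
  intro g hg k
  refine ⟨hconj g hg k, fun hk => ?_⟩
  have := hconj g⁻¹ (inv_mem hg) _ hk
  simpa [mul_assoc] using this

theorem normalIn_iff_map {M G : Subgroup (GL ι F)} :
    NormalIn M G ↔ ∀ g ∈ G, M.map (MulAut.conj g).toMonoidHom ≤ M := by
  simp [NormalIn, Subgroup.map_le_iff_le_comap, SetLike.le_def]

theorem NormalIn.commutator {M G : Subgroup (GL ι F)} (h : NormalIn M G) : NormalIn ⁅M, M⁆ G := by
  rw [normalIn_iff_map] at h ⊢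
  intro g hg
  rw [Subgroup.map_commutator]
  exact Subgroup.commutator_mono (h g hg) (h g hg)

theorem commutator_le_self (M : Subgroup (GL ι F)) : ⁅M, M⁆ ≤ M :=
  Subgroup.commutator_le.mpr fun a ha b hb => by
    rw [commutatorElement_def]
    exact mul_mem (mul_mem (mul_mem ha hb) (inv_mem ha)) (inv_mem hb)

/-- An element acting trivially modulo scalars on a perfect group centralises it. -/
theorem commute_of_perfect {P : Subgroup (GL ι F)} (hP : ⁅P, P⁆ = P) {h : GL ι F}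
    (hh : ∀ x ∈ P, h * x * h⁻¹ * x⁻¹ ∈ Geo.scalars ι F) : ∀ x ∈ P, h * x = x * h := by
  have hle : P ≤ Subgroup.centralizer {h} := by
    refine hP.ge.trans (Subgroup.commutator_le.mpr fun a ha b hb => ?_)
    obtain ⟨z, hz, hz'⟩ : ∃ z ∈ Geo.scalars ι F, h * a * h⁻¹ = z * a := ⟨_, hh a ha, by group⟩
    obtain ⟨w, hw, hw'⟩ : ∃ w ∈ Geo.scalars ι F, h * b * h⁻¹ = w * b := ⟨_, hh b hb, by group⟩
    have hc : ∀ y, (MulAut.conj h) y = h * y * h⁻¹ := fun y => rfl
    have h1 : h * ⁅a, b⁆ * h⁻¹ = ⁅a, b⁆ := by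
      rw [← hc, map_commutatorElement, hc, hc, hz', hw', commutatorElement_def, commutatorElement_def]
      have hz2 := scalars_central hz
      have hw2 := scalars_central hw
      calc z * a * (w * b) * (z * a)⁻¹ * (w * b)⁻¹
          = z * (a * w) * b * (a⁻¹ * z⁻¹) * (b⁻¹ * w⁻¹) := by group
        _ = w * (z * (a * b * a⁻¹) * z⁻¹) * (b⁻¹ * w⁻¹) := by rw [hw2 a]; rw [← mul_assoc z w a, hw2 z]; group
        _ = w * (a * b * a⁻¹) * (b⁻¹ * w⁻¹) := by rw [← hz2 (a * b * a⁻¹), mul_inv_cancel_right]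
        _ = w * (a * b * a⁻¹ * b⁻¹) * w⁻¹ := by group
        _ = a * b * a⁻¹ * b⁻¹ := by rw [← hw2 (a * b * a⁻¹ * b⁻¹), mul_inv_cancel_right]
    refine Subgroup.mem_centralizer_singleton_iff.mpr (Eq.symm ?_)
    calc h * ⁅a, b⁆ = (h * ⁅a, b⁆ * h⁻¹) * h := by group
      _ = ⁅a, b⁆ * h := by rw [h1]
  intro x hx
  exact (Subgroup.mem_centralizer_singleton_iff.mp (hle hx)).symm

/-- The residual-class conditions other than non-realisability over subfields. -/
structure Core (H P : Subgroup (GL ι F)) : Prop where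
  le : P ≤ H
  normal : NormalIn P H
  perfect : ⁅P, P⁆ = P
  simple : IsSimpleGroup (P ⧸ (Geo.scalars ι F).subgroupOf P)
  nonabelian : ¬ IsMulCommutative (P ⧸ (Geo.scalars ι F).subgroupOf P)
  centralizer_scalar : ∀ h ∈ H, (∀ x ∈ P, h * x * h⁻¹ * x⁻¹ ∈ Geo.scalars ι F) → h ∈ Geo.scalars ι F
  absIrred : Geo.ActsAbsolutelyIrreducibly (Geo.matrixSet P)

theorem Core.toResidual {H P : Subgroup (GL ι F)} (h : Core H P)
    (hsub : ∀ F₀ : Subfield F, F₀ ≠ ⊤ → ¬ Geo.RealisableOver F₀ (Geo.matrixSet P)) : Geo.IsResidualCore H P :=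
  ⟨h.le, h.normal, h.perfect, h.simple, h.nonabelian, h.centralizer_scalar, h.absIrred, hsub⟩

theorem isSimpleGroup_quotient {G : Type*} [Group G] (N Z : Subgroup G) [hZ : Z.Normal] (hns : ¬ N ≤ Z)
    (h : ∀ M ≤ N, (∀ g ∈ N, ∀ x ∈ M, g * x * g⁻¹ ∈ M) → ¬ M ≤ Z → M = N) :
    IsSimpleGroup (N ⧸ Z.subgroupOf N) := by
  haveI : Nontrivial (N ⧸ Z.subgroupOf N) := by
    rw [QuotientGroup.nontrivial_iff, Ne, Subgroup.subgroupOf_eq_top]
    exact hns
  refine ⟨fun K hK => ?_⟩
  haveI hn : (K.comap (QuotientGroup.mk' (Z.subgroupOf N))).Normal := hK.comap _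
  have hMn : ∀ g ∈ N, ∀ x ∈ (K.comap (QuotientGroup.mk' (Z.subgroupOf N))).map N.subtype,
      g * x * g⁻¹ ∈ (K.comap (QuotientGroup.mk' (Z.subgroupOf N))).map N.subtype := by
    rintro g hg _ ⟨x, hx, rfl⟩
    exact ⟨⟨g, hg⟩ * x * ⟨g, hg⟩⁻¹, hn.conj_mem x hx _, rfl⟩
  by_cases hsc : (K.comap (QuotientGroup.mk' (Z.subgroupOf N))).map N.subtype ≤ Z
  · left
    refine (Subgroup.eq_bot_iff_forall K).mpr fun y hy => ?_
    obtain ⟨x, rfl⟩ := QuotientGroup.mk'_surjective (Z.subgroupOf N) y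
    have hx : x ∈ Z.subgroupOf N := Subgroup.mem_subgroupOf.mpr (hsc ⟨x, hy, rfl⟩)
    exact (QuotientGroup.eq_one_iff x).mpr hx
  · right
    have hMeq := h _ (Subgroup.map_subtype_le _) hMn hsc
    refine (Subgroup.eq_top_iff' K).mpr fun y => ?_
    obtain ⟨x, rfl⟩ := QuotientGroup.mk'_surjective (Z.subgroupOf N) y
    obtain ⟨x', hx', hxx⟩ : (x : G) ∈ (K.comap (QuotientGroup.mk' (Z.subgroupOf N))).map N.subtype := by
      rw [hMeq]; exact x.2
    have : x' = x := Subtype.ext hxx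
    exact this ▸ hx'

theorem not_comm_quotient {G : Type*} [Group G] (N Z : Subgroup G) [hZ : Z.Normal] (hns : ¬ N ≤ Z)
    (hperf : ⁅N, N⁆ = N) : ¬ IsMulCommutative (N ⧸ Z.subgroupOf N) := by
  intro hcomm
  refine hns (hperf.ge.trans (Subgroup.commutator_le.mpr fun a ha b hb => ?_))
  have h1 := hcomm.is_comm.comm (QuotientGroup.mk' (Z.subgroupOf N) ⟨a, ha⟩)
    (QuotientGroup.mk' (Z.subgroupOf N) ⟨b, hb⟩)
  have h2 : QuotientGroup.mk' (Z.subgroupOf N) ⁅(⟨a, ha⟩ : N), ⟨b, hb⟩⁆ = 1 := by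
    rw [map_commutatorElement, commutatorElement_eq_one_iff_mul_comm]
    exact h1
  exact Subgroup.mem_subgroupOf.mp ((QuotientGroup.eq_one_iff _).mp h2)

theorem core_of_minimal [Nonempty ι] {H N : Subgroup (GL ι F)} (hNH : N ≤ H) (hN : NormalIn N H)
    (hns : ¬ N ≤ Geo.scalars ι F) (hperf : ⁅N, N⁆ = N) (habs : Geo.ActsAbsolutelyIrreducibly (Geo.matrixSet N))
    (hsimple : ∀ M ≤ N, NormalIn M N → ¬ M ≤ Geo.scalars ι F → M = N) : Core H N :=
  ⟨hNH, hN, hperf, isSimpleGroup_quotient N (Geo.scalars ι F) hns hsimple,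
    not_comm_quotient N (Geo.scalars ι F) hns hperf,
    fun _ _ hh => mem_scalars_of_commute habs (commute_of_perfect hperf hh), habs⟩

theorem NormalIn.map_conj {M N G : Subgroup (GL ι F)} (hM : NormalIn M N) (hN : NormalIn N G) {g : GL ι F}
    (hg : g ∈ G) : NormalIn (M.map (MulAut.conj g).toMonoidHom) N := by
  rintro y hy _ ⟨x, hx, rfl⟩
  refine ⟨(g⁻¹ * y * g) * x * (g⁻¹ * y * g)⁻¹, hM _ ?_ x hx, ?_⟩
  · simpa using hN g⁻¹ (inv_mem hg) y hy
  · simp only [MulEquiv.coe_toMonoidHom, MulAut.conj_apply]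
    group

/-- The structure theorem in prime dimension. -/
theorem prime_structure [Finite F] (hn : (Fintype.card ι).Prime) {H : Subgroup (GL ι F)} (hH : Irr H) :
    (∃ M : Subgroup (GL ι F), M ≤ H ∧ NormalIn M H ∧ Diag M ∧ ¬ M ≤ Geo.scalars ι F) ∨
    (∃ M : Subgroup (GL ι F), M ≤ H ∧ NormalIn M H ∧ Comm M ∧ Irr M) ∨
    (∃ R : Subgroup (GL ι F), R ≤ H ∧ NormalIn R H ∧ ¬ Comm R ∧ ⁅R, R⁆ ≤ Geo.scalars ι F ∧
      Geo.ActsAbsolutelyIrreducibly (Geo.matrixSet R)) ∨
    (∃ P : Subgroup (GL ι F), Core H P) := by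
  haveI hι : Nonempty ι := Fintype.card_pos_iff.mp hn.pos
  by_cases hab : ∃ M : Subgroup (GL ι F), M ≤ H ∧ NormalIn M H ∧ Comm M ∧ ¬ M ≤ Geo.scalars ι F
  · obtain ⟨M, hMH, hM, hc, hns⟩ := hab
    rcases irr_or_diag hn hM hH with h | h
    · exact Or.inr (Or.inl ⟨M, hMH, hM, hc, h⟩)
    · exact Or.inl ⟨M, hMH, hM, h, hns⟩
  push Not at hab
  obtain ⟨N, hNmin⟩ := exists_minimal_of_wellFoundedLT
    (fun N : Subgroup (GL ι F) => N ≤ H ∧ NormalIn N H ∧ ¬ N ≤ Geo.scalars ι F)
    ⟨H, le_rfl, fun g hg x hx => mul_mem (mul_mem hg hx) (inv_mem hg), irr_not_le_scalars hH hn.one_lt⟩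
  obtain ⟨hNH, hN, hNs⟩ := hNmin.prop
  have hNc : ¬ Comm N := fun h => hNs (hab N hNH hN h)
  have hNirr : Irr N := (irr_or_diag hn hN hH).resolve_right fun h => hNc h.comm
  have hNabs := absIrr_of_irr hn hNirr hNc
  have hmin : ∀ M ≤ N, NormalIn M H → ¬ M ≤ Geo.scalars ι F → M = N := fun M hMN hM hs =>
    le_antisymm hMN (hNmin.le_of_le ⟨hMN.trans hNH, hM, hs⟩ hMN)
  by_cases h2 : ⁅N, N⁆ ≤ Geo.scalars ι F
  · exact Or.inr (Or.inr (Or.inl ⟨N, hNH, hN, hNc, h2, hNabs⟩))
  have hperf : ⁅N, N⁆ = N := hmin _ (commutator_le_self N) hN.commutator h2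
  refine Or.inr (Or.inr (Or.inr ⟨N, core_of_minimal hNH hN hNs hperf hNabs ?_⟩))
  let Q : Subgroup (GL ι F) → Prop := fun M => M ≤ N ∧ NormalIn M N ∧ ¬ M ≤ Geo.scalars ι F
  have hQconj : ∀ g ∈ H, ∀ M, Q M → Q (M.map (MulAut.conj g).toMonoidHom) := by
    rintro g hg M ⟨hMN, hM, hs⟩
    refine ⟨(Subgroup.map_mono hMN).trans (normalIn_iff_map.mp hN g hg), hM.map_conj hN hg, fun h => hs ?_⟩
    intro x hx
    have h1 : g * x * g⁻¹ ∈ Geo.scalars ι F := h ⟨x, hx, rfl⟩
    simpa [mul_assoc] using Geo.scalars_normal.conj_mem _ h1 g⁻¹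
  let T : Set (Subgroup (GL ι F)) := {M | Minimal Q M}
  have hTconj : ∀ g ∈ H, ∀ M ∈ T, M.map (MulAut.conj g).toMonoidHom ∈ T := by
    intro g hg M hM
    refine ⟨hQconj g hg M hM.prop, fun M' hM' hle => ?_⟩
    have h1 : M'.map (MulAut.conj g⁻¹).toMonoidHom ≤ M := by
      rintro _ ⟨x, hx, rfl⟩
      obtain ⟨m, hm, rfl⟩ := hle hx
      simpa [mul_assoc] using hm
    have h2 := hM.le_of_le (hQconj g⁻¹ (inv_mem hg) M' hM') h1
    rintro _ ⟨m, hm, rfl⟩
    obtain ⟨x, hx, hxm⟩ := h2 hm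
    simp only [MulEquiv.coe_toMonoidHom, MulAut.conj_apply] at hxm ⊢
    rw [← hxm]
    simpa [mul_assoc] using hx
  have hcommT : ∀ M ∈ T, ∀ M' ∈ T, M ≠ M' → ⁅M, M'⁆ ≤ Geo.scalars ι F := by
    intro M hM M' hM' hne
    by_contra hs
    refine hne ?_
    have hle : ⁅M, M'⁆ ≤ M ⊓ M' := Subgroup.commutator_le.mpr fun a ha b hb => by
      rw [commutatorElement_def, Subgroup.mem_inf]
      constructor
      · rw [show a * b * a⁻¹ * b⁻¹ = a * (b * a⁻¹ * b⁻¹) by group]
        exact mul_mem ha (hM.prop.2.1 b (hM'.prop.1 hb) a⁻¹ (inv_mem ha))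
      · exact mul_mem (hM'.prop.2.1 a (hM.prop.1 ha) b hb) (inv_mem hb)
    have hQi : Q (M ⊓ M') := ⟨inf_le_left.trans hM.prop.1,
      fun g hg x hx => ⟨hM.prop.2.1 g hg x hx.1, hM'.prop.2.1 g hg x hx.2⟩, fun h => hs (hle.trans h)⟩
    exact le_antisymm ((hM.le_of_le hQi inf_le_left).trans inf_le_right)
      ((hM'.le_of_le hQi inf_le_right).trans inf_le_left)
  have hTdich : ∀ M ∈ T, ⁅M, M⁆ ≤ Geo.scalars ι F ∨ ⁅M, M⁆ = M := by
    intro M hM
    refine or_iff_not_imp_left.mpr fun hs => ?_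
    exact le_antisymm (commutator_le_self M)
      (hM.le_of_le ⟨(commutator_le_self M).trans hM.prop.1, hM.prop.2.1.commutator, hs⟩ (commutator_le_self M))
  obtain ⟨M₀, hM₀T⟩ : ∃ M₀, M₀ ∈ T :=
    exists_minimal_of_wellFoundedLT Q ⟨N, le_rfl, fun g hg x hx => mul_mem (mul_mem hg hx) (inv_mem hg), hNs⟩
  have hex : ∃ M ∈ T, ⁅M, M⁆ = M := by
    by_contra hcon
    push Not at hcon
    let π := QuotientGroup.mk' (Geo.scalars ι F)
    have hc : ∀ M ∈ T, ∀ M' ∈ T, M.map π ≤ Subgroup.centralizer (M'.map π : Subgroup _) := by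
      intro M hM M' hM'
      have h1 : ⁅M, M'⁆ ≤ Geo.scalars ι F := by
        rcases eq_or_ne M M' with rfl | hne
        · exact (hTdich M hM).resolve_right (hcon M hM)
        · exact hcommT M hM M' hM' hne
      rw [← Subgroup.commutator_eq_bot_iff_le_centralizer, ← Subgroup.map_commutator, Subgroup.map_eq_bot_iff,
        QuotientGroup.ker_mk']
      exact h1
    have hS : ⁅sSup T, sSup T⁆ ≤ Geo.scalars ι F := by
      have hA : ∀ M' ∈ T, (sSup T).map π ≤ Subgroup.centralizer (M'.map π : Subgroup _) := fun M' hM' => by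
        rw [Subgroup.map_le_iff_le_comap]
        exact sSup_le fun M hM => Subgroup.map_le_iff_le_comap.mp (hc M hM M' hM')
      have hB : (sSup T).map π ≤ Subgroup.centralizer ((sSup T).map π : Subgroup _) := by
        rw [Subgroup.map_le_iff_le_comap]
        refine sSup_le fun M' hM' => ?_
        rw [← Subgroup.map_le_iff_le_comap, Subgroup.le_centralizer_iff]
        exact hA M' hM'
      rw [← Subgroup.commutator_eq_bot_iff_le_centralizer, ← Subgroup.map_commutator, Subgroup.map_eq_bot_iff,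
        QuotientGroup.ker_mk'] at hB
      exact hB
    have hSn : NormalIn (sSup T) H := by
      rw [normalIn_iff_map]
      intro g hg
      rw [Subgroup.map_le_iff_le_comap]
      exact sSup_le fun M hM => Subgroup.map_le_iff_le_comap.mp (le_sSup (hTconj g hg M hM))
    exact h2 ((hmin _ (sSup_le fun M hM => hM.prop.1) hSn
      fun h => hM₀T.prop.2.2 ((le_sSup hM₀T).trans h)) ▸ hS)
  obtain ⟨M, hMT, hMp⟩ := hex
  have hMc : ¬ Comm M := fun h => hMT.prop.2.2 fun x hx => by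
    have hx' : x ∈ ⁅M, M⁆ := by rw [hMp]; exact hx
    have hbot : ⁅M, M⁆ = ⊥ := Subgroup.commutator_eq_bot_iff_le_centralizer.mpr fun a ha b hb => h b hb a ha
    rw [hbot, Subgroup.mem_bot] at hx'
    exact hx' ▸ one_mem _
  have hMabs := absIrr_of_irr hn ((irr_or_diag hn hMT.prop.2.1 hNirr).resolve_right fun h => hMc h.comm) hMc
  have huniq : ∀ M' ∈ T, M' = M := by
    intro M' hM'
    by_contra hne
    refine hM'.prop.2.2 fun x hx => mem_scalars_of_commute hMabs (commute_of_perfect hMp fun y hy => ?_)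
    have h3 := hcommT M' hM' M hMT hne (Subgroup.commutator_mem_commutator hx hy)
    rwa [commutatorElement_def] at h3
  have hMH : NormalIn M H := normalIn_iff_map.mpr fun g hg => (huniq _ (hTconj g hg M hMT)).le
  have hMN : M = N := hmin M hMT.prop.1 hMH hMT.prop.2.2
  intro M' hM'N hM' hs
  obtain ⟨M'', hle, hM''⟩ := exists_minimal_le_of_wellFoundedLT Q M' ⟨hM'N, hM', hs⟩
  have := huniq M'' hM''
  exact le_antisymm hM'N (by rw [← hMN, ← this]; exact hle)

end Cfsg.Agent.Aschbacher
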