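import Cfsg.Agent.Aschbacher.Descent

/-!
Class two absolutely irreducible subgroups of SL(n, F) for an odd prime n: extraspecial of order n^3.
-/

set_option autoImplicit false
set_option linter.unusedSectionVars false
set_option linter.style.haveILetI false

namespace Cfsg.Agent.Aschbacher

open scoped MatrixGroups Matrix commutatorElement
open Module

variable {ι : Type} [Fintype ι] [DecidableEq ι] {F : Type*} [Field F]

theorem det_eq_one_of_mem {g : GL ι F} (h : g ∈ Geo.specialLinear ι F) : (g : Matrix ι ι F).det = 1 := by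
  have h1 : Matrix.GeneralLinearGroup.det g = 1 := h
  exact congrArg Units.val h1

/-- A class two group with scalar commutators, of determinant one. -/
structure ClassTwo (R : Subgroup (GL ι F)) : Prop where
  notComm : ¬ Comm R
  comm_le : ⁅R, R⁆ ≤ Geo.scalars ι F
  det_one : R ≤ Geo.specialLinear ι F
  absIrr : Geo.ActsAbsolutelyIrreducibly (Geo.matrixSet R)

/-- A pair of elements with scalar commutator ω. -/
structure HPair (R : Subgroup (GL ι F)) (x y : GL ι F) (ω : F) : Prop where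
  memx : x ∈ R
  memy : y ∈ R
  rel : (y : Matrix ι ι F) * x = ω • ((x : Matrix ι ι F) * y)
  ne_one : ω ≠ 1

variable {R : Subgroup (GL ι F)}

theorem ClassTwo.exists_rel (hR : ClassTwo R) {a b : GL ι F} (ha : a ∈ R) (hb : b ∈ R) :
    ∃ c : F, c ^ Fintype.card ι = 1 ∧ (b : Matrix ι ι F) * a = c • ((a : Matrix ι ι F) * b) := by
  obtain ⟨c, hc⟩ := (Geo.mem_scalars_iff _).mp (hR.comm_le (Subgroup.commutator_mem_commutator hb ha))
  have h1 : (b : Matrix ι ι F) * a = (c : F) • ((a : Matrix ι ι F) * b) := by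
    have h2 : b * a = ⁅b, a⁆ * (a * b) := by rw [commutatorElement_def]; group
    have h3 := congrArg Units.val h2
    rw [Units.val_mul, Units.val_mul, Units.val_mul, hc, Matrix.smul_mul, one_mul] at h3
    exact h3
  refine ⟨c, ?_, h1⟩
  have h4 := congrArg Matrix.det h1
  rw [Matrix.det_smul, Matrix.det_mul, Matrix.det_mul, det_eq_one_of_mem (hR.det_one ha),
    det_eq_one_of_mem (hR.det_one hb), mul_one, mul_one] at h4
  exact h4.symm

theorem HPair.omega_pow (hR : ClassTwo R) {x y : GL ι F} {ω : F} (h : HPair R x y ω) :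
    ω ^ Fintype.card ι = 1 := by
  have h4 := congrArg Matrix.det h.rel
  rw [Matrix.det_smul, Matrix.det_mul, Matrix.det_mul, det_eq_one_of_mem (hR.det_one h.memx),
    det_eq_one_of_mem (hR.det_one h.memy), mul_one, mul_one] at h4
  exact h4.symm

theorem HPair.primitive (hR : ClassTwo R) (hn : (Fintype.card ι).Prime) {x y : GL ι F} {ω : F}
    (h : HPair R x y ω) : IsPrimitiveRoot ω (Fintype.card ι) := by
  haveI := Fact.mk hn
  rw [← orderOf_eq_prime (h.omega_pow hR) h.ne_one]
  exact IsPrimitiveRoot.orderOf ω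

theorem ClassTwo.exists_pair [Nonempty ι] (hR : ClassTwo R) {x : GL ι F} (hx : x ∈ R)
    (hxs : x ∉ Geo.scalars ι F) : ∃ (y : GL ι F) (ω : F), HPair R x y ω := by
  by_contra hcon
  push Not at hcon
  refine hxs (mem_scalars_of_commute hR.absIrr fun y hy => ?_)
  obtain ⟨c, -, hc⟩ := hR.exists_rel hx hy
  rcases eq_or_ne c 1 with rfl | hne
  · exact Units.ext (by simpa using hc.symm)
  · exact absurd ⟨hx, hy, hc, hne⟩ (hcon y c)

theorem pow_rel {x y : Matrix ι ι F} {ω : F} (h : y * x = ω • (x * y)) (i : ℕ) :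
    y * x ^ i = ω ^ i • (x ^ i * y) := by
  induction i with
  | zero => simp
  | succ i ih =>
    rw [pow_succ, ← mul_assoc, ih, Matrix.smul_mul, mul_assoc, h, Matrix.mul_smul, smul_smul, ← mul_assoc,
      ← pow_succ, ← pow_succ]

/-- Every element has order dividing n. -/
theorem ClassTwo.pow_card [Nonempty ι] (hR : ClassTwo R) (hn : (Fintype.card ι).Prime)
    (hodd : Odd (Fintype.card ι)) {x : GL ι F} (hx : x ∈ R) : x ^ Fintype.card ι = 1 := by
  set n := Fintype.card ι
  by_cases hxs : x ∈ Geo.scalars ι F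
  · obtain ⟨c, hc⟩ := (Geo.mem_scalars_iff x).mp hxs
    have h1 := det_eq_one_of_mem (hR.det_one hx)
    rw [hc, Matrix.det_smul, Matrix.det_one, mul_one] at h1
    apply Units.ext
    rw [Units.val_pow_eq_pow_val, hc, _root_.smul_pow, one_pow, h1, one_smul, Units.val_one]
  obtain ⟨y, ω, hp⟩ := hR.exists_pair hx hxs
  have hprim := hp.primitive hR hn
  -- the n-th power is scalar
  have hzs : x ^ n ∈ Geo.scalars ι F := by
    refine mem_scalars_of_commute hR.absIrr fun z hz => ?_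
    obtain ⟨c, hc1, hc⟩ := hR.exists_rel hx hz
    apply Units.ext
    rw [Units.val_mul, Units.val_mul, Units.val_pow_eq_pow_val, pow_rel hc n, hc1, one_smul]
  obtain ⟨z, hz⟩ := (Geo.mem_scalars_iff _).mp hzs
  rw [Units.val_pow_eq_pow_val] at hz
  -- powers of x are independent
  let T : Module.End F (Matrix ι ι F) :=
    { toFun := fun M => (y : Matrix ι ι F) * M * ((y⁻¹ : GL ι F) : Matrix ι ι F)
      map_add' := fun a b => by simp [mul_add, add_mul]
      map_smul' := fun c a => by simp }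
  have hli : LinearIndependent F (fun i : Fin n => (x : Matrix ι ι F) ^ (i : ℕ)) := by
    refine Module.End.eigenvectors_linearIndependent' T (fun i : Fin n => ω ^ (i : ℕ))
      (fun i j hij => Fin.ext (hprim.pow_inj i.2 j.2 hij)) _ fun i => ⟨?_, ?_⟩
    · rw [Module.End.mem_eigenspace_iff]
      show (y : Matrix ι ι F) * (x : Matrix ι ι F) ^ (i : ℕ) * _ = _
      rw [pow_rel hp.rel, Matrix.smul_mul, mul_assoc, ← Units.val_mul, mul_inv_cancel, Units.val_one, mul_one]
    · rw [← Units.val_pow_eq_pow_val]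
      exact Units.ne_zero _
  have hint : IsIntegral F (x : Matrix ι ι F) := Algebra.IsIntegral.isIntegral _
  have hdeg : n ≤ (minpoly F (x : Matrix ι ι F)).natDegree := by
    by_contra hlt
    push Not at hlt
    set m := minpoly F (x : Matrix ι ι F)
    have h0 := minpoly.aeval F (x : Matrix ι ι F)
    rw [Polynomial.aeval_eq_sum_range' hlt, Finset.sum_range] at h0
    have hall := Fintype.linearIndependent_iff.mp hli (fun i : Fin n => m.coeff i) h0
    have hm := hall ⟨m.natDegree, hlt⟩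
    rw [← Polynomial.leadingCoeff, (minpoly.monic hint).leadingCoeff] at hm
    exact one_ne_zero hm
  have hcp : minpoly F (x : Matrix ι ι F) = (x : Matrix ι ι F).charpoly :=
    Polynomial.eq_of_monic_of_dvd_of_natDegree_le (minpoly.monic hint) (Matrix.charpoly_monic _)
      (Matrix.minpoly_dvd_charpoly _) (by rw [Matrix.charpoly_natDegree_eq_dim]; exact hdeg) |>.symm
  have hdv : minpoly F (x : Matrix ι ι F) ∣ Polynomial.X ^ n - Polynomial.C (z : F) := by
    refine minpoly.dvd F _ ?_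
    simp [hz, Algebra.algebraMap_eq_smul_one]
  have hmp : Polynomial.X ^ n - Polynomial.C (z : F) = minpoly F (x : Matrix ι ι F) :=
    Polynomial.eq_of_monic_of_dvd_of_natDegree_le (minpoly.monic hint) (Polynomial.monic_X_pow_sub_C _ hn.ne_zero)
      hdv (by rw [Polynomial.natDegree_X_pow_sub_C]; exact hdeg)
  have hdet := Matrix.det_eq_sign_charpoly_coeff (x : Matrix ι ι F)
  rw [← hcp, ← hmp, det_eq_one_of_mem (hR.det_one hx), Polynomial.coeff_sub, Polynomial.coeff_X_pow,
    if_neg (Ne.symm hn.ne_zero), Polynomial.coeff_C_zero, zero_sub, hodd.neg_one_pow, neg_mul_neg, one_mul] at hdet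
  apply Units.ext
  rw [Units.val_pow_eq_pow_val, hz, ← hdet, one_smul, Units.val_one]

/-- The basis adapted to a pair. -/
theorem HPair.exists_basis [Nonempty ι] (hR : ClassTwo R) (hn : (Fintype.card ι).Prime) (hodd : Odd (Fintype.card ι))
    {x y : GL ι F} {ω : F} (h : HPair R x y ω) :
    haveI : NeZero (Fintype.card ι) := ⟨hn.ne_zero⟩
    ∃ b : Module.Basis (Fin (Fintype.card ι)) F (ι → F),
      (∀ i, (x : Matrix ι ι F) *ᵥ b i = (ω⁻¹) ^ (i : ℕ) • b i) ∧ (∀ i, (y : Matrix ι ι F) *ᵥ b i = b (i + 1)) := by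
  haveI : NeZero (Fintype.card ι) := ⟨hn.ne_zero⟩
  set n := Fintype.card ι
  have hprim := h.primitive hR hn
  have hω0 : ω ≠ 0 := hprim.ne_zero hn.ne_zero
  have hxn := hR.pow_card hn hodd h.memx
  have hyn := hR.pow_card hn hodd h.memy
  -- an eigenvector with eigenvalue one
  obtain ⟨v, hv0, hv⟩ : ∃ v : ι → F, v ≠ 0 ∧ (x : Matrix ι ι F) *ᵥ v = v := by
    by_contra hcon
    push Not at hcon
    let S : Matrix ι ι F := ∑ i ∈ Finset.range n, (x : Matrix ι ι F) ^ i
    have hS : ((x : Matrix ι ι F) - 1) * S = 0 := by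
      rw [mul_geom_sum, ← Units.val_pow_eq_pow_val, hxn, Units.val_one, sub_self]
    have hxS : (x : Matrix ι ι F) * S = S := by
      rw [sub_mul, one_mul, sub_eq_zero] at hS
      exact hS
    have hS0 : S = 0 := by
      refine Matrix.ext_of_mulVec_single fun i => ?_
      by_contra hne
      refine hcon (S *ᵥ Pi.single i 1) (fun h0 => hne (by rw [h0, Matrix.zero_mulVec])) ?_
      rw [Matrix.mulVec_mulVec, hxS]
    -- so the powers of x are dependent, contradicting the eigenvector argument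
    let T : Module.End F (Matrix ι ι F) :=
      { toFun := fun M => (y : Matrix ι ι F) * M * ((y⁻¹ : GL ι F) : Matrix ι ι F)
        map_add' := fun a b => by simp [mul_add, add_mul]
        map_smul' := fun c a => by simp }
    have hli : LinearIndependent F (fun i : Fin n => (x : Matrix ι ι F) ^ (i : ℕ)) := by
      refine Module.End.eigenvectors_linearIndependent' T (fun i : Fin n => ω ^ (i : ℕ))
        (fun i j hij => Fin.ext (hprim.pow_inj i.2 j.2 hij)) _ fun i => ⟨?_, ?_⟩
      · rw [Module.End.mem_eigenspace_iff]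
        show (y : Matrix ι ι F) * (x : Matrix ι ι F) ^ (i : ℕ) * _ = _
        rw [pow_rel h.rel, Matrix.smul_mul, mul_assoc, ← Units.val_mul, mul_inv_cancel, Units.val_one, mul_one]
      · rw [← Units.val_pow_eq_pow_val]
        exact Units.ne_zero _
    have h1 := Fintype.linearIndependent_iff.mp hli (fun _ => (1 : F))
      (by simp only [one_smul]; rw [Fin.sum_univ_eq_sum_range (fun i => (x : Matrix ι ι F) ^ i)]; exact hS0) 0
    exact one_ne_zero h1
  let w : ℕ → ι → F := fun i => ((y ^ i : GL ι F) : Matrix ι ι F) *ᵥ v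
  have hyw : ∀ i, (y : Matrix ι ι F) *ᵥ w i = w (i + 1) := fun i => by
    simp [w, Matrix.mulVec_mulVec, pow_succ']
  have hxw : ∀ i, (x : Matrix ι ι F) *ᵥ w i = (ω⁻¹) ^ i • w i := by
    intro i
    induction i with
    | zero => simpa [w] using hv
    | succ i ih =>
      have hxy : (x : Matrix ι ι F) * y = ω⁻¹ • ((y : Matrix ι ι F) * x) := by
        rw [h.rel, smul_smul, inv_mul_cancel₀ hω0, one_smul]
      rw [← hyw, Matrix.mulVec_mulVec, hxy, Matrix.smul_mulVec, ← Matrix.mulVec_mulVec, ih,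
        Matrix.mulVec_smul, smul_smul, ← pow_succ']
  have hw0 : ∀ i, w i ≠ 0 := fun i hi => hv0 (mulVec_gl_inj (y ^ i) (by simpa [w] using hi))
  have hli : LinearIndependent F (fun i : Fin n => w i) := by
    refine Module.End.eigenvectors_linearIndependent' (Matrix.toLin' (x : Matrix ι ι F))
      (fun i : Fin n => (ω⁻¹) ^ (i : ℕ)) (fun i j hij => Fin.ext (hprim.inv.pow_inj i.2 j.2 hij)) _
      fun i => ⟨?_, hw0 i⟩
    rw [Module.End.mem_eigenspace_iff, Matrix.toLin'_apply]
    exact hxw i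
  haveI : Nonempty (Fin n) := ⟨0⟩
  let b := basisOfLinearIndependentOfCardEqFinrank hli (by simp [n, Module.finrank_pi])
  have hb : ∀ i, b i = w i := fun i => by simp [b]
  refine ⟨b, fun i => by rw [hb]; exact hxw i, fun i => ?_⟩
  rw [hb, hb, hyw, Fin.val_add, Fin.val_one']
  simp only [w]
  congr 2
  rw [Nat.add_mod_mod, pow_eq_pow_mod _ hyn]

/-- Two pairs with the same commutator are conjugate in GL. -/
theorem HPair.exists_conj [Nonempty ι] (hR : ClassTwo R) (hn : (Fintype.card ι).Prime) (hodd : Odd (Fintype.card ι))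
    {x y x' y' : GL ι F} {ω : F} (h : HPair R x y ω) (h' : HPair R x' y' ω) :
    ∃ g : GL ι F, g * x * g⁻¹ = x' ∧ g * y * g⁻¹ = y' := by
  obtain ⟨b, hbx, hby⟩ := h.exists_basis hR hn hodd
  obtain ⟨b', hbx', hby'⟩ := h'.exists_basis hR hn hodd
  let e : (ι → F) ≃ₗ[F] (ι → F) := b.equiv b' (Equiv.refl _)
  let g : GL ι F := ⟨LinearMap.toMatrix' e.toLinearMap, LinearMap.toMatrix' e.symm.toLinearMap,
    by rw [← LinearMap.toMatrix'_comp]; simp, by rw [← LinearMap.toMatrix'_comp]; simp⟩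
  have hg : ∀ i, (g : Matrix ι ι F) *ᵥ b i = b' i := fun i => by
    show LinearMap.toMatrix' e.toLinearMap *ᵥ b i = _
    rw [LinearMap.toMatrix'_mulVec]
    simp [e]
  refine ⟨g, mul_inv_eq_iff_eq_mul.mpr (Units.ext ?_), mul_inv_eq_iff_eq_mul.mpr (Units.ext ?_)⟩ <;>
    rw [Units.val_mul, Units.val_mul] <;> refine ext_of_span b.span_eq ?_ <;> rintro _ ⟨i, rfl⟩ <;>
    rw [← Matrix.mulVec_mulVec, ← Matrix.mulVec_mulVec]
  · rw [hbx, Matrix.mulVec_smul, hg, hbx']
  · rw [hby, hg, hg, hby']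

/-- The centraliser of a pair consists of scalars. -/
theorem HPair.centralizer [Nonempty ι] (hR : ClassTwo R) (hn : (Fintype.card ι).Prime) (hodd : Odd (Fintype.card ι))
    {x y : GL ι F} {ω : F} (h : HPair R x y ω) {M : Matrix ι ι F} (hx : M * x = (x : Matrix ι ι F) * M)
    (hy : M * y = (y : Matrix ι ι F) * M) : ∃ c : F, M = c • (1 : Matrix ι ι F) := by
  haveI : NeZero (Fintype.card ι) := ⟨hn.ne_zero⟩
  obtain ⟨b, hbx, hby⟩ := h.exists_basis hR hn hodd
  have hprim := h.primitive hR hn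
  have hdiag : ∀ i, M *ᵥ b i = b.repr (M *ᵥ b i) i • b i := by
    intro i
    have h1 : (x : Matrix ι ι F) *ᵥ (M *ᵥ b i) = (ω⁻¹) ^ (i : ℕ) • (M *ᵥ b i) := by
      rw [Matrix.mulVec_mulVec, ← hx, ← Matrix.mulVec_mulVec, hbx, Matrix.mulVec_smul]
    have h2 : ∀ j, j ≠ i → b.repr (M *ᵥ b i) j = 0 := by
      intro j hj
      by_contra hne
      have h3 : (x : Matrix ι ι F) *ᵥ (M *ᵥ b i) = ∑ k, (b.repr (M *ᵥ b i) k * (ω⁻¹) ^ (k : ℕ)) • b k := by
        conv_lhs => rw [← b.sum_repr (M *ᵥ b i)]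
        rw [Matrix.mulVec_sum]
        exact Finset.sum_congr rfl fun k _ => by rw [Matrix.mulVec_smul, hbx, smul_smul]
      rw [h1] at h3
      have h4 := congrArg (fun u => b.repr u j) h3
      simp only [b.repr_sum_self, map_smul, Finsupp.smul_apply, smul_eq_mul] at h4
      exact hj (Fin.ext (hprim.inv.pow_inj j.2 i.2 (mul_left_cancel₀ hne (h4.symm.trans (mul_comm _ _)))))
    conv_lhs => rw [← b.sum_repr (M *ᵥ b i)]
    refine Finset.sum_eq_single i (fun j _ hj => ?_) (by simp)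
    rw [h2 j hj, zero_smul]
  set c := b.repr (M *ᵥ b 0) 0
  have hstep : ∀ i, M *ᵥ b i = c • b i → M *ᵥ b (i + 1) = c • b (i + 1) := by
    intro i hi
    rw [← hby, Matrix.mulVec_mulVec, hy, ← Matrix.mulVec_mulVec, hi, Matrix.mulVec_smul]
  have hall : ∀ k : ℕ, M *ᵥ b (Fin.ofNat (Fintype.card ι) k) = c • b (Fin.ofNat (Fintype.card ι) k) := by
    intro k
    induction k with
    | zero => exact hdiag 0
    | succ k ih =>
      have : Fin.ofNat (Fintype.card ι) (k + 1) = Fin.ofNat (Fintype.card ι) k + 1 := by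
        ext
        simp [Fin.val_add, Nat.add_mod]
      rw [this]
      exact hstep _ ih
  refine ⟨c, eq_smul_one_of_span b.span_eq ?_⟩
  rintro _ ⟨i, rfl⟩
  simpa [Fin.ofNat_eq_cast] using hall i

theorem smul_pow_mem {G : Subgroup (GL ι F)} {x : GL ι F} {c : F} {z : GL ι F} (hz : z ∈ G)
    (hzc : (z : Matrix ι ι F) = c • (1 : Matrix ι ι F)) (hx : x ∈ G) :
    ∃ w ∈ G, (w : Matrix ι ι F) = c • (x : Matrix ι ι F) :=
  ⟨z * x, mul_mem hz hx, by rw [Units.val_mul, hzc, Matrix.smul_mul, one_mul]⟩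

/-- The scalar elements given by the powers of ω lie in R, and R consists of ω^a x^i y^j. -/
theorem HPair.structure [Nonempty ι] (hR : ClassTwo R) (hn : (Fintype.card ι).Prime) (hodd : Odd (Fintype.card ι))
    {x y : GL ι F} {ω : F} (h : HPair R x y ω) {r : GL ι F} (hr : r ∈ R) :
    ∃ a i j : Fin (Fintype.card ι), (r : Matrix ι ι F) = ω ^ (a : ℕ) • ((x : Matrix ι ι F) ^ (i : ℕ) * (y : Matrix ι ι F) ^ (j : ℕ)) := by
  haveI : NeZero (Fintype.card ι) := ⟨hn.ne_zero⟩
  have hprim := h.primitive hR hn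
  obtain ⟨cx, hcx1, hcx⟩ := hR.exists_rel h.memx hr
  obtain ⟨cy, hcy1, hcy⟩ := hR.exists_rel hr h.memy
  obtain ⟨j, hj, rfl⟩ := hprim.eq_pow_of_pow_eq_one hcx1
  obtain ⟨i, hi, rfl⟩ := hprim.eq_pow_of_pow_eq_one hcy1
  let w : GL ι F := r * (x ^ i * y ^ j)⁻¹
  have hwR : w ∈ R := mul_mem hr (inv_mem (mul_mem (pow_mem h.memx i) (pow_mem h.memy j)))
  obtain ⟨p, hp⟩ : ∃ p : Matrix ι ι F, p = (x : Matrix ι ι F) ^ i * (y : Matrix ι ι F) ^ j := ⟨_, rfl⟩
  have hω0 : ω ≠ 0 := hprim.ne_zero hn.ne_zero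
  have hpy : (y : Matrix ι ι F) * p = ω ^ i • (p * y) := by
    rw [hp, ← mul_assoc, pow_rel h.rel, Matrix.smul_mul, mul_assoc, ← pow_succ', pow_succ, ← mul_assoc]
  have hyx : ∀ k : ℕ, (y : Matrix ι ι F) ^ k * x = ω ^ k • ((x : Matrix ι ι F) * (y : Matrix ι ι F) ^ k) := by
    intro k
    induction k with
    | zero => simp
    | succ k ih =>
      rw [pow_succ, mul_assoc, h.rel, Matrix.mul_smul, ← mul_assoc, ih, Matrix.smul_mul, smul_smul, mul_assoc,
        ← pow_succ, ← pow_succ']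
  have hpx : p * (x : Matrix ι ι F) = ω ^ j • ((x : Matrix ι ι F) * p) := by
    rw [hp, mul_assoc, hyx, Matrix.mul_smul, ← mul_assoc, ← pow_succ, pow_succ', ← mul_assoc]
  have hwp : (w : Matrix ι ι F) * p = (r : Matrix ι ι F) := by
    rw [hp, ← Units.val_pow_eq_pow_val, ← Units.val_pow_eq_pow_val, ← Units.val_mul, ← Units.val_mul]
    exact congrArg Units.val (inv_mul_cancel_right r _)
  have hp1 : Function.Injective fun M : Matrix ι ι F => M * p := by
    intro a b hab
    have hu : IsUnit p := hp ▸ (x.isUnit.pow i).mul (y.isUnit.pow j)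
    exact hu.mul_left_injective hab
  have hwx : (w : Matrix ι ι F) * x = (x : Matrix ι ι F) * (w : Matrix ι ι F) := by
    refine hp1 (smul_right_injective _ (pow_ne_zero j hω0) ?_)
    show ω ^ j • ((w : Matrix ι ι F) * x * p) = ω ^ j • ((x : Matrix ι ι F) * w * p)
    rw [mul_assoc, ← Matrix.mul_smul, ← hpx, ← mul_assoc, hwp, hcx, mul_assoc, hwp]
  have hwy : (w : Matrix ι ι F) * y = (y : Matrix ι ι F) * (w : Matrix ι ι F) := by
    refine hp1 (smul_right_injective _ (one_ne_zero (α := F)) ?_)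
    show (1 : F) • ((w : Matrix ι ι F) * y * p) = (1 : F) • ((y : Matrix ι ι F) * w * p)
    rw [one_smul, one_smul, mul_assoc, hpy, Matrix.mul_smul, ← mul_assoc, hwp, ← hcy, mul_assoc, hwp]
  obtain ⟨c, hc⟩ := h.centralizer hR hn hodd hwx hwy
  have hc1 : c ^ Fintype.card ι = 1 := by
    have h1 := det_eq_one_of_mem (hR.det_one hwR)
    rwa [hc, Matrix.det_smul, Matrix.det_one, mul_one] at h1
  obtain ⟨a, ha, rfl⟩ := hprim.eq_pow_of_pow_eq_one hc1
  exact ⟨⟨a, ha⟩, ⟨i, hi⟩, ⟨j, hj⟩, by rw [← hwp, hc, Matrix.smul_mul, one_mul, hp]⟩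

theorem HPair.omega_mem (hR : ClassTwo R) {x y : GL ι F} {ω : F} (h : HPair R x y ω) (a : ℕ) :
    ∃ z ∈ R, (z : Matrix ι ι F) = ω ^ a • (1 : Matrix ι ι F) := by
  refine ⟨⁅y, x⁆ ^ a, pow_mem (commutator_le_self R (Subgroup.commutator_mem_commutator h.memy h.memx)) a, ?_⟩
  have h1 : ((⁅y, x⁆ : GL ι F) : Matrix ι ι F) = ω • (1 : Matrix ι ι F) := by
    rw [show ⁅y, x⁆ = y * x * (x * y)⁻¹ by rw [commutatorElement_def]; group, Units.val_mul, Units.val_mul, h.rel,
      Matrix.smul_mul, ← Units.val_mul x y, ← Units.val_mul, mul_inv_cancel, Units.val_one]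
  rw [Units.val_pow_eq_pow_val, h1, _root_.smul_pow, one_pow]

/-- The parametrisation of R. -/
theorem HPair.natCard [Nonempty ι] (hR : ClassTwo R) (hn : (Fintype.card ι).Prime) (hodd : Odd (Fintype.card ι))
    {x y : GL ι F} {ω : F} (h : HPair R x y ω) : Nat.card R = Fintype.card ι ^ 3 := by
  set n := Fintype.card ι with hndef
  have hprim := h.primitive hR hn
  choose z hzR hz using h.omega_mem hR
  let Φ : Fin n × Fin n × Fin n → R := fun t =>
    ⟨z t.1 * (x ^ (t.2.1 : ℕ) * y ^ (t.2.2 : ℕ)), mul_mem (hzR _) (mul_mem (pow_mem h.memx _) (pow_mem h.memy _))⟩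
  have hval : ∀ t, ((Φ t : GL ι F) : Matrix ι ι F) =
      ω ^ (t.1 : ℕ) • ((x : Matrix ι ι F) ^ (t.2.1 : ℕ) * (y : Matrix ι ι F) ^ (t.2.2 : ℕ)) := fun t => by
    simp [Φ, hz]
  have hbij : Function.Bijective Φ := by
    refine ⟨fun s t hst => ?_, fun r => ?_⟩
    · have h1 := hval s
      rw [hst, hval t] at h1
      have key : ∀ u : Fin n × Fin n × Fin n,
          (y : Matrix ι ι F) * (ω ^ (u.1 : ℕ) • ((x : Matrix ι ι F) ^ (u.2.1 : ℕ) * (y : Matrix ι ι F) ^ (u.2.2 : ℕ))) =
          ω ^ (u.2.1 : ℕ) • ((ω ^ (u.1 : ℕ) • ((x : Matrix ι ι F) ^ (u.2.1 : ℕ) * (y : Matrix ι ι F) ^ (u.2.2 : ℕ))) * y) := fun u => by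
        rw [Matrix.mul_smul, ← mul_assoc, pow_rel h.rel, Matrix.smul_mul, Matrix.smul_mul, smul_comm, mul_assoc, ← pow_succ',
          pow_succ, ← mul_assoc]
      have h2 := key s
      rw [← h1, key t] at h2
      have hne : (ω ^ (t.1 : ℕ) • ((x : Matrix ι ι F) ^ (t.2.1 : ℕ) * (y : Matrix ι ι F) ^ (t.2.2 : ℕ))) * y ≠ 0 := by
        rw [← hval t, ← Units.val_mul]
        exact Units.ne_zero _
      have hi : t.2.1 = s.2.1 := Fin.ext (hprim.pow_inj t.2.1.2 s.2.1.2 (smul_left_injective F hne h2))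
      rw [← hi] at h1
      -- now the powers of y
      have hyx : ∀ k : ℕ, (y : Matrix ι ι F) ^ k * x = ω ^ k • ((x : Matrix ι ι F) * (y : Matrix ι ι F) ^ k) := by
        intro k
        induction k with
        | zero => simp
        | succ k ih =>
          rw [pow_succ, mul_assoc, h.rel, Matrix.mul_smul, ← mul_assoc, ih, Matrix.smul_mul, smul_smul, mul_assoc,
            ← pow_succ, ← pow_succ']
      have key2 : ∀ (a i j : ℕ), ω ^ a • ((x : Matrix ι ι F) ^ i * (y : Matrix ι ι F) ^ j) * x =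
          ω ^ j • ((x : Matrix ι ι F) * (ω ^ a • ((x : Matrix ι ι F) ^ i * (y : Matrix ι ι F) ^ j))) := fun a i j => by
        rw [Matrix.smul_mul, mul_assoc, hyx, Matrix.mul_smul, Matrix.mul_smul, smul_comm, ← mul_assoc, ← pow_succ, pow_succ',
          ← mul_assoc]
      have h3 := key2 s.1 t.2.1 s.2.2
      rw [← h1, key2] at h3
      have hne2 : (x : Matrix ι ι F) * (ω ^ (t.1 : ℕ) • ((x : Matrix ι ι F) ^ (t.2.1 : ℕ) * (y : Matrix ι ι F) ^ (t.2.2 : ℕ))) ≠ 0 := by
        rw [← hval t, ← Units.val_mul]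
        exact Units.ne_zero _
      have hj : t.2.2 = s.2.2 := Fin.ext (hprim.pow_inj t.2.2.2 s.2.2.2 (smul_left_injective F hne2 h3))
      rw [← hj] at h1
      have hne3 : (x : Matrix ι ι F) ^ (t.2.1 : ℕ) * (y : Matrix ι ι F) ^ (t.2.2 : ℕ) ≠ 0 :=
        ((x.isUnit.pow _).mul (y.isUnit.pow _)).ne_zero
      have ha : t.1 = s.1 := Fin.ext (hprim.pow_inj t.1.2 s.1.2 (smul_left_injective F hne3 h1))
      exact (Prod.ext ha (Prod.ext hi hj)).symm
    · obtain ⟨a, i, j, hr⟩ := h.structure hR hn hodd r.2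
      exact ⟨(a, i, j), Subtype.ext (Units.ext ((hval _).trans hr.symm))⟩
  rw [← Nat.card_eq_of_bijective Φ hbij]
  simp [Nat.card_eq_fintype_card]
  ring

theorem ClassTwo.exists_hpair (hR : ClassTwo R) [Nonempty ι] : ∃ (x y : GL ι F) (ω : F), HPair R x y ω := by
  have hns : ¬ R ≤ Geo.scalars ι F := fun h => hR.notComm fun a ha b _ => (scalars_central (h ha) b).symm
  obtain ⟨x, hx, hxs⟩ := SetLike.not_le_iff_exists.mp hns
  obtain ⟨y, ω, hp⟩ := hR.exists_pair hx hxs
  exact ⟨x, y, ω, hp⟩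

theorem ClassTwo.natCard_center [Nonempty ι] (hR : ClassTwo R) (hn : (Fintype.card ι).Prime) :
    Nat.card (Subgroup.center R) = Fintype.card ι := by
  obtain ⟨x, y, ω, h⟩ := hR.exists_hpair
  have hprim := h.primitive hR hn
  choose z hzR hz using h.omega_mem hR
  have hzc : ∀ a, (⟨z a, hzR a⟩ : R) ∈ Subgroup.center R := fun a => Subgroup.mem_center_iff.mpr fun g => by
    refine Subtype.ext (Units.ext ?_)
    simp [hz]
  let Φ : Fin (Fintype.card ι) → Subgroup.center R := fun a => ⟨⟨z a, hzR a⟩, hzc a⟩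
  have hbij : Function.Bijective Φ := by
    refine ⟨fun a b hab => ?_, fun c => ?_⟩
    · have h1 : z a = z b := congrArg (fun t : Subgroup.center R => ((t : R) : GL ι F)) hab
      have h2 := congrArg Units.val h1
      rw [hz, hz] at h2
      exact Fin.ext (hprim.pow_inj a.2 b.2 (smul_left_injective F (one_ne_zero (α := Matrix ι ι F)) h2))
    · have hsc : ((c : R) : GL ι F) ∈ Geo.scalars ι F := mem_scalars_of_commute hR.absIrr fun g hg =>
        (congrArg Subtype.val (Subgroup.mem_center_iff.mp c.2 ⟨g, hg⟩)).symm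
      obtain ⟨d, hd⟩ := (Geo.mem_scalars_iff _).mp hsc
      have h1 := det_eq_one_of_mem (hR.det_one (c : R).2)
      rw [hd, Matrix.det_smul, Matrix.det_one, mul_one] at h1
      obtain ⟨a, ha, had⟩ := hprim.eq_pow_of_pow_eq_one h1
      exact ⟨⟨a, ha⟩, Subtype.ext (Subtype.ext (Units.ext (by simp only [Φ]; rw [hz, hd, had])))⟩
  rw [← Nat.card_eq_of_bijective Φ hbij, Nat.card_fin]

theorem ClassTwo.exponent_eq [Nonempty ι] (hR : ClassTwo R) (hn : (Fintype.card ι).Prime)
    (hodd : Odd (Fintype.card ι)) : Monoid.exponent R = Fintype.card ι * Nat.gcd 2 (Fintype.card ι) := by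
  rw [Nat.Coprime.gcd_eq_one (Nat.coprime_two_left.mpr hodd), mul_one]
  have hdvd : Monoid.exponent R ∣ Fintype.card ι :=
    Monoid.exponent_dvd_of_forall_pow_eq_one fun g => Subtype.ext (by simpa using hR.pow_card hn hodd g.2)
  refine (hn.eq_one_or_self_of_dvd _ hdvd).resolve_left fun h1 => hR.notComm fun a ha b hb => ?_
  have h2 := Monoid.pow_exponent_eq_one (⟨a, ha⟩ : R)
  rw [h1, pow_one] at h2
  simp [show a = 1 from congrArg Subtype.val h2]

theorem ClassTwo.symplecticType [Nonempty ι] (hR : ClassTwo R) (hn : (Fintype.card ι).Prime)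
    (hodd : Odd (Fintype.card ι)) : Geo.IsSymplecticTypeGroup (Fintype.card ι) R := by
  refine ⟨hn, fun g => ⟨1, Subtype.ext (by simpa using hR.pow_card hn hodd g.2)⟩, ?_, hR.exponent_eq hn hodd⟩
  intro A hA hAc
  have hAle : A ≤ Subgroup.center R := by
    intro a ha
    refine Subgroup.mem_center_iff.mpr fun g => ?_
    by_contra hne
    have has : (a : GL ι F) ∉ Geo.scalars ι F := fun h => hne (Subtype.ext (scalars_central h g))
    obtain ⟨b, ω, hp⟩ := hR.exists_pair a.2 has
    have hω0 : ω ≠ 0 := (hp.primitive hR hn).ne_zero hn.ne_zero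
    have hp' : HPair R b (a : GL ι F)⁻¹ ω := by
      refine ⟨hp.memy, inv_mem hp.memx, ?_, hp.ne_one⟩
      have h1 := congrArg (fun M => (((a : GL ι F)⁻¹ : GL ι F) : Matrix ι ι F) * M *
        (((a : GL ι F)⁻¹ : GL ι F) : Matrix ι ι F)) hp.rel
      simpa [mul_assoc] using h1
    obtain ⟨g', hg1, hg2⟩ := hp.exists_conj hR hn hodd hp'
    have hnorm : ∀ r ∈ R, g' * r * g'⁻¹ ∈ R := by
      intro r hr
      obtain ⟨c, i, j, hrv⟩ := hp.structure hR hn hodd hr
      obtain ⟨z, hzR, hz⟩ := hp.omega_mem hR c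
      have hr' : r = z * ((a : GL ι F) ^ (i : ℕ) * b ^ (j : ℕ)) := Units.ext (by simp [hz, hrv])
      have hzg : g' * z * g'⁻¹ = z := by
        rw [scalars_central ((Geo.mem_scalars_iff z).mpr ⟨Units.mk0 _ (pow_ne_zero c hω0), hz⟩) g',
          mul_inv_cancel_right]
      have hexp : g' * r * g'⁻¹ = z * (b ^ (i : ℕ) * ((a : GL ι F)⁻¹) ^ (j : ℕ)) := by
        have e := fun u : GL ι F => show (MulAut.conj g') u = g' * u * g'⁻¹ from rfl
        rw [← e, hr', map_mul, map_mul, map_pow, map_pow, e, e, e, hzg, hg1, hg2]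
      rw [hexp]
      exact mul_mem hzR (mul_mem (pow_mem hp.memy _) (pow_mem (inv_mem hp.memx) _))
    haveI : Finite R := Nat.finite_of_card_ne_zero (by rw [hp.natCard hR hn hodd]; exact pow_ne_zero _ hn.ne_zero)
    let φ : R →* R :=
      { toFun := fun r => ⟨g' * r * g'⁻¹, hnorm r r.2⟩
        map_one' := Subtype.ext (by simp)
        map_mul' := fun r s => Subtype.ext (by simp [mul_assoc]) }
    have hφi : Function.Injective φ := fun r s h => by
      have h1 : g' * (r : GL ι F) * g'⁻¹ = g' * s * g'⁻¹ := congrArg Subtype.val h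
      simpa using h1
    let φe : R ≃* R := MulEquiv.ofBijective φ (Finite.injective_iff_bijective.mp hφi)
    have hbA : (⟨b, hp.memy⟩ : R) ∈ A := by
      have h1 : φe a ∈ A := by
        have h2 : A.comap φe.toMonoidHom = A := hA.fixed φe
        rw [← h2] at ha
        exact ha
      convert h1 using 1
      exact Subtype.ext hg1.symm
    have hcomm : a * ⟨b, hp.memy⟩ = ⟨b, hp.memy⟩ * a :=
      congrArg Subtype.val (hAc.is_comm.comm (⟨a, ha⟩ : A) ⟨_, hbA⟩)
    have h3 := congrArg (fun t : R => ((t : GL ι F) : Matrix ι ι F)) hcomm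
    simp only [Subgroup.coe_mul, Units.val_mul] at h3
    have h4 := hp.rel
    rw [← h3] at h4
    refine hp.ne_one (smul_left_injective F (((a : GL ι F).isUnit.mul b.isUnit).ne_zero) ?_)
    simpa using h4.symm
  haveI : IsCyclic (Subgroup.center R) := by
    haveI := Fact.mk hn
    exact isCyclic_of_prime_card (hR.natCard_center hn)
  exact isCyclic_of_injective (Subgroup.inclusion hAle) (Subgroup.inclusion_injective hAle)

end Cfsg.Agent.Aschbacher
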