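import Cfsg.Agent.Aschbacher.Descent
import Cfsg.Agent.Aschbacher.Heisenberg

/-!
Standard forms attached to a basis, monomial elements, and the standard model of a class two group.
-/

set_option autoImplicit false
set_option linter.unusedSectionVars false
set_option linter.style.haveILetI false

namespace Cfsg.Agent.Aschbacher

open scoped MatrixGroups Matrix
open Module

variable {ι : Type} [Fintype ι] [DecidableEq ι] {F : Type*} [Field F]
variable {κ : Type} [Fintype κ] [DecidableEq κ]

/-- The sesquilinear form with orthonormal basis `b`. -/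
noncomputable def basisForm (σ : F → F) (b : Module.Basis κ F (ι → F)) (u v : ι → F) : F :=
  ∑ i, b.equivFun u i * σ (b.equivFun v i)

theorem basisForm_basis_right (σ : F →+* F) (b : Module.Basis κ F (ι → F)) (u : ι → F) (j : κ) :
    basisForm σ b u (b j) = b.equivFun u j := by
  simp only [basisForm, Module.Basis.equivFun_self]
  rw [Finset.sum_eq_single j (fun i _ hi => by simp [Ne.symm hi]) (by simp)]
  simp

theorem basisForm_basis_left (σ : F →+* F) (b : Module.Basis κ F (ι → F)) (v : ι → F) (j : κ) :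
    basisForm σ b (b j) v = σ (b.equivFun v j) := by
  simp only [basisForm, Module.Basis.equivFun_self]
  rw [Finset.sum_eq_single j (fun i _ hi => by simp [Ne.symm hi]) (by simp)]
  simp

theorem basisForm_nondegenerate (σ : F →+* F) (b : Module.Basis κ F (ι → F)) :
    Geo.IsNondegenerateForm (basisForm σ b) := by
  intro v hv
  obtain ⟨i, hi⟩ := Function.ne_iff.mp (b.equivFun.map_ne_zero_iff.mpr hv)
  exact ⟨⟨b i, by rw [basisForm_basis_left]; exact (map_ne_zero σ).mpr hi⟩,
    ⟨b i, by rw [basisForm_basis_right]; exact hi⟩⟩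

theorem basisForm_unitary (σ : F ≃+* F) (h1 : σ ≠ RingEquiv.refl F) (h2 : ∀ a, σ (σ a) = a)
    (b : Module.Basis κ F (ι → F)) : Geo.IsUnitaryForm σ (basisForm σ b) where
  ne_refl := h1
  involutive := h2
  add_left x y v := by simp [basisForm, add_mul, Finset.sum_add_distrib]
  smul_left c x v := by simp [basisForm, Finset.mul_sum, mul_assoc]
  herm v w := by
    simp only [basisForm, map_sum, map_mul, h2]
    exact Finset.sum_congr rfl fun i _ => mul_comm _ _
  nondegenerate := basisForm_nondegenerate (σ : F →+* F) b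

/-- The quadratic form with orthonormal basis `b`. -/
noncomputable def basisQuad (b : Module.Basis κ F (ι → F)) (v : ι → F) : F := basisForm id b v v

theorem basisQuad_polar (b : Module.Basis κ F (ι → F)) (u v : ι → F) :
    QuadraticMap.polar (basisQuad b) u v = 2 * basisForm id b u v := by
  simp only [QuadraticMap.polar, basisQuad, basisForm, id, map_add, Pi.add_apply]
  rw [← Finset.sum_sub_distrib, ← Finset.sum_sub_distrib, Finset.mul_sum]
  exact Finset.sum_congr rfl fun i _ => by ring

theorem basisQuad_nondegenerate (h2 : (2 : F) ≠ 0) (b : Module.Basis κ F (ι → F)) :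
    Geo.IsNondegenerateQuadraticForm (basisQuad b) where
  smul c v := by
    simp only [basisQuad, basisForm, id, map_smul, Pi.smul_apply, smul_eq_mul, Finset.mul_sum]
    exact Finset.sum_congr rfl fun i _ => by ring
  polar_bilinear := by
    constructor <;> intros <;>
      simp [basisQuad_polar, basisForm, add_mul, mul_add, Finset.sum_add_distrib, Finset.mul_sum, mul_assoc,
        mul_left_comm]
  nondegenerate v hv := by
    obtain ⟨⟨x, hx⟩, ⟨y, hy⟩⟩ := basisForm_nondegenerate (RingHom.id F) b v hv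
    exact ⟨⟨x, by rw [basisQuad_polar]; exact mul_ne_zero h2 hx⟩,
      ⟨y, by rw [basisQuad_polar]; exact mul_ne_zero h2 hy⟩⟩

/-- Coordinates of the image under a monomial matrix. -/
theorem monomial_repr {g : GL ι F} {b : Module.Basis κ F (ι → F)} {π : κ → κ} {c : κ → F}
    (hπ : Function.Injective π) (hg : ∀ i, (g : Matrix ι ι F) *ᵥ b i = c i • b (π i)) (u : ι → F) (i : κ) :
    b.equivFun ((g : Matrix ι ι F) *ᵥ u) (π i) = c i * b.equivFun u i := by
  conv_lhs => rw [← b.sum_equivFun u]
  simp only [Matrix.mulVec_sum, Matrix.mulVec_smul, hg, map_sum, map_smul, Module.Basis.equivFun_self,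
    Finset.sum_apply, Pi.smul_apply, smul_eq_mul]
  rw [Finset.sum_eq_single i (fun j _ hj => by simp [hπ.ne hj]) (by simp)]
  simp [mul_comm]

theorem monomial_preserves {σ : F →+* F} {g : GL ι F} {b : Module.Basis κ F (ι → F)} {π : κ → κ} {c : κ → F}
    (hπ : Function.Injective π) (hg : ∀ i, (g : Matrix ι ι F) *ᵥ b i = c i • b (π i))
    (hc : ∀ i, c i * σ (c i) = 1) (u v : ι → F) :
    basisForm σ b ((g : Matrix ι ι F) *ᵥ u) ((g : Matrix ι ι F) *ᵥ v) = basisForm σ b u v := by
  simp only [basisForm]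
  rw [← (Finite.injective_iff_bijective.mp hπ).sum_comp
    (fun k => b.equivFun ((g : Matrix ι ι F) *ᵥ u) k * σ (b.equivFun ((g : Matrix ι ι F) *ᵥ v) k))]
  refine Finset.sum_congr rfl fun i _ => ?_
  rw [monomial_repr hπ hg, monomial_repr hπ hg, map_mul, mul_mul_mul_comm, hc i, one_mul]

theorem frame_perm {g : GL ι F} {b : Module.Basis κ F (ι → F)}
    (h : ∀ i, ∃ (j : κ) (c : F), (g : Matrix ι ι F) *ᵥ b i = c • b j) :
    ∃ (π : κ → κ) (c : κ → F), Function.Injective π ∧ (∀ i, c i ≠ 0) ∧
      ∀ i, (g : Matrix ι ι F) *ᵥ b i = c i • b (π i) := by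
  choose π c hπ using h
  have hc : ∀ i, c i ≠ 0 := fun i hi => b.ne_zero i (mulVec_gl_inj g (by simp [hπ i, hi]))
  refine ⟨π, c, fun i j hij => ?_, hc, hπ⟩
  by_contra hne
  have h1 : c j • b i - c i • b j = 0 := mulVec_gl_inj g (by
    simp [Matrix.mulVec_sub, Matrix.mulVec_smul, hπ i, hπ j, hij, smul_smul, mul_comm])
  have h2 := congrArg (fun w => b.equivFun w i) h1
  simp [Ne.symm hne] at h2
  exact hc j h2

/-- All coordinates of the images of basis vectors lie in the subfield. -/
def RationalOn (F₁ : Subfield F) (b : Module.Basis κ F (ι → F)) (g : Matrix ι ι F) : Prop :=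
  ∀ k i, b.equivFun (g *ᵥ b k) i ∈ F₁

theorem RationalOn.mul {F₁ : Subfield F} {b : Module.Basis κ F (ι → F)} {g h : Matrix ι ι F}
    (hg : RationalOn F₁ b g) (hh : RationalOn F₁ b h) : RationalOn F₁ b (g * h) := by
  intro k i
  rw [← Matrix.mulVec_mulVec, ← b.sum_equivFun (h *ᵥ b k)]
  simp only [Matrix.mulVec_sum, Matrix.mulVec_smul, map_sum, map_smul, Finset.sum_apply, Pi.smul_apply, smul_eq_mul]
  exact sum_mem fun l _ => mul_mem (hh k l) (hg l i)

theorem RationalOn.one {F₁ : Subfield F} {b : Module.Basis κ F (ι → F)} : RationalOn F₁ b (1 : Matrix ι ι F) := by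
  intro k i
  rw [Matrix.one_mulVec, Module.Basis.equivFun_self]
  split <;> simp

/-- The matrix taking a basis indexed by `ι` to the standard one. -/
noncomputable def coordGL (b : Module.Basis ι F (ι → F)) : GL ι F :=
  ⟨LinearMap.toMatrix' b.equivFun.toLinearMap, LinearMap.toMatrix' b.equivFun.symm.toLinearMap,
    by rw [← LinearMap.toMatrix'_comp]; simp, by rw [← LinearMap.toMatrix'_comp]; simp⟩

theorem coordGL_mulVec (b : Module.Basis ι F (ι → F)) (v : ι → F) :
    (coordGL b : Matrix ι ι F) *ᵥ v = b.equivFun v := LinearMap.toMatrix'_mulVec _ _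

theorem rational_of_rationalOn {F₁ : Subfield F} {b : Module.Basis ι F (ι → F)} {g : GL ι F}
    (h : RationalOn F₁ b (g : Matrix ι ι F)) :
    Rational F₁ ((coordGL b * g * (coordGL b)⁻¹ : GL ι F) : Matrix ι ι F) := by
  intro i k
  have h1 : ((coordGL b * g * (coordGL b)⁻¹ : GL ι F) : Matrix ι ι F) *ᵥ Pi.single k 1 =
      b.equivFun ((g : Matrix ι ι F) *ᵥ b k) := by
    have hb : (((coordGL b)⁻¹ : GL ι F) : Matrix ι ι F) *ᵥ Pi.single k 1 = b k := by
      refine mulVec_gl_inj (coordGL b) ?_
      show (coordGL b : Matrix ι ι F) *ᵥ _ = (coordGL b : Matrix ι ι F) *ᵥ _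
      rw [mulVec_inv_mulVec, coordGL_mulVec]
      ext j
      simp [Pi.single_apply, eq_comm]
    rw [Units.val_mul, Units.val_mul, ← Matrix.mulVec_mulVec, ← Matrix.mulVec_mulVec, hb, coordGL_mulVec]
  have h2 := congrFun h1 i
  rw [Matrix.mulVec_single_one] at h2
  have h3 : ((coordGL b * g * (coordGL b)⁻¹ : GL ι F) : Matrix ι ι F) i k = b.equivFun ((g : Matrix ι ι F) *ᵥ b k) i := h2
  rw [h3]
  exact h k i

/-- The standard model of a class two group. -/
theorem ClassTwo.standard {R : Subgroup (GL ι F)} [Nonempty ι] (hR : ClassTwo R) (hn : (Fintype.card ι).Prime)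
    (hodd : Odd (Fintype.card ι)) :
    ∃ (b : Module.Basis ι F (ι → F)) (ω : F), IsPrimitiveRoot ω (Fintype.card ι) ∧
      (∀ F₁ : Subfield F, ω ∈ F₁ → ∀ r ∈ R, RationalOn F₁ b (r : Matrix ι ι F)) ∧
      (∀ σ : F →+* F, σ ω = ω⁻¹ → ∀ r ∈ R, ∀ u v,
        basisForm σ b ((r : Matrix ι ι F) *ᵥ u) ((r : Matrix ι ι F) *ᵥ v) = basisForm σ b u v) ∧
      ∃ z ∈ R, (z : Matrix ι ι F) = ω • (1 : Matrix ι ι F) := by
  haveI : NeZero (Fintype.card ι) := ⟨hn.ne_zero⟩
  obtain ⟨x, y, ω, h⟩ := hR.exists_hpair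
  obtain ⟨b₀, hbx, hby⟩ := h.exists_basis hR hn hodd
  have hprim := h.primitive hR hn
  have hω0 : ω ≠ 0 := hprim.ne_zero hn.ne_zero
  let e := Fintype.equivFin ι
  let b : Module.Basis ι F (ι → F) := b₀.reindex e.symm
  let c : ι → F := fun i => (ω⁻¹) ^ (e i : ℕ)
  let π : ι → ι := fun i => e.symm (e i + 1)
  have hπ : Function.Injective π := fun i j hij => e.injective (add_right_cancel (e.symm.injective hij))
  have hx : ∀ i, (x : Matrix ι ι F) *ᵥ b i = c i • b (id i) := fun i => by simp [b, c, hbx]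
  have hy : ∀ i, (y : Matrix ι ι F) *ᵥ b i = (1 : F) • b (π i) := fun i => by simp [b, π, hby]
  refine ⟨b, ω, hprim, ?_, ?_, by simpa using h.omega_mem hR 1⟩
  · intro F₁ hω r hr
    obtain ⟨a, i, j, hr'⟩ := h.structure hR hn hodd hr
    have hX : RationalOn F₁ b (x : Matrix ι ι F) := by
      intro k l
      rw [hx, map_smul, Pi.smul_apply, Module.Basis.equivFun_self, smul_eq_mul]
      refine mul_mem (pow_mem (inv_mem hω) _) ?_
      split <;> simp
    have hY : RationalOn F₁ b (y : Matrix ι ι F) := by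
      intro k l
      rw [hy, map_smul, Pi.smul_apply, Module.Basis.equivFun_self, smul_eq_mul, one_mul]
      split <;> simp
    have hp : ∀ {g : Matrix ι ι F}, RationalOn F₁ b g → ∀ m : ℕ, RationalOn F₁ b (g ^ m) := by
      intro g hg m
      induction m with
      | zero => rw [pow_zero]; exact RationalOn.one
      | succ m ih => rw [pow_succ]; exact ih.mul hg
    intro k l
    rw [hr', Matrix.smul_mulVec, map_smul, Pi.smul_apply, smul_eq_mul]
    exact mul_mem (pow_mem hω _) (((hp hX _).mul (hp hY _)) k l)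
  · intro σ hσ r hr u v
    obtain ⟨a, i, j, hr'⟩ := h.structure hR hn hodd hr
    have hX := monomial_preserves (σ := σ) (b := b) Function.injective_id hx (fun i => by
      simp only [c, map_pow, map_inv₀, hσ, inv_inv, ← mul_pow, inv_mul_cancel₀ hω0, one_pow])
    have hY := monomial_preserves (σ := σ) (b := b) hπ hy (fun i => by simp)
    have hp : ∀ {g : Matrix ι ι F}, (∀ u v, basisForm σ b (g *ᵥ u) (g *ᵥ v) = basisForm σ b u v) →
        ∀ (m : ℕ) u v, basisForm σ b (g ^ m *ᵥ u) (g ^ m *ᵥ v) = basisForm σ b u v := by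
      intro g hg m
      induction m with
      | zero => simp
      | succ m ih => intro u v; rw [pow_succ, ← Matrix.mulVec_mulVec, ← Matrix.mulVec_mulVec, ih, hg]
    have hs : ∀ (s : F) u v, basisForm σ b (s • u) (s • v) = s * σ s * basisForm σ b u v := by
      intro s u v
      simp only [basisForm, map_smul, Pi.smul_apply, smul_eq_mul, map_mul, Finset.mul_sum]
      exact Finset.sum_congr rfl fun i _ => mul_mul_mul_comm _ _ _ _
    rw [hr', Matrix.smul_mulVec, Matrix.smul_mulVec, hs, map_pow, hσ, ← mul_pow, mul_inv_cancel₀ hω0, one_pow,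
      one_mul, ← Matrix.mulVec_mulVec, ← Matrix.mulVec_mulVec, hp hX, hp hY]

end Cfsg.Agent.Aschbacher
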