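import Cfsg.Agent.Aschbacher.Linear
import Cfsg.Agent.Aschbacher.Forms
import Cfsg.Agent.Aschbacher.Involution

/-!
The maximal subgroups of SL(n, q), n an odd prime: members of the geometric classes or residual.
-/

set_option autoImplicit false
set_option linter.unusedSectionVars false
set_option linter.style.haveILetI false

namespace Cfsg.Agent.Aschbacher

open scoped MatrixGroups Matrix
open Module

variable {F : Type*} [Field F] [Fintype F]

theorem two_ne_zero_of_odd (h : Odd (Fintype.card F)) : (2 : F) ≠ 0 :=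
  Ring.two_ne_zero fun h2 => Nat.not_even_iff_odd.mpr h (Nat.even_iff.mpr (FiniteField.even_card_iff_char_two.mp h2))

theorem two_eq_zero_of_not_odd (h : ¬ Odd (Fintype.card F)) : (2 : F) = 0 := by
  haveI : CharP F 2 := ringChar.of_eq (FiniteField.even_card_iff_char_two.mpr (Nat.even_iff.mp (Nat.not_odd_iff_even.mp h)))
  exact CharTwo.two_eq_zero

theorem linear_prime {n : ℕ} (hn : n.Prime) (hodd : Odd n) {H : Subgroup (GL (Fin n) F)}
    (hH : Geo.IsMaximalIn (Geo.specialLinear (Fin n) F) H) :
    (∃ W : Submodule F (Fin n → F), W ≠ ⊥ ∧ W ≠ ⊤ ∧ H = Geo.subspaceStabilizer W ⊓ Geo.specialLinear (Fin n) F) ∨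
    (5 ≤ Fintype.card F ∧ ∃ D : Fin n → Submodule F (Fin n → F), Geo.IsMDecomposition 1 D ∧
      H = Geo.decompositionStabilizer D ⊓ Geo.specialLinear (Fin n) F) ∨
    (∃ K : Subalgebra F (Matrix (Fin n) (Fin n) F), Geo.IsFieldSubalgebra n K ∧
      H = Geo.subalgebraNormalizer K ⊓ Geo.specialLinear (Fin n) F) ∨
    (∃ (F₀ : Subfield F) (r : ℕ) (P : GL (Fin n) F), r.Prime ∧ Fintype.card F = Nat.card F₀ ^ r ∧
      H = Geo.subfieldSubgroup F₀ P ⊓ Geo.specialLinear (Fin n) F) ∨
    (∃ (p e : ℕ) (R : Subgroup (GL (Fin n) F)), p.Prime ∧ CharP F p ∧ Fintype.card F = p ^ e ∧ Odd e ∧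
      e ∣ n - 1 ∧ n ∣ p ^ e - 1 ∧ (∀ d, 0 < d → d < e → ¬ n ∣ p ^ d - 1) ∧
      Geo.IsLinearSymplecticTypeData n R ∧ H = Geo.subgroupNormalizer R ⊓ Geo.specialLinear (Fin n) F) ∨
    (Odd (Fintype.card F) ∧ ∃ Q : (Fin n → F) → F, Geo.IsNondegenerateQuadraticForm Q ∧
      H = Geo.quadSimilarityGroup Q ⊓ Geo.specialLinear (Fin n) F) ∨
    (∃ (σ : F ≃+* F) (f : (Fin n → F) → (Fin n → F) → F), Geo.IsUnitaryForm σ f ∧
      H = Geo.similarityGroup f ⊓ Geo.specialLinear (Fin n) F) ∨
    Geo.InLinearResidualClass H := by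
  classical
  have hcard : Fintype.card (Fin n) = n := Fintype.card_fin n
  have hn' : (Fintype.card (Fin n)).Prime := hcard.symm ▸ hn
  have hodd' : Odd (Fintype.card (Fin n)) := hcard.symm ▸ hodd
  have hn3 : 3 ≤ Fintype.card (Fin n) := by
    rw [hcard]
    rcases hodd with ⟨k, hk⟩
    have := hn.two_le
    omega
  haveI : Nonempty (Fin n) := ⟨⟨0, hn.pos⟩⟩
  have hHI : H ≤ Geo.specialLinear (Fin n) F := hH.1.le
  by_cases hirr : Irr H
  swap
  · simp only [Irr, not_forall, not_or] at hirr
    obtain ⟨W, hW, hWb, hWt⟩ := hirr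
    exact Or.inl ⟨W, hWb, hWt, eq_inf_of_maximal hH (inv_le_subspaceStabilizer hW)
      (sl_not_le_subspaceStabilizer (by omega) hWb hWt)⟩
  right
  have hunit : ∀ (σ : F ≃+* F) (f : (Fin n → F) → (Fin n → F) → F), Geo.IsUnitaryForm σ f →
      H ≤ Geo.similarityGroup f → ∃ (σ : F ≃+* F) (f : (Fin n → F) → (Fin n → F) → F), Geo.IsUnitaryForm σ f ∧
        H = Geo.similarityGroup f ⊓ Geo.specialLinear (Fin n) F := by
    intro σ f hf hle
    refine ⟨σ, f, hf, eq_inf_of_maximal hH hle (sl_not_le_similarityGroup hn3 hf.add_left ?_)⟩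
    by_contra hcon
    push Not at hcon
    have hg := exists_gram (σ : F →+* F) f hf.add_left hf.smul_left
      (fun v x y => by rw [hf.herm, hf.add_left, map_add, ← hf.herm, ← hf.herm])
      (fun c v x => by rw [hf.herm, hf.smul_left, map_mul, ← hf.herm]; rfl)
    have hu := gram_isUnit hg hf.nondegenerate
    rw [show Geo.gramMatrix f = 0 from Matrix.ext fun a b => hcon a b] at hu
    exact not_isUnit_zero hu
  have hquad : ∀ Q : (Fin n → F) → F, Geo.IsNondegenerateQuadraticForm Q → H ≤ Geo.quadSimilarityGroup Q →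
      H = Geo.quadSimilarityGroup Q ⊓ Geo.specialLinear (Fin n) F :=
    fun Q hQ hle => eq_inf_of_maximal hH hle (sl_not_le_quadSimilarityGroup hn3 hQ)
  have hsub : ∀ (F₀ : Subfield F), F₀ ≠ ⊤ → ∀ {P : Subgroup (GL (Fin n) F)} (B : GL (Fin n) F),
      NormalIn P H → Geo.ActsAbsolutelyIrreducibly (Geo.matrixSet P) →
      (∀ s ∈ P, Rational F₀ ((B * s * B⁻¹ : GL (Fin n) F) : Matrix (Fin n) (Fin n) F)) →
      ∃ (F₀ : Subfield F) (r : ℕ) (P : GL (Fin n) F), r.Prime ∧ Fintype.card F = Nat.card F₀ ^ r ∧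
        H = Geo.subfieldSubgroup F₀ P ⊓ Geo.specialLinear (Fin n) F := by
    intro F₀ hF₀ P B hn habs hP
    obtain ⟨F₁, r, hr, hc, hle⟩ := exists_prime_index_above F₀ hF₀
    have hF₁ : F₁ ≠ ⊤ := fun h => by
      have h1 := (subfield_eq_top_iff F₁).mp h
      rw [h1] at hc
      exact absurd hc (Nat.ne_of_lt (lt_self_pow₀ Fintype.one_lt_card hr.one_lt))
    exact ⟨F₁, r, B⁻¹, hr, hc, eq_inf_of_maximal hH (le_subfieldSubgroup habs hn fun s hs i j => hle (hP s hs i j))
      (sl_not_le_subfieldSubgroup hn3 hF₁ _)⟩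
  rcases prime_structure hn' hirr with ⟨M, -, hM, hd, hs⟩ | ⟨M, -, hM, hc, hi⟩ | ⟨R, hRH, hRn, hRc, hR2, hRabs⟩ | ⟨P, hP⟩
  · obtain ⟨b', χ, -, -, hperm, -⟩ := exists_frame hn' hM hirr hd hs
    by_cases h5 : 5 ≤ Fintype.card F
    · left
      refine ⟨h5, _, lines_decomposition (hn.two_le) (b'.reindex (finCongr hcard)), ?_⟩
      refine eq_inf_of_maximal hH (le_decompositionStabilizer _ fun g hg i => ?_) ?_
      · obtain ⟨j, c, hj⟩ := hperm g hg ((finCongr hcard).symm i)
        exact ⟨finCongr hcard j, c, by simpa using hj⟩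
      · intro hle
        refine sl_not_le_lines b' (by omega) (hle.trans ?_)
        intro g hg
        obtain ⟨τ, hτ⟩ := hg
        refine ⟨((finCongr hcard).trans τ).trans (finCongr hcard).symm, fun i => ?_⟩
        have := hτ (finCongr hcard i)
        simpa using this
    have hQ4 : Fintype.card F < 5 := by omega
    have hQ2 := Fintype.one_lt_card (α := F)
    interval_cases hQ : Fintype.card F
    · -- two elements: the sum of the basis is fixed
      exfalso
      have hone : ∀ c : F, c ≠ 0 → c = 1 := fun c hc => by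
        have := FiniteField.pow_card_sub_one_eq_one c hc
        rwa [hQ, pow_one] at this
      have hv : ∑ i, b' i ≠ 0 := fun h0 => by
        have h1 := Fintype.linearIndependent_iff.mp b'.linearIndependent (fun _ => (1 : F)) (by simpa using h0)
          ⟨0, by omega⟩
        exact one_ne_zero h1
      have hinv : Inv H (Submodule.span F {∑ i, b' i}) := by
        intro g hg w hw
        obtain ⟨a, rfl⟩ := Submodule.mem_span_singleton.mp hw
        obtain ⟨π, c, hπ, hc0, hg'⟩ := frame_perm (hperm g hg)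
        rw [Matrix.mulVec_smul]
        refine Submodule.smul_mem _ a ?_
        have : (g : Matrix (Fin n) (Fin n) F) *ᵥ ∑ i, b' i = ∑ i, b' i := by
          rw [Matrix.mulVec_sum]
          simp only [hg', fun i => hone _ (hc0 i), one_smul]
          exact (Finite.injective_iff_bijective.mp hπ).sum_comp (fun i => b' i)
        rw [this]
        exact Submodule.mem_span_singleton_self _
      rcases hirr _ hinv with h0 | h0
      · exact hv (by simpa using h0)
      · have h2 := congrArg (fun W : Submodule F (Fin n → F) => finrank F W) h0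
        simp [finrank_span_singleton hv] at h2
        omega
    · -- three elements: a quadratic form
      refine Or.inr (Or.inr (Or.inr (Or.inr (Or.inl ⟨by decide, basisQuad b', ?_⟩))))
      have hQnd : Geo.IsNondegenerateQuadraticForm (basisQuad b') :=
        basisQuad_nondegenerate (two_ne_zero_of_odd (by rw [hQ]; decide)) b'
      refine ⟨hQnd, hquad _ hQnd fun g hg => ⟨1, fun v => ?_⟩⟩
      obtain ⟨π, c, hπ, hc0, hg'⟩ := frame_perm (hperm g hg)
      rw [Units.val_one, one_mul]
      exact monomial_preserves (σ := RingHom.id F) hπ hg' (fun i => by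
        have := FiniteField.pow_card_sub_one_eq_one (c i) (hc0 i)
        rw [hQ] at this
        simpa [pow_two] using this) v v
    · -- four elements: a unitary form
      obtain ⟨σ, hσ1, hσ2, hσq⟩ := exists_involution (F := F) (q := 2) (by rw [hQ]; norm_num)
      refine Or.inr (Or.inr (Or.inr (Or.inr (Or.inr (Or.inl ?_)))))
      refine hunit σ _ (basisForm_unitary σ hσ1 hσ2 b') fun g hg => ⟨1, fun u v => ?_⟩
      obtain ⟨π, c, hπ, hc0, hg'⟩ := frame_perm (hperm g hg)
      rw [Units.val_one, one_mul]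
      exact monomial_preserves (σ := (σ : F →+* F)) hπ hg' (fun i => by
        have := FiniteField.pow_card_sub_one_eq_one (c i) (hc0 i)
        rw [hQ] at this
        show c i * σ (c i) = 1
        rw [hσq, ← pow_succ']
        simpa using this) u v
  · obtain ⟨hK, hle⟩ := field_of_comm_irr hn' hM hc hi
    refine Or.inr (Or.inl ⟨_, ?_, eq_inf_of_maximal hH hle
      (sl_not_le_subalgebraNormalizer hn3 hK (by omega))⟩)
    simpa [hcard] using hK
  · have hR : ClassTwo R := ⟨hRc, hR2, hRH.trans hHI, hRabs⟩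
    obtain ⟨p, hp⟩ := CharP.exists F
    have hpp : p.Prime := CharP.char_is_prime F p
    obtain ⟨b, ω, hω, hrat, hiso, -⟩ := hR.standard hn' hodd'
    rw [hcard] at hω
    obtain ⟨e, f, hf, he0, hef, hen, hnp, hed, hmin⟩ := exists_min_exponent (F := F) hpp hn hω
    obtain ⟨m, rfl⟩ := hef
    rcases Nat.lt_or_ge 1 m with hm | hm
    · -- a proper subfield contains the roots of unity
      obtain ⟨F₁, r, hr, hc, hmem⟩ := exists_prime_index (F := F) (q₀ := p ^ e) hm (by rw [hf, pow_mul])
      have hωm : ω ∈ F₁ := hmem ω (by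
        obtain ⟨k, hk⟩ := hed
        have hpe : p ^ e = n * k + 1 := by have := Nat.one_le_pow e p hpp.pos; omega
        rw [hpe, pow_succ, pow_mul, hω.pow_eq_one, one_pow, one_mul])
      have hF₁ : F₁ ≠ ⊤ := fun h => by
        rw [(subfield_eq_top_iff F₁).mp h] at hc
        exact absurd hc (Nat.ne_of_lt (lt_self_pow₀ Fintype.one_lt_card hr.one_lt))
      exact Or.inr (Or.inr (Or.inl (hsub F₁ hF₁ (coordGL b) hRn hRabs
        fun s hs => rational_of_rationalOn (hrat F₁ hωm s hs))))
    · have hm1 : m = 1 := by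
        rcases Nat.eq_zero_or_pos m with rfl | h
        · simp at hf; exact absurd hf (Fintype.one_lt_card.ne')
        · omega
      subst hm1
      rw [mul_one] at hf
      rcases Nat.even_or_odd e with he | he
      · -- a unitary form
        obtain ⟨k, rfl⟩ := he
        have hk0 : 0 < k := by omega
        obtain ⟨σ, hσ1, hσ2, hσq⟩ := exists_involution (F := F) (q := p ^ k) (by rw [hf, ← pow_mul]; ring_nf)
        have hσω : σ ω = ω⁻¹ := by
          rw [hσq]
          have h1 : n ∣ (p ^ k - 1) * (p ^ k + 1) := by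
            have hh : p ^ (k + k) - 1 = (p ^ k - 1) * (p ^ k + 1) := by
              rw [pow_add, mul_comm (p ^ k - 1)]
              have := Nat.sq_sub_sq (p ^ k) 1
              simpa [pow_two] using this
            rw [← hh]; exact hed
          have h2 : n ∣ p ^ k + 1 := (hn.dvd_mul.mp h1).resolve_left (hmin k hk0 (by omega))
          obtain ⟨l, hl⟩ := h2
          refine eq_inv_of_mul_eq_one_left ?_
          rw [← pow_succ, hl, pow_mul, hω.pow_eq_one, one_pow]
        refine Or.inr (Or.inr (Or.inr (Or.inr (Or.inr (Or.inl ?_)))))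
        have hgram := exists_gram (σ : F →+* F) (basisForm σ b) (basisForm_unitary σ hσ1 hσ2 b).add_left
          (basisForm_unitary σ hσ1 hσ2 b).smul_left
          (fun v x y => by simp [basisForm, mul_add, Finset.sum_add_distrib])
          (fun c v x => by simp [basisForm, Finset.mul_sum, mul_left_comm])
        refine hunit σ _ (basisForm_unitary σ hσ1 hσ2 b) (le_similarityGroup hgram
          (basisForm_nondegenerate (σ : F →+* F) b) hRabs hRn ?_)
        rintro _ ⟨r, hr, rfl⟩ u v
        exact hiso (σ : F →+* F) hσω r hr u v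
      · refine Or.inr (Or.inr (Or.inr (Or.inl ⟨p, e, R, hpp, hp, hf, he, hen, hed, hmin, ?_, ?_⟩)))
        · have hz : Nat.card (Subgroup.center R) = n := by rw [hR.natCard_center hn', hcard]
          obtain ⟨x, y, ω', hpair⟩ := hR.exists_hpair
          have hst := hR.symplecticType hn' hodd'
          rw [hcard] at hst
          refine ⟨hst, hRabs, p, e, hnp, ?_, Or.inl ⟨hodd, he, hz, 1, le_rfl, ?_⟩⟩
          · rw [hz]; exact ⟨hpp, hp, hf, hed, hmin⟩
          · rw [hpair.natCard hR hn' hodd', hcard]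
        · refine eq_inf_of_maximal hH ?_ (sl_not_le_normalizer hR hn' hn3)
          intro g hg
          refine Subgroup.mem_normalizer_iff.mpr fun x => ⟨hRn g hg x, fun h => ?_⟩
          simpa [mul_assoc] using hRn g⁻¹ (inv_mem hg) _ h
  · by_cases hreal : ∃ F₀ : Subfield F, F₀ ≠ ⊤ ∧ Geo.RealisableOver F₀ (Geo.matrixSet P)
    · obtain ⟨F₀, hF₀, B, hB⟩ := hreal
      exact Or.inr (Or.inr (Or.inl (hsub F₀ hF₀ B hP.normal hP.absIrred
        fun s hs i j => by simpa using hB _ ⟨s, hs, rfl⟩ i j)))
    push Not at hreal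
    by_cases hq : ∃ Q : (Fin n → F) → F, Geo.IsNondegenerateQuadraticForm Q ∧ Geo.FixesQuadForm (Geo.matrixSet P) Q
    · obtain ⟨Q, hQ, hfix⟩ := hq
      have hg := exists_gram (RingHom.id F) (QuadraticMap.polar Q) hQ.polar_bilinear.add_left hQ.polar_bilinear.smul_left
        hQ.polar_bilinear.add_right (fun c v x => hQ.polar_bilinear.smul_right c v x)
      have hd : ∀ v, QuadraticMap.polar Q v v = 2 * Q v := fun v => by
        rw [QuadraticMap.polar, ← two_smul F v, hQ.smul]; ring
      have hQodd : Odd (Fintype.card F) := by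
        by_contra he
        have h2 := two_eq_zero_of_not_odd he
        have hu := (Matrix.isUnit_iff_isUnit_det _).mp (gram_isUnit hg hQ.nondegenerate)
        rw [det_eq_zero_of_alternating hodd' (fun i => by rw [Geo.gramMatrix, hd, h2, zero_mul])
          (fun i j => by
            have hneg : ∀ a : F, -a = a := fun a => neg_eq_of_add_eq_zero_left (by rw [← two_mul, h2, zero_mul])
            rw [hneg]; exact QuadraticMap.polar_comm _ _ _)] at hu
        exact not_isUnit_zero hu
      refine Or.inr (Or.inr (Or.inr (Or.inr (Or.inl ⟨hQodd, Q, hQ, hquad Q hQ ?_⟩))))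
      have hsim := le_similarityGroup hg hQ.nondegenerate hP.absIrred hP.normal (fun s hs u v => by
        simp only [QuadraticMap.polar, ← Matrix.mulVec_add, hfix s hs])
      intro g hg'
      obtain ⟨c, hc⟩ := hsim hg'
      refine ⟨c, fun v => mul_left_cancel₀ (two_ne_zero_of_odd hQodd) ?_⟩
      rw [← hd, hc, hd]
      ring
    by_cases hu : ∃ (σ : F ≃+* F) (f : (Fin n → F) → (Fin n → F) → F), Geo.IsUnitaryForm σ f ∧ Geo.FixesForm (Geo.matrixSet P) f
    · obtain ⟨σ, f, hf, hfix⟩ := hu
      have hg := exists_gram (σ : F →+* F) f hf.add_left hf.smul_left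
        (fun v x y => by rw [hf.herm, hf.add_left, map_add, ← hf.herm, ← hf.herm])
        (fun c v x => by rw [hf.herm, hf.smul_left, map_mul, ← hf.herm]; rfl)
      exact Or.inr (Or.inr (Or.inr (Or.inr (Or.inr (Or.inl
        (hunit σ f hf (le_similarityGroup hg hf.nondegenerate hP.absIrred hP.normal hfix)))))))
    refine Or.inr (Or.inr (Or.inr (Or.inr (Or.inr (Or.inr ⟨P, hP.toResidual hreal, hq, ?_, hu⟩)))))
    rintro ⟨f, hf, -⟩
    have hg := exists_gram (RingHom.id F) f hf.bilinear.add_left hf.bilinear.smul_left hf.bilinear.add_right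
      (fun c v x => hf.bilinear.smul_right c v x)
    have hu := (Matrix.isUnit_iff_isUnit_det _).mp (gram_isUnit hg hf.nondegenerate)
    rw [det_eq_zero_of_alternating hodd' (G := Geo.gramMatrix f) (fun i => hf.alternating _) (fun i j => hf.skew _ _)] at hu
    exact not_isUnit_zero hu

end Cfsg.Agent.Aschbacher
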