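import Cfsg.Agent.Aschbacher.LinearPrime

/-!
Over the field with four elements the normaliser in SL(3) of a cubic extension lies in a subfield group.
-/

set_option autoImplicit false
set_option linter.unusedSectionVars false
set_option linter.style.haveILetI false

namespace Cfsg.Agent.Aschbacher

open scoped MatrixGroups Matrix
open Module

/-- The statement with the extension given as an abstract field acting on the vector space. -/
theorem cubic_four_aux {F : Type*} [Field F] [Fintype F] (h4 : Fintype.card F = 4) {K : Type*} [Field K] [Fintype K]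
    [Algebra F K] (hfin : finrank F K = 3) (E : K →ₐ[F] Matrix (Fin 3) (Fin 3) F) :
    ∃ (F₀ : Subfield F) (r : ℕ) (P : GL (Fin 3) F), r.Prime ∧ Fintype.card F = Nat.card F₀ ^ r ∧
      ∀ g ∈ Geo.specialLinear (Fin 3) F,
        (∀ k : K, ∃ k' : K, (g : Matrix (Fin 3) (Fin 3) F) * E k * ((g⁻¹ : GL (Fin 3) F) : Matrix (Fin 3) (Fin 3) F) = E k') →
        g ∈ Geo.subfieldSubgroup F₀ P := by
  classical
  obtain ⟨F₀, hF₀c, hF₀⟩ := exists_subfield_card (F := F) (q₁ := 2) (r := 2) two_pos (by rw [h4]; rfl)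
  have hcardK : Fintype.card K = 64 := by
    have h1 := Module.natCard_eq_pow_finrank (K := F) (V := K)
    rw [Nat.card_eq_fintype_card, Nat.card_eq_fintype_card, hfin, h4] at h1
    exact h1
  obtain ⟨L, hLc, hL⟩ := exists_subfield_card (F := K) (q₁ := 8) (r := 2) two_pos (by rw [hcardK]; rfl)
  obtain ⟨a, haL, ha2⟩ : ∃ a : K, a ∈ L ∧ a ^ 2 ≠ a := by
    by_contra hcon
    push Not at hcon
    have hle : (Finset.univ.filter fun x : K => x ∈ L) ⊆ {(0 : K), 1} := by
      intro x hx
      have h1 := hcon x (Finset.mem_filter.mp hx).2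
      rcases eq_or_ne x 0 with rfl | h0
      · simp
      · rw [pow_two] at h1
        simp [(mul_eq_left₀ h0).mp h1]
    have h1 := (Finset.card_le_card hle).trans Finset.card_le_two
    rw [← Fintype.card_subtype, ← Nat.card_eq_fintype_card] at h1
    have h2 : Nat.card {x : K // x ∈ L} = 8 := hLc
    omega
  have hbase : ∀ x : K, x ^ 4 = x → ∃ c : F, algebraMap F K c = x := by
    intro x hx
    have h1 : Nat.card (algebraMap F K).fieldRange = 4 := by
      rw [← Nat.card_eq_of_bijective _ (RingHom.rangeRestrictField_bijective (algebraMap F K)),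
        Nat.card_eq_fintype_card, h4]
    exact RingHom.mem_fieldRange.mp ((mem_subfield_iff_pow _ x).mpr (by rw [h1]; exact hx))
  have hdeg : (minpoly F a).natDegree = 3 := by
    have hint : IsIntegral F a := Algebra.IsIntegral.isIntegral _
    have hd : (minpoly F a).natDegree ∣ 3 := (minpoly.degree_dvd hint).trans hfin.dvd
    refine (Nat.prime_three.eq_one_or_self_of_dvd _ hd).resolve_left fun h1 => ha2 ?_
    obtain ⟨c, hc⟩ := minpoly.natDegree_eq_one_iff.mp h1
    have hc4 : a ^ 4 = a := by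
      rw [← hc, ← map_pow, show c ^ 4 = c by simpa [h4] using FiniteField.pow_card c]
    have hc8 : a ^ 8 = a := (hL a).mp haL
    calc a ^ 2 = (a ^ 4) ^ 2 := by rw [hc4]
      _ = a := by rw [← pow_mul]; exact hc8
  obtain ⟨v, hv⟩ := exists_ne (0 : Fin 3 → F)
  let ev : K →ₗ[F] (Fin 3 → F) :=
    { toFun := fun k => E k *ᵥ v
      map_add' := fun x y => by simp [Matrix.add_mulVec]
      map_smul' := fun c x => by simp [Matrix.smul_mulVec] }
  have hev : Function.Injective ev := by
    rw [← LinearMap.ker_eq_bot, Submodule.eq_bot_iff]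
    intro k hk
    by_contra h0
    refine hv ?_
    calc v = E (k⁻¹ * k) *ᵥ v := by rw [inv_mul_cancel₀ h0, map_one, Matrix.one_mulVec]
      _ = 0 := by rw [map_mul, ← Matrix.mulVec_mulVec, show E k *ᵥ v = 0 from hk, Matrix.mulVec_zero]
  have hevs : Function.Surjective ev :=
    (LinearMap.injective_iff_surjective_of_finrank_eq_finrank (by rw [hfin, Module.finrank_pi, Fintype.card_fin])).mp hev
  have hli : LinearIndependent F (fun i : Fin 3 => a ^ (i : ℕ)) := by
    have := linearIndependent_pow (K := F) a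
    rw [hdeg] at this
    exact this
  let b : Module.Basis (Fin 3) F (Fin 3 → F) :=
    basisOfLinearIndependentOfCardEqFinrank (hli.map' ev (LinearMap.ker_eq_bot.mpr hev)) (by simp)
  have hb : ∀ i, b i = ev (a ^ (i : ℕ)) := fun i => by simp [b]
  have hLrat : ∀ l ∈ L, ∀ i, b.equivFun (ev l) i ∈ F₀ := by
    let φ : (Fin 3 → F₀) → L := fun c => ⟨∑ i, algebraMap F K (c i : F) * a ^ (i : ℕ), by
      refine sum_mem fun i _ => mul_mem ?_ (pow_mem haL _)
      rw [hL, ← map_pow]
      congr 1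
      have h2 : ((c i : F)) ^ 2 = c i := (hF₀ _).mp (c i).2
      rw [show 8 = 2 * 2 * 2 from rfl, pow_mul, pow_mul, h2, h2, h2]⟩
    have hφi : Function.Injective φ := by
      intro c d hcd
      have h1 : ∑ i, algebraMap F K (c i : F) * a ^ (i : ℕ) = ∑ i, algebraMap F K (d i : F) * a ^ (i : ℕ) :=
        congrArg Subtype.val hcd
      simp only [← Algebra.smul_def] at h1
      funext i
      refine Subtype.ext (sub_eq_zero.mp (Fintype.linearIndependent_iff.mp hli (fun i => (c i : F) - (d i : F)) ?_ i))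
      simp only [sub_smul, Finset.sum_sub_distrib]
      exact sub_eq_zero.mpr h1
    have hφb : Function.Bijective φ := hφi.bijective_of_nat_card_le (by
      rw [hLc, Nat.card_pi]
      simp only [hF₀c, Finset.prod_const, Finset.card_univ, Fintype.card_fin]
      norm_num)
    intro l hl i
    obtain ⟨c, hc⟩ := hφb.2 ⟨l, hl⟩
    have h1 : l = ∑ i, algebraMap F K (c i : F) * a ^ (i : ℕ) := (congrArg Subtype.val hc).symm
    have h2 : ev l = ∑ i, (c i : F) • b i := by
      rw [h1]
      simp only [← Algebra.smul_def, map_sum, map_smul, hb]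
    rw [h2, map_sum, Finset.sum_apply]
    simp only [map_smul, Pi.smul_apply, Module.Basis.equivFun_self, smul_eq_mul, mul_ite, mul_one, mul_zero]
    simp
  refine ⟨F₀, 2, (coordGL b)⁻¹, Nat.prime_two, by rw [hF₀c, h4]; rfl, fun g hgS hgN => ?_⟩
  choose σ hσ using hgN
  have hinjE : Function.Injective E := E.toRingHom.injective
  have hσ8 : ∀ l ∈ L, σ l ∈ L := by
    intro l hl
    rw [hL] at hl ⊢
    refine hinjE ?_
    rw [map_pow, ← hσ, Units.conj_pow, ← map_pow, hl]
  obtain ⟨c, hc⟩ := hevs ((g : Matrix (Fin 3) (Fin 3) F) *ᵥ v)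
  have hc0 : c ≠ 0 := by
    rintro rfl
    rw [map_zero] at hc
    exact hv (mulVec_gl_inj g (by simpa using hc.symm))
  have hc63 : c ^ 63 = 1 := by
    have := FiniteField.pow_card_sub_one_eq_one c hc0
    rwa [hcardK] at this
  set z := c ^ 28 with hz
  set l := c ^ 36 with hl
  have hzl : z * l = c := by rw [hz, hl, ← pow_add, show 28 + 36 = 63 + 1 from rfl, pow_succ, hc63, one_mul]
  have hlL : l ∈ L := by
    rw [hL, hl, ← pow_mul, show 36 * 8 = 63 * 4 + 36 from rfl, pow_add, pow_mul, hc63, one_pow, one_mul]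
  have hgb : ∀ i, (g : Matrix (Fin 3) (Fin 3) F) *ᵥ b i = ev (z * (l * σ (a ^ (i : ℕ)))) := by
    intro i
    rw [hb, ← mul_assoc, hzl, mul_comm]
    show (g : Matrix (Fin 3) (Fin 3) F) *ᵥ (E (a ^ (i : ℕ)) *ᵥ v) = E (σ (a ^ (i : ℕ)) * c) *ᵥ v
    have hc' : E c *ᵥ v = (g : Matrix (Fin 3) (Fin 3) F) *ᵥ v := hc
    rw [map_mul, ← Matrix.mulVec_mulVec, hc', ← hσ, ← Matrix.mulVec_mulVec, ← Matrix.mulVec_mulVec, inv_mulVec_mulVec]
  have hz0 : z ≠ 0 := pow_ne_zero _ hc0
  let zu : GL (Fin 3) F := ⟨E z, E z⁻¹,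
    by rw [← map_mul, mul_inv_cancel₀ hz0, map_one], by rw [← map_mul, inv_mul_cancel₀ hz0, map_one]⟩
  have hR : RationalOn F₀ b ((zu⁻¹ * g : GL (Fin 3) F) : Matrix (Fin 3) (Fin 3) F) := by
    intro k i
    have h1 : ((zu⁻¹ * g : GL (Fin 3) F) : Matrix (Fin 3) (Fin 3) F) *ᵥ b k = ev (l * σ (a ^ (k : ℕ))) := by
      rw [Units.val_mul, ← Matrix.mulVec_mulVec, hgb]
      show E z⁻¹ *ᵥ (E (z * (l * σ (a ^ (k : ℕ)))) *ᵥ v) = E (l * σ (a ^ (k : ℕ))) *ᵥ v
      rw [Matrix.mulVec_mulVec, ← map_mul, inv_mul_cancel_left₀ hz0]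
    rw [h1]
    exact hLrat _ (mul_mem hlL (hσ8 _ (pow_mem haL _))) i
  have hRat := rational_of_rationalOn hR
  obtain ⟨w, hw⟩ := hbase (z ^ 3) (by
    rw [hz, ← pow_mul, ← pow_mul, show 28 * 3 * 4 = 63 * 4 + 28 * 3 from rfl, pow_add, pow_mul c 63, hc63, one_pow, one_mul, pow_mul])
  have hw1 : w = 1 := by
    by_contra hw1
    have hintz : IsIntegral F z := Algebra.IsIntegral.isIntegral z
    have hzdeg : (minpoly F z).natDegree = 3 := by
      have hd : (minpoly F z).natDegree ∣ 3 := (minpoly.degree_dvd hintz).trans hfin.dvd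
      refine (Nat.prime_three.eq_one_or_self_of_dvd _ hd).resolve_left fun h1 => hw1 ?_
      obtain ⟨d, hd⟩ := minpoly.natDegree_eq_one_iff.mp h1
      refine (algebraMap F K).injective ?_
      have hd0 : d ≠ 0 := fun h => hz0 (by rw [← hd, h, map_zero])
      rw [hw, ← hd, ← map_pow]
      congr 1
      simpa [h4] using FiniteField.pow_card_sub_one_eq_one d hd0
    have hmp : minpoly F (E z) = minpoly F z := minpoly.algHom_eq E hinjE z
    have hcp : minpoly F z = (E z).charpoly :=
      (Polynomial.eq_of_monic_of_dvd_of_natDegree_le (minpoly.monic hintz) (Matrix.charpoly_monic _)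
        (hmp ▸ Matrix.minpoly_dvd_charpoly _) (by rw [Matrix.charpoly_natDegree_eq_dim, hzdeg, Fintype.card_fin])).symm
    have hX : minpoly F z = Polynomial.X ^ 3 - Polynomial.C w :=
      (Polynomial.eq_of_monic_of_dvd_of_natDegree_le (minpoly.monic hintz)
        (Polynomial.monic_X_pow_sub_C _ (by norm_num)) (minpoly.dvd F z (by simp [hw]))
        (by rw [Polynomial.natDegree_X_pow_sub_C, hzdeg])).symm
    have hdz : (zu : Matrix (Fin 3) (Fin 3) F).det = w := by
      show (E z).det = w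
      rw [Matrix.det_eq_sign_charpoly_coeff, ← hcp, hX]
      simp [pow_succ, pow_zero]
    have hdR := hRat.det
    rw [Units.val_mul, Units.val_mul (coordGL b), Matrix.det_units_conj] at hdR
    set d := ((zu⁻¹ * g : GL (Fin 3) F) : Matrix (Fin 3) (Fin 3) F).det with hd
    have hd0 : d ≠ 0 := ((zu⁻¹ * g).isUnit.map Matrix.detMonoidHom).ne_zero
    have hd1 : d = 1 := by
      have h2 := (hF₀ d).mp hdR
      rw [pow_two] at h2
      exact (mul_eq_left₀ hd0).mp h2
    refine hw1 ?_
    have h3 : (g : Matrix (Fin 3) (Fin 3) F) = (zu : Matrix (Fin 3) (Fin 3) F) * ((zu⁻¹ * g : GL (Fin 3) F) : Matrix (Fin 3) (Fin 3) F) := by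
      rw [← Units.val_mul, mul_inv_cancel_left]
    have h4' := congrArg Matrix.det h3
    rw [det_eq_one_of_mem hgS, Matrix.det_mul, hdz, ← hd, hd1, mul_one] at h4'
    exact h4'.symm
  rw [hw1, map_one] at hw
  obtain ⟨d, hd⟩ := hbase z (by rw [pow_succ, ← hw, one_mul])
  have hd0 : d ≠ 0 := fun h => hz0 (by rw [← hd, h, map_zero])
  refine mem_subfieldSubgroup (inv_ne_zero hd0) ?_
  have hgz : (g : Matrix (Fin 3) (Fin 3) F) = d • ((zu⁻¹ * g : GL (Fin 3) F) : Matrix (Fin 3) (Fin 3) F) := by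
    have hzd : (zu : Matrix (Fin 3) (Fin 3) F) = d • (1 : Matrix (Fin 3) (Fin 3) F) := by
      show E z = _
      rw [← hd, AlgHom.commutes, Algebra.algebraMap_eq_smul_one]
    have : g = zu * (zu⁻¹ * g) := (mul_inv_cancel_left zu g).symm
    conv_lhs => rw [this, Units.val_mul, hzd, Matrix.smul_mul, one_mul]
  intro i j
  have := hRat i j
  rw [inv_inv, Units.val_mul, Units.val_mul (coordGL b) g, hgz, Matrix.mul_smul, Matrix.smul_mul, smul_smul,
    inv_mul_cancel₀ hd0, one_smul]
  rwa [Units.val_mul, Units.val_mul (coordGL b)] at this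

theorem cubic_four {F : Type*} [Field F] [Fintype F] (h4 : Fintype.card F = 4)
    {K : Subalgebra F (Matrix (Fin 3) (Fin 3) F)} (hK : Geo.IsFieldSubalgebra 3 K) :
    ∃ (F₀ : Subfield F) (r : ℕ) (P : GL (Fin 3) F), r.Prime ∧ Fintype.card F = Nat.card F₀ ^ r ∧
      Geo.subalgebraNormalizer K ⊓ Geo.specialLinear (Fin 3) F ≤ Geo.subfieldSubgroup F₀ P := by
  have hfield : IsField K := ⟨⟨0, 1, zero_ne_one⟩, fun a b => Subtype.ext (hK.comm a a.2 b b.2),
    fun {a} ha => by
      obtain ⟨b, hb, hab⟩ := hK.inv a a.2 (fun h => ha (Subtype.ext h))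
      exact ⟨⟨b, hb⟩, Subtype.ext hab⟩⟩
  letI : Field K := hfield.toField
  haveI : Finite K := Module.finite_of_finite F
  haveI : Fintype K := Fintype.ofFinite K
  obtain ⟨F₀, r, P, hr, hc, h⟩ := cubic_four_aux h4 (K := K) hK.finrank_eq K.val
  exact ⟨F₀, r, P, hr, hc, fun g hg => h g hg.2 fun k => ⟨⟨_, (hg.1 k).mp k.2⟩, rfl⟩⟩

end Cfsg.Agent.Aschbacher
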