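import Cfsg.Agent.Aschbacher.Transvection

/-!
The special linear group is in none of the classes, and the list of its maximal subgroups in prime dimension.
-/

set_option autoImplicit false
set_option linter.unusedSectionVars false
set_option linter.style.haveILetI false

namespace Cfsg.Agent.Aschbacher

open scoped MatrixGroups Matrix commutatorElement
open Module

variable {ι : Type} [Fintype ι] [DecidableEq ι] {F : Type*} [Field F]

theorem exists_transvection {i j : ι} (hij : i ≠ j) (a : F) :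
    ∃ t : GL ι F, t ∈ Geo.specialLinear ι F ∧ (t : Matrix ι ι F) = Matrix.transvection i j a := by
  refine ⟨Matrix.GeneralLinearGroup.mkOfDetNeZero (Matrix.transvection i j a) (by rw [Matrix.det_transvection_of_ne i j hij]; exact one_ne_zero), ?_, rfl⟩
  show Matrix.GeneralLinearGroup.det _ = 1
  exact Units.ext (Matrix.det_transvection_of_ne i j hij a)

theorem transvection_eq_vecMulVec (i j : ι) (a : F) :
    Matrix.transvection i j a = 1 + a • Matrix.vecMulVec (Pi.single i (1 : F)) (Pi.single j (1 : F)) := by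
  ext k l
  rcases eq_or_ne k i with rfl | hk <;> rcases eq_or_ne l j with rfl | hl <;>
    simp_all [Matrix.transvection, Matrix.vecMulVec_apply, Matrix.single_apply, Pi.single_apply, Ne.symm]

theorem transvection_mulVec (i j : ι) (a : F) (u : ι → F) :
    Matrix.transvection i j a *ᵥ u = u + Pi.single i (a * u j) := by
  rw [transvection_eq_vecMulVec, Matrix.add_mulVec, Matrix.one_mulVec, Matrix.smul_mulVec,
    Matrix.vecMulVec_mulVec, single_dotProduct, one_mul]
  funext k
  rcases eq_or_ne k i with rfl | h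
  · simp
  · simp [Pi.single_eq_of_ne h]

theorem sl_irr (hn : 2 ≤ Fintype.card ι) {W : Submodule F (ι → F)} (h : Inv (Geo.specialLinear ι F) W) :
    W = ⊥ ∨ W = ⊤ := by
  haveI : Nontrivial ι := Fintype.one_lt_card_iff_nontrivial.mp (by omega)
  refine or_iff_not_imp_left.mpr fun hW => ?_
  obtain ⟨w, hw, hw0⟩ := (Submodule.ne_bot_iff _).mp hW
  obtain ⟨j, hj⟩ := Function.ne_iff.mp hw0
  have hmem : ∀ (u : ι → F), u ∈ W → ∀ i j', i ≠ j' → u j' ≠ 0 → (Pi.single i (1 : F) : ι → F) ∈ W := by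
    intro u hu i j' hij hu'
    obtain ⟨t, ht, htv⟩ := exists_transvection hij (1 : F)
    have h1 := sub_mem (h t ht u hu) hu
    rw [htv, transvection_mulVec, add_sub_cancel_left, one_mul] at h1
    have h2 := W.smul_mem (u j')⁻¹ h1
    rwa [← Pi.single_smul', smul_eq_mul, inv_mul_cancel₀ hu'] at h2
  refine top_le_iff.mp fun u _ => ?_
  rw [pi_eq_sum_univ' u]
  refine W.sum_mem fun i _ => W.smul_mem _ ?_
  rcases eq_or_ne i j with rfl | hij
  · obtain ⟨k, hk⟩ := exists_ne i
    exact hmem _ (hmem w hw k i hk hj) i k hk.symm (by simp)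
  · exact hmem w hw i j hij hj

theorem sl_commutant (hn : 2 ≤ Fintype.card ι) {M : Matrix ι ι F}
    (h : ∀ i j, i ≠ j → M * Matrix.transvection i j (1 : F) = Matrix.transvection i j (1 : F) * M) :
    ∃ c : F, M = c • (1 : Matrix ι ι F) := by
  haveI : Nonempty ι := Fintype.card_pos_iff.mp (by omega)
  have hcomm : Pairwise fun i j => Commute (Matrix.single i j (1 : F)) M := by
    intro i j hij
    have h1 := h i j hij
    simp only [Matrix.transvection, mul_add, add_mul, mul_one, one_mul, add_right_inj] at h1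
    exact h1.symm
  obtain ⟨c, hc⟩ := Matrix.mem_range_scalar_of_commute_single hcomm
  exact ⟨c, by rw [← hc, Matrix.scalar_apply, Matrix.smul_one_eq_diagonal]⟩

theorem sl_not_le_subspaceStabilizer (hn : 2 ≤ Fintype.card ι) {W : Submodule F (ι → F)} (hb : W ≠ ⊥) (ht : W ≠ ⊤) :
    ¬ Geo.specialLinear ι F ≤ Geo.subspaceStabilizer W := by
  intro h
  rcases sl_irr hn (W := W) (fun g hg w hw => (h hg w).mp hw) with h1 | h1
  · exact hb h1
  · exact ht h1

theorem sl_not_le_lines (b : Module.Basis (Fin (Fintype.card ι)) F (ι → F)) (hn : 2 ≤ Fintype.card ι) :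
    ¬ Geo.specialLinear ι F ≤ Geo.decompositionStabilizer (fun i => Submodule.span F {b i}) := by
  intro h
  set i₀ : Fin (Fintype.card ι) := ⟨0, by omega⟩
  set i₁ : Fin (Fintype.card ι) := ⟨1, by omega⟩
  have h01 : i₁ ≠ i₀ := by simp [i₀, i₁]
  let A : Matrix (Fin (Fintype.card ι)) (Fin (Fintype.card ι)) F := Matrix.transvection i₁ i₀ 1
  let T : (ι → F) →ₗ[F] (ι → F) := Matrix.toLin b b A
  have hdetT : LinearMap.det T = 1 := by
    rw [← LinearMap.det_toMatrix b, LinearMap.toMatrix_toLin]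
    exact Matrix.det_transvection_of_ne _ _ h01 _
  have hdet : (LinearMap.toMatrix' T).det = 1 := by rw [LinearMap.det_toMatrix', hdetT]
  let g : GL ι F := Matrix.GeneralLinearGroup.mkOfDetNeZero (LinearMap.toMatrix' T) (by rw [hdet]; exact one_ne_zero)
  have hg : g ∈ Geo.specialLinear ι F := by
    show Matrix.GeneralLinearGroup.det g = 1
    exact Units.ext hdet
  obtain ⟨σ, hσ⟩ := h hg
  have h1 : T (b i₀) ∈ Submodule.span F {b (σ i₀)} := by
    have h2 : (g : Matrix ι ι F) *ᵥ b i₀ ∈ (Submodule.span F {b i₀}).map (Matrix.toLin' (g : Matrix ι ι F)) :=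
      ⟨b i₀, Submodule.mem_span_singleton_self _, by simp⟩
    rw [hσ i₀] at h2
    simpa [g, LinearMap.toMatrix'_mulVec] using h2
  obtain ⟨c, hc⟩ := Submodule.mem_span_singleton.mp h1
  have h3 : T (b i₀) = b i₀ + b i₁ := by
    simp only [T, Matrix.toLin_self, A, transvection_eq_vecMulVec, Matrix.add_apply, Matrix.smul_apply,
      Matrix.vecMulVec_apply, Pi.single_eq_same, mul_one, smul_eq_mul, one_mul, add_smul, Finset.sum_add_distrib]
    congr 1
    · simp [Matrix.one_apply, ite_smul]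
    · simp [Pi.single_apply, ite_smul]
  rw [h3] at hc
  have h4 := congrArg (fun w => b.repr w i₀) hc
  have h5 := congrArg (fun w => b.repr w i₁) hc
  simp only [map_smul, map_add, Module.Basis.repr_self, Finsupp.smul_apply, Finsupp.add_apply, smul_eq_mul,
    Finsupp.single_eq_same, Finsupp.single_eq_of_ne h01, Finsupp.single_eq_of_ne h01.symm, add_zero, zero_add] at h4 h5
  rcases eq_or_ne (σ i₀) i₀ with h6 | h6
  · rw [h6] at h5
    simp [Finsupp.single_eq_of_ne h01] at h5
  · simp [Finsupp.single_eq_of_ne h6.symm] at h4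

theorem sl_not_le_subalgebraNormalizer (hn : 3 ≤ Fintype.card ι) {r : ℕ} {K : Subalgebra F (Matrix ι ι F)}
    (hK : Geo.IsFieldSubalgebra r K) (hr : 1 < r) :
    ¬ Geo.specialLinear ι F ≤ Geo.subalgebraNormalizer K := by
  intro h
  haveI : Nonempty ι := Fintype.card_pos_iff.mp (by omega)
  have hall : ∀ k ∈ K, ∃ c : F, k = c • (1 : Matrix ι ι F) := by
    intro k hk
    refine sl_commutant (by omega) fun i j hij => ?_
    obtain ⟨t, ht, htv⟩ := exists_transvection hij (1 : F)
    have h1 := commute_of_normalizes hn hK (t := t)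
      (by rw [htv, transvection_eq_vecMulVec, one_smul]) (h ht) k hk
    rw [htv] at h1
    exact h1.symm
  have hle : Subalgebra.toSubmodule K ≤ Submodule.span F {(1 : Matrix ι ι F)} := fun k hk => by
    obtain ⟨c, rfl⟩ := hall k hk
    exact Submodule.smul_mem _ _ (Submodule.mem_span_singleton_self _)
  have h1 := Submodule.finrank_mono hle
  rw [finrank_span_singleton (one_ne_zero : (1 : Matrix ι ι F) ≠ 0)] at h1
  have : finrank F K = r := hK.finrank_eq
  rw [show finrank F (Subalgebra.toSubmodule K) = finrank F K from rfl, this] at h1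
  omega

theorem transvection_eq_commutator {i j k : ι} (hij : i ≠ j) (hik : i ≠ k) (hkj : k ≠ j) (a : F) {t s u : GL ι F}
    (ht : (t : Matrix ι ι F) = Matrix.transvection i k a) (hs : (s : Matrix ι ι F) = Matrix.transvection k j (1 : F))
    (hu : (u : Matrix ι ι F) = Matrix.transvection i j a) : ⁅t, s⁆ = u := by
  have h1 : u * (s * t) = t * s := by
    apply Units.ext
    simp only [Units.val_mul, ht, hs, hu, Matrix.transvection, mul_add, add_mul, mul_one, one_mul,
      Matrix.single_mul_single_of_ne _ _ _ _ hij.symm, Matrix.single_mul_single_of_ne _ _ _ _ hkj,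
      Matrix.single_mul_single_same, mul_zero, zero_mul, add_zero]
    simp [Matrix.single_mul_single_of_ne _ _ _ _ hij.symm, Matrix.single_mul_single_of_ne _ _ _ _ hik.symm,
      Matrix.single_mul_single_of_ne _ _ _ _ hkj.symm]
    abel
  rw [commutatorElement_def, show t * s * t⁻¹ * s⁻¹ = t * s * (s * t)⁻¹ by group, ← h1, mul_inv_cancel_right]

theorem exists_third (hn : 3 ≤ Fintype.card ι) (i j : ι) : ∃ k, k ≠ i ∧ k ≠ j := by
  by_contra h
  push Not at h
  have hsub : (Finset.univ : Finset ι) ⊆ {i, j} := fun x _ => by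
    rcases eq_or_ne x i with rfl | hx
    · simp
    · simp [h x hx]
  have := (Finset.card_le_card hsub).trans Finset.card_le_two
  rw [Finset.card_univ] at this
  omega

theorem commutator_rational {F₁ : Subfield F} {P a b : GL ι F} (ha : a ∈ Geo.subfieldSubgroup F₁ P)
    (hb : b ∈ Geo.subfieldSubgroup F₁ P) : Rational F₁ ((P⁻¹ * ⁅a, b⁆ * P : GL ι F) : Matrix ι ι F) := by
  obtain ⟨a', ha', rfl⟩ := ha
  obtain ⟨b', hb', rfl⟩ := hb
  obtain ⟨_, ⟨a₀, rfl⟩, z, hz, rfl⟩ := Subgroup.mem_sup_of_normal_right.mp ha'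
  obtain ⟨_, ⟨b₀, rfl⟩, z', hz', rfl⟩ := Subgroup.mem_sup_of_normal_right.mp hb'
  set A := Matrix.GeneralLinearGroup.map F₁.subtype a₀
  set B := Matrix.GeneralLinearGroup.map F₁.subtype b₀
  have h0 : ∀ (A B z z' : GL ι F), (∀ g, g * z = z * g) → (∀ g, g * z' = z' * g) → ⁅A * z, B * z'⁆ = ⁅A, B⁆ := by
    intro A B z z' hz hz'
    rw [commutatorElement_def, commutatorElement_def, mul_inv_rev, mul_inv_rev]
    calc A * z * (B * z') * (z⁻¹ * A⁻¹) * (z'⁻¹ * B⁻¹)
        = A * (z * (B * z') * z⁻¹) * A⁻¹ * (z'⁻¹ * B⁻¹) := by group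
      _ = A * B * (z' * A⁻¹ * z'⁻¹) * B⁻¹ := by rw [← hz (B * z'), mul_inv_cancel_right]; group
      _ = A * B * A⁻¹ * B⁻¹ := by rw [← hz' A⁻¹, mul_inv_cancel_right]
  have h1 : (P⁻¹ * ⁅(MulAut.conj P).toMonoidHom (A * z), (MulAut.conj P).toMonoidHom (B * z')⁆ * P) =
      Matrix.GeneralLinearGroup.map F₁.subtype ⁅a₀, b₀⁆ := by
    rw [← map_commutatorElement, h0 A B z z' (scalars_central hz) (scalars_central hz'), ← map_commutatorElement
      (Matrix.GeneralLinearGroup.map F₁.subtype)]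
    simp only [MulEquiv.coe_toMonoidHom, MulAut.conj_apply]
    group
  rw [h1]
  intro i j
  exact ((⁅a₀, b₀⁆ : GL ι F₁) : Matrix ι ι F₁) i j |>.2

theorem sl_not_le_subfieldSubgroup (hn : 3 ≤ Fintype.card ι) {F₁ : Subfield F} (hF₁ : F₁ ≠ ⊤) (P : GL ι F) :
    ¬ Geo.specialLinear ι F ≤ Geo.subfieldSubgroup F₁ P := by
  intro h
  obtain ⟨i, j, hij⟩ := Fintype.exists_pair_of_one_lt_card (by omega : 1 < Fintype.card ι)
  have key : ∀ (i j : ι), i ≠ j → ∀ (a : F) (u : GL ι F), (u : Matrix ι ι F) = Matrix.transvection i j a →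
      Rational F₁ ((P⁻¹ * u * P : GL ι F) : Matrix ι ι F) := by
    intro i j hij a u hu
    obtain ⟨k, hki, hkj⟩ := exists_third hn i j
    obtain ⟨t, ht, htv⟩ := exists_transvection hki.symm a
    obtain ⟨s, hs, hsv⟩ := exists_transvection hkj (1 : F)
    rw [← transvection_eq_commutator hij hki.symm hkj a htv hsv hu]
    exact commutator_rational (h ht) (h hs)
  refine hF₁ (Subfield.ext fun a => ⟨fun _ => trivial, fun _ => ?_⟩)
  obtain ⟨u, -, hu⟩ := exists_transvection hij a
  obtain ⟨w, -, hw⟩ := exists_transvection hij.symm (1 : F)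
  have h1 := (key i j hij a u hu).mul (key j i hij.symm 1 w hw)
  rw [← Units.val_mul, show P⁻¹ * u * P * (P⁻¹ * w * P) = P⁻¹ * (u * w) * P by group] at h1
  have h2 : ((P⁻¹ * (u * w) * P : GL ι F) : Matrix ι ι F).trace ∈ F₁ := sum_mem fun k _ => h1 k k
  rw [Units.val_mul, Units.val_mul (P⁻¹), Matrix.trace_units_conj' P, Units.val_mul, hu, hw] at h2
  simp only [Matrix.transvection, mul_add, add_mul, mul_one, one_mul, Matrix.single_mul_single_same,
    Matrix.trace_add, Matrix.trace_one, Matrix.trace_single_eq_same, Matrix.trace_single_eq_of_ne _ _ _ hij,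
    Matrix.trace_single_eq_of_ne _ _ _ hij.symm, add_zero, zero_add] at h2
  simpa using sub_mem h2 (natCast_mem F₁ (Fintype.card ι))

theorem isometry_of_commutator {f : (ι → F) → (ι → F) → F} {a b : GL ι F} (ha : a ∈ Geo.similarityGroup f)
    (hb : b ∈ Geo.similarityGroup f) (u v : ι → F) :
    f (((⁅a, b⁆ : GL ι F) : Matrix ι ι F) *ᵥ u) (((⁅a, b⁆ : GL ι F) : Matrix ι ι F) *ᵥ v) = f u v := by
  obtain ⟨c, hc⟩ := ha
  obtain ⟨d, hd⟩ := hb
  have hinv : ∀ (g : GL ι F) (e : Fˣ), (∀ u v, f ((g : Matrix ι ι F) *ᵥ u) ((g : Matrix ι ι F) *ᵥ v) = (e : F) * f u v) →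
      ∀ u v, f (((g⁻¹ : GL ι F) : Matrix ι ι F) *ᵥ u) (((g⁻¹ : GL ι F) : Matrix ι ι F) *ᵥ v) = ((e⁻¹ : Fˣ) : F) * f u v := by
    intro g e hg u v
    have h := hg (((g⁻¹ : GL ι F) : Matrix ι ι F) *ᵥ u) (((g⁻¹ : GL ι F) : Matrix ι ι F) *ᵥ v)
    rw [mulVec_inv_mulVec, mulVec_inv_mulVec] at h
    rw [h, ← mul_assoc, ← Units.val_mul, inv_mul_cancel, Units.val_one, one_mul]
  rw [commutatorElement_def, Units.val_mul, Units.val_mul, Units.val_mul, ← Matrix.mulVec_mulVec, ← Matrix.mulVec_mulVec,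
    ← Matrix.mulVec_mulVec, ← Matrix.mulVec_mulVec, ← Matrix.mulVec_mulVec, ← Matrix.mulVec_mulVec, hc, hd, hinv a c hc,
    hinv b d hd]
  simp only [← mul_assoc, Units.val_inv_eq_inv_val]
  rw [mul_right_comm (c : F) (d : F), mul_inv_cancel₀ c.ne_zero, one_mul, mul_inv_cancel₀ d.ne_zero, one_mul]

theorem sl_not_le_similarityGroup (hn : 3 ≤ Fintype.card ι) {f : (ι → F) → (ι → F) → F}
    (hal : ∀ x y v, f (x + y) v = f x v + f y v) (hne : ∃ i j, f (Pi.single i 1) (Pi.single j 1) ≠ 0) :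
    ¬ Geo.specialLinear ι F ≤ Geo.similarityGroup f := by
  intro h
  obtain ⟨i, l, hil⟩ := hne
  obtain ⟨j, hji, hjl⟩ := exists_third hn i l
  obtain ⟨k, hki, hkj⟩ := exists_third hn i j
  obtain ⟨t, ht, htv⟩ := exists_transvection hki.symm (1 : F)
  obtain ⟨s, hs, hsv⟩ := exists_transvection hkj (1 : F)
  obtain ⟨u, -, huv⟩ := exists_transvection hji.symm (1 : F)
  have h1 := isometry_of_commutator (h ht) (h hs) (Pi.single j 1) (Pi.single l 1)
  rw [transvection_eq_commutator hji.symm hki.symm hkj 1 htv hsv huv, huv, transvection_mulVec, transvection_mulVec,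
    Pi.single_eq_same, Pi.single_eq_of_ne hjl, mul_one, mul_zero, Pi.single_zero, add_zero, hal, add_eq_left] at h1
  exact hil h1

theorem sl_not_le_quadSimilarityGroup [Fintype F] (hn : 3 ≤ Fintype.card ι) {Q : (ι → F) → F}
    (hQ : Geo.IsNondegenerateQuadraticForm Q) :
    ¬ Geo.specialLinear ι F ≤ Geo.quadSimilarityGroup Q := by
  intro h
  refine sl_not_le_similarityGroup hn (f := QuadraticMap.polar Q) hQ.polar_bilinear.add_left ?_ ?_
  · by_contra hcon
    push Not at hcon
    have hg := exists_gram (RingHom.id F) (QuadraticMap.polar Q) hQ.polar_bilinear.add_left hQ.polar_bilinear.smul_left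
      hQ.polar_bilinear.add_right (fun c v x => hQ.polar_bilinear.smul_right c v x)
    haveI : Nonempty ι := Fintype.card_pos_iff.mp (by omega)
    have h0 : Geo.gramMatrix (QuadraticMap.polar Q) = 0 := Matrix.ext fun a b => hcon a b
    have hu := gram_isUnit hg hQ.nondegenerate
    rw [h0] at hu
    exact not_isUnit_zero hu
  · refine h.trans fun g hg => ?_
    obtain ⟨c, hc⟩ := hg
    refine ⟨c, fun u v => ?_⟩
    simp only [QuadraticMap.polar, ← Matrix.mulVec_add, hc]
    ring

theorem sl_not_le_normalizer {R : Subgroup (GL ι F)} (hR : ClassTwo R) (hn : (Fintype.card ι).Prime)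
    (hn3 : 3 ≤ Fintype.card ι) : ¬ Geo.specialLinear ι F ≤ Geo.subgroupNormalizer R := by
  intro h
  haveI : Nonempty ι := Fintype.card_pos_iff.mp hn.pos
  obtain ⟨x, y, ω, hp⟩ := hR.exists_hpair
  have hω := hp.primitive hR hn
  have hω2 : (1 : F) ^ 2 ≠ ω ^ 2 := by
    rw [one_pow]
    exact fun h2 => absurd (Nat.le_of_dvd two_pos (hω.dvd_of_pow_eq_one 2 h2.symm)) (by omega)
  have hall : ∀ z ∈ R, ∃ c : F, (z : Matrix ι ι F) = c • (1 : Matrix ι ι F) := by
    intro z hz
    refine sl_commutant (by omega) fun i j hij => ?_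
    obtain ⟨t, ht, htv⟩ := exists_transvection hij (1 : F)
    obtain ⟨t', ht', htv'⟩ := exists_transvection hij ω
    have hnm : ∀ s ∈ Geo.specialLinear ι F, ∀ r ∈ R, s * r * s⁻¹ ∈ R := fun s hs r hr =>
      (Subgroup.mem_normalizer_iff.mp (h hs) r).mp hr
    have h1 := hR.commute_of_transvection hn hn3 (v := Pi.single i (1 : F)) (w := Pi.single j (1 : F))
      (by rw [single_dotProduct, Pi.single_eq_of_ne hij.symm, mul_zero]) one_ne_zero hω2 (hω.ne_zero hn.ne_zero)
      (t := t) (t' := t') (by rw [htv, transvection_eq_vecMulVec]) (by rw [htv', transvection_eq_vecMulVec])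
      (hnm t ht) (hnm t' ht') z hz
    rw [transvection_eq_vecMulVec, one_smul, mul_add, add_mul, mul_one, one_mul, h1]
  refine hR.notComm fun a ha b _ => ?_
  obtain ⟨c, hc⟩ := hall a ha
  exact Units.ext (by simp [hc])

end Cfsg.Agent.Aschbacher
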