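import Cfsg.Agent.Aschbacher.SesqForm
import Cfsg.Agent.Aschbacher.Linear
import Cfsg.Agent.Lib.Reflections.OddRoot

/-!
The group Ω of a quadratic form in odd characteristic and dimension at least five lies in none of the
geometric subgroups; Siegel transformations.
-/

set_option autoImplicit false
set_option linter.unusedSectionVars false
set_option linter.style.haveILetI false

namespace Cfsg.Agent.Aschbacher

open scoped MatrixGroups Matrix
open Module QuadraticMap

variable {ι : Type} [Fintype ι] [DecidableEq ι] {F : Type*} [Field F]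

theorem omegaGL_isometry {Q : (ι → F) → F} {g : GL ι F} (hg : g ∈ Geo.omegaGL Q) (v : ι → F) :
    Q ((g : Matrix ι ι F) *ᵥ v) = Q v := by
  obtain ⟨h, -, rfl⟩ := hg
  exact h.2 v v

theorem omegaGL_polar {Q : (ι → F) → F} {g : GL ι F} (hg : g ∈ Geo.omegaGL Q) (u v : ι → F) :
    polar Q ((g : Matrix ι ι F) *ᵥ u) ((g : Matrix ι ι F) *ᵥ v) = polar Q u v := by
  simp only [polar, ← Matrix.mulVec_add, omegaGL_isometry hg]

theorem omegaGL_le_specialLinear (Q : (ι → F) → F) : Geo.omegaGL Q ≤ Geo.specialLinear ι F := by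
  rintro _ ⟨h, hh, rfl⟩
  have hle : commutator (isometryGroup F Q) ≤
      (Matrix.GeneralLinearGroup.det.comp (isometryGroup F Q).subtype).ker := by
    rw [commutator_def, Subgroup.commutator_le]
    intro a _ b _
    rw [MonoidHom.mem_ker, map_commutatorElement]
    exact commutatorElement_eq_one_iff_mul_comm.mpr (mul_comm _ _)
  exact hle hh

/-- A Siegel transformation as an element of Ω. -/
theorem exists_siegel (h2 : (2 : F) ≠ 0) (Q : QuadraticForm F (ι → F)) (hQ : Q.polarBilin.Nondegenerate)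
    {u v : ι → F} (hu : Q u = 0) (hv : Q v = 0) (huv : polar ⇑Q u v = 0) (c : F) :
    ∃ t : GL ι F, t ∈ Geo.omegaGL ⇑Q ∧ (t : Matrix ι ι F) = Cfsg.siegelMatrix ⇑Q u v c := by
  let g : GL ι F := Matrix.GeneralLinearGroup.mkOfDetNeZero (Cfsg.siegelMatrix ⇑Q u v c)
    (Reflections.det_siegel_ne_zero Q hu hv huv c)
  have hg : g ∈ Cfsg.isometryGroup F ⇑Q := fun x _ => Reflections.siegel_preserves Q hu hv huv c x
  exact ⟨g, ⟨⟨g, hg⟩, (Reflections.siegel_commutator h2 Q hQ u v hu hv huv c ⟨g, hg⟩ rfl).2, rfl⟩, rfl⟩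

variable [Fintype F]

theorem exists_singular_pair (h2 : (2 : F) ≠ 0) (Q : QuadraticForm F (ι → F)) (hQ : Q.polarBilin.Nondegenerate)
    (hn : 5 ≤ Fintype.card ι) {e : ι → F} (he : e ≠ 0) :
    ∃ s t, Q s = 0 ∧ Q t = 0 ∧ polar ⇑Q s t = 1 ∧ polar ⇑Q e s = 0 ∧ polar ⇑Q e t = 0 :=
  Reflections.exists_pair_orth h2 hQ he hn

theorem omega_irr (h2 : (2 : F) ≠ 0) (Q : QuadraticForm F (ι → F)) (hQ : Q.polarBilin.Nondegenerate)
    (hn : 5 ≤ Fintype.card ι) : Irr (Geo.omegaGL ⇑Q) := by
  classical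
  intro W hW
  by_cases hb : W = ⊥
  · exact Or.inl hb
  refine Or.inr ?_
  obtain ⟨w, hw, hw0⟩ := (Submodule.ne_bot_iff _).mp hb
  have hsub : ∀ u v, Q u = 0 → Q v = 0 → polar ⇑Q u v = 0 → ∀ x ∈ W,
      polar ⇑Q u x • v - polar ⇑Q v x • u ∈ W := by
    intro u v hu hv huv x hx
    obtain ⟨t, ht, htv⟩ := exists_siegel h2 Q hQ hu hv huv 1
    have h1 := W.sub_mem (hW t ht x hx) hx
    rwa [htv, Reflections.siegel_mulVec, one_mul, one_mul,
      show x + polar ⇑Q u x • v - polar ⇑Q v x • u - x = polar ⇑Q u x • v - polar ⇑Q v x • u by abel] at h1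
  -- W contains a singular vector
  obtain ⟨y, hy, hy0, hQy⟩ : ∃ y ∈ W, y ≠ 0 ∧ Q y = 0 := by
    obtain ⟨u, hu, huw⟩ : ∃ u, Q u = 0 ∧ polar ⇑Q u w ≠ 0 := by
      by_contra hcon
      push Not at hcon
      obtain ⟨s, t, hs, ht, hst, -, -⟩ := exists_singular_pair h2 Q hQ hn hw0
      refine hw0 (Reflections.eq_zero_of_polar_eq_zero hQ fun x => ?_)
      have hx := Reflections.mem_span_singular Q (e := 0) (x := x) hs ht hst (by simp) (by simp) (by simp)
      induction hx using Submodule.span_induction with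
      | mem z hz => rw [polar_comm]; exact hcon z hz.1
      | zero => simp
      | add a b _ _ ha hb => rw [polar_add_right, ha, hb, add_zero]
      | smul a z _ hz => rw [polar_smul_right, hz, smul_zero]
    obtain ⟨v, hv0, hv, hvorth⟩ := Reflections.exists_singular_orth h2 Q ![u, w] (by simpa using hn)
    have h1 : polar ⇑Q u v = 0 := hvorth 0
    have h3 : polar ⇑Q v w = 0 := by rw [polar_comm]; exact hvorth 1
    have h4 := hsub u v hu hv h1 w hw
    rw [h3, zero_smul, sub_zero] at h4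
    exact ⟨v, (W.smul_mem_iff huw).mp h4, hv0, hv⟩
  -- the orthogonal complement of a singular vector of W lies in W
  have hperp : ∀ y ∈ W, y ≠ 0 → Q y = 0 → ∀ x, polar ⇑Q y x = 0 → x ∈ W := by
    intro y hy hy0 hQy x hx
    have hsing : ∀ z, Q z = 0 → polar ⇑Q y z = 0 → z ∈ W := by
      intro z hz hyz
      by_cases hzy : z ∈ Submodule.span F {y}
      · exact Submodule.span_le.mpr (Set.singleton_subset_iff.mpr hy) hzy
      have hli : LinearIndependent F ![y, z] := by
        rw [LinearIndependent.pair_iff' hy0]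
        exact fun a ha => hzy (ha ▸ Submodule.smul_mem _ a (Submodule.mem_span_singleton_self y))
      obtain ⟨p, hp⟩ := Reflections.exists_polar_eq hQ hli ![1, 0]
      have hp1 : polar ⇑Q y p = 1 := hp 0
      have hp2 : polar ⇑Q z p = 0 := hp 1
      set u := p - Q p • y with hu
      have hu0 : Q u = 0 := by
        rw [hu, Reflections.map_sub', Reflections.map_smul', hQy, polar_smul_right, polar_comm ⇑Q p y, hp1]
        simp
      have huz : polar ⇑Q u z = 0 := by
        rw [hu, polar_sub_left, polar_smul_left, hyz, polar_comm ⇑Q p z, hp2]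
        simp
      have huy : polar ⇑Q u y = 1 := by
        rw [hu, polar_sub_left, polar_smul_left, Reflections.polar_self', hQy, polar_comm ⇑Q p y, hp1]
        simp
      have h4 := hsub u z hu0 hz huz y hy
      rw [polar_comm ⇑Q z y, hyz, zero_smul, sub_zero, huy, one_smul] at h4
      exact h4
    obtain ⟨s, t, hs, ht, hst, hys, hyt⟩ := exists_singular_pair h2 Q hQ hn hy0
    exact Submodule.span_le.mpr (fun z hz => hsing z hz.1 hz.2)
      (Reflections.mem_span_singular Q hs ht hst hys hyt hx)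
  obtain ⟨s, t, hs, ht, hst, hys, hyt⟩ := exists_singular_pair h2 Q hQ hn hy0
  have hli : LinearIndependent F ![s, y] := by
    rw [LinearIndependent.pair_iff' (fun h0 => by simp [h0] at hst)]
    intro a ha
    refine hy0 ?_
    have hyt' : polar ⇑Q y t = a := by rw [← ha, polar_smul_left, hst, smul_eq_mul, mul_one]
    rw [← ha, show a = 0 from hyt'.symm.trans hyt, zero_smul]
  rw [eq_top_iff]
  intro x _
  have hsW : s ∈ W := hperp y hy hy0 hQy s hys
  obtain ⟨p, hp⟩ := Reflections.exists_polar_eq hQ hli ![0, 1]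
  have hp1 : polar ⇑Q s p = 0 := hp 0
  have hp2 : polar ⇑Q y p = 1 := hp 1
  have hpW : p ∈ W := hperp s hsW (fun h0 => by simp [h0] at hst) hs p hp1
  have h1 : x - polar ⇑Q y x • p ∈ W := hperp y hy hy0 hQy _ (by
    rw [polar_sub_right, polar_smul_right, hp2, smul_eq_mul, mul_one, sub_self])
  simpa using W.add_mem h1 (W.smul_mem (polar ⇑Q y x) hpW)

theorem omega_not_le_subspaceStabilizer (h2 : (2 : F) ≠ 0) (Q : QuadraticForm F (ι → F))
    (hQ : Q.polarBilin.Nondegenerate) (hn : 5 ≤ Fintype.card ι) {W : Submodule F (ι → F)} (hb : W ≠ ⊥) (ht : W ≠ ⊤) :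
    ¬ Geo.omegaGL ⇑Q ≤ Geo.subspaceStabilizer W := by
  intro h
  rcases omega_irr h2 Q hQ hn W (fun g hg w hw => (h hg w).mp hw) with h1 | h1
  · exact hb h1
  · exact ht h1

/-- A non-trivial pair of orthogonal singular vectors. -/
theorem exists_independent_singular (h2 : (2 : F) ≠ 0) (Q : QuadraticForm F (ι → F))
    (hQ : Q.polarBilin.Nondegenerate) (hn : 5 ≤ Fintype.card ι) :
    ∃ u v x, Q u = 0 ∧ Q v = 0 ∧ polar ⇑Q u v = 0 ∧ v ≠ 0 ∧ polar ⇑Q u x = 1 ∧ polar ⇑Q v x = 0 := by
  obtain ⟨e, he⟩ : ∃ e : ι → F, e ≠ 0 := by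
    haveI : Nonempty ι := Fintype.card_pos_iff.mp (by omega)
    exact exists_ne 0
  obtain ⟨s, t, hs, ht, hst, -, -⟩ := exists_singular_pair h2 Q hQ hn he
  obtain ⟨v, hv0, hv, hvo⟩ := Reflections.exists_singular_orth h2 Q ![s, t] (by simpa using hn)
  exact ⟨s, v, t, hs, hv, hvo 0, hv0, hst, by rw [polar_comm]; exact hvo 1⟩

theorem omega_not_le_orthFrame (h2 : (2 : F) ≠ 0) (Q : QuadraticForm F (ι → F)) (hQ : Q.polarBilin.Nondegenerate)
    (hn : 5 ≤ Fintype.card ι) {κ : Type} [Fintype κ] (b : Module.Basis κ F (ι → F))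
    (ho : ∀ i j, i ≠ j → polar ⇑Q (b i) (b j) = 0) (hd : ∀ i, Q (b i) ≠ 0) (σ : GL ι F → κ → κ)
    (hperm : ∀ g ∈ Geo.omegaGL ⇑Q, ∀ i, ∃ c : F, (g : Matrix ι ι F) *ᵥ b i = c • b (σ g i)) : False := by
  obtain ⟨u, v, x, hu, hv, huv, hv0, hux, hvx⟩ := exists_independent_singular h2 Q hQ hn
  obtain ⟨t, ht, htv⟩ := exists_siegel h2 Q hQ hu hv huv 1
  have hfix : ∀ i, (t : Matrix ι ι F) *ᵥ b i = b i := by
    intro i
    obtain ⟨c, hc⟩ := hperm t ht i
    have hd0 : Q ((t : Matrix ι ι F) *ᵥ b i - b i) = 0 := by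
      rw [htv, Reflections.siegel_mulVec, one_mul, one_mul,
        show b i + polar ⇑Q u (b i) • v - polar ⇑Q v (b i) • u - b i =
          polar ⇑Q u (b i) • v - polar ⇑Q v (b i) • u by abel, Reflections.map_sub', Reflections.map_smul', Reflections.map_smul', hu, hv,
        polar_smul_left, polar_smul_right, polar_comm ⇑Q v u, huv]
      simp
    have hQc : Q (c • b (σ t i)) = Q (b i) := by rw [← hc, omegaGL_isometry ht]
    rw [hc, Reflections.map_sub', hQc, polar_smul_left, smul_eq_mul] at hd0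
    rcases eq_or_ne (σ t i) i with hi | hi
    · rw [hi, Reflections.polar_self'] at hd0
      have h1 : Q (b i) * (2 - c * 2) = 0 := by linear_combination hd0
      have h3 : (2 : F) * (1 - c) = 0 := by
        linear_combination (mul_eq_zero.mp h1).resolve_left (hd i)
      rw [hc, hi, ← sub_eq_zero.mp ((mul_eq_zero.mp h3).resolve_left h2), one_smul]
    · rw [ho _ _ hi, mul_zero, sub_zero, ← two_mul] at hd0
      exact absurd ((mul_eq_zero.mp hd0).resolve_left h2) (hd i)
  have h1 : (t : Matrix ι ι F) = 1 := by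
    refine ext_of_span b.span_eq ?_
    rintro _ ⟨i, rfl⟩
    rw [hfix, Matrix.one_mulVec]
  have h4 := Reflections.siegel_mulVec Q u v x 1
  rw [← htv, h1, Matrix.one_mulVec, one_mul, one_mul, hux, hvx, one_smul, zero_smul, sub_zero] at h4
  exact hv0 (add_left_cancel (h4.symm.trans (add_zero x).symm))

/-- A unipotent element of a subfield group is rational after the change of basis. -/
theorem rational_of_unipotent [Nonempty ι] {F₁ : Subfield F} {P t : GL ι F} (ht : t ∈ Geo.subfieldSubgroup F₁ P)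
    {N : Matrix ι ι F} (htv : (t : Matrix ι ι F) = 1 + N) (hN : N * N = 0) :
    Rational F₁ (((P⁻¹ : GL ι F) : Matrix ι ι F) * N * (P : Matrix ι ι F)) := by
  classical
  obtain ⟨p, hp⟩ := CharP.exists F
  haveI : Fact p.Prime := ⟨CharP.char_is_prime F p⟩
  obtain ⟨a, ha, hat⟩ := ht
  obtain ⟨_, ⟨a₀, rfl⟩, z, hz, rfl⟩ := Subgroup.mem_sup_of_normal_right.mp ha
  obtain ⟨μ, hμ⟩ := (Geo.mem_scalars_iff z).mp hz
  set A : Matrix ι ι F := ((Matrix.GeneralLinearGroup.map F₁.subtype a₀ : GL ι F) : Matrix ι ι F) with hA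
  have hAr : Rational F₁ A := fun i j => ((a₀ : Matrix ι ι F₁) i j).2
  set N' : Matrix ι ι F := ((P⁻¹ : GL ι F) : Matrix ι ι F) * N * P with hN'
  have hteq : (1 : Matrix ι ι F) + N' = (μ : F) • A := by
    have h1 : (P⁻¹ * t * P : GL ι F) = Matrix.GeneralLinearGroup.map F₁.subtype a₀ * z := by
      rw [← hat]
      simp only [MulEquiv.coe_toMonoidHom, MulAut.conj_apply]
      group
    have h2 := congrArg (fun g : GL ι F => (g : Matrix ι ι F)) h1
    simp only [Units.val_mul, htv, hμ, Matrix.mul_smul, mul_one, ← hA] at h2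
    rw [← h2, Matrix.mul_add, Matrix.add_mul, mul_one, ← Units.val_mul, inv_mul_cancel, Units.val_one]
  have hnil : N' * N' = 0 := by
    calc N' * N' = ((P⁻¹ : GL ι F) : Matrix ι ι F) * (N * ((P : Matrix ι ι F) * ((P⁻¹ : GL ι F) : Matrix ι ι F)) * N) * P := by
          simp only [N', mul_assoc]
      _ = 0 := by rw [← Units.val_mul, mul_inv_cancel, Units.val_one, mul_one, hN, mul_zero, zero_mul]
  have hpow : ∀ k : ℕ, ((1 : Matrix ι ι F) + N') ^ k = 1 + (k : F) • N' := by
    intro k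
    induction k with
    | zero => simp
    | succ k ih =>
      rw [pow_succ, ih, add_mul, one_mul, Matrix.smul_mul, mul_add, mul_one, hnil, add_zero]
      push_cast
      rw [add_smul, one_smul]
      abel
  have hμ1 : (μ : F) ^ p ∈ F₁ := by
    have h3 := hpow p
    rw [CharP.cast_eq_zero, zero_smul, add_zero, hteq, smul_pow] at h3
    have hAp : ∀ k : ℕ, Rational F₁ (A ^ k) := by
      intro k
      induction k with
      | zero =>
        intro i j
        rcases eq_or_ne i j with rfl | hij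
        · simp [F₁.one_mem]
        · simp [hij, F₁.zero_mem]
      | succ k ih => rw [pow_succ]; exact ih.mul hAr
    obtain ⟨i⟩ := (inferInstance : Nonempty ι)
    have h4 : (μ : F) ^ p * (A ^ p) i i = 1 := by simpa using congrFun (congrFun h3 i) i
    rw [eq_inv_of_mul_eq_one_left h4]
    exact F₁.inv_mem (hAp p i i)
  have hμF : (μ : F) ∈ F₁ := by
    rw [mem_subfield_iff_pow] at hμ1 ⊢
    apply frobenius_inj F p
    rw [frobenius_def, frobenius_def, ← pow_mul, mul_comm, pow_mul, hμ1]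
  intro i j
  have h5 := congrFun (congrFun hteq i) j
  rw [Matrix.add_apply, Matrix.smul_apply (A := A), smul_eq_mul] at h5
  rw [eq_sub_of_add_eq' h5]
  refine F₁.sub_mem (F₁.mul_mem hμF (hAr i j)) ?_
  rcases eq_or_ne i j with rfl | hij
  · simp [F₁.one_mem]
  · simp [hij, F₁.zero_mem]

theorem omega_not_le_subfieldSubgroup (h2 : (2 : F) ≠ 0) (Q : QuadraticForm F (ι → F))
    (hQ : Q.polarBilin.Nondegenerate) (hn : 5 ≤ Fintype.card ι) {F₁ : Subfield F} (hF₁ : F₁ ≠ ⊤) (P : GL ι F) :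
    ¬ Geo.omegaGL ⇑Q ≤ Geo.subfieldSubgroup F₁ P := by
  classical
  intro hle
  haveI : Nonempty ι := Fintype.card_pos_iff.mp (by omega)
  obtain ⟨u, v, x, hu, hv, huv, hv0, hux, hvx⟩ := exists_independent_singular h2 Q hQ hn
  set E := Matrix.vecMulVec v (Cfsg.polarVec ⇑Q u) - Matrix.vecMulVec u (Cfsg.polarVec ⇑Q v) with hE
  have hE2 : E * E = 0 := by
    have h1 := Reflections.siegel_mul Q hu hv huv 1 1
    simp only [Cfsg.siegelMatrix, ← hE, one_smul, mul_add, add_mul, one_mul, mul_one, add_smul] at h1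
    have h3 : (1 : Matrix ι ι F) + (E + E) + E * E = 1 + (E + E) := by
      simpa [add_assoc] using h1
    exact add_eq_left.mp h3
  have hrat : ∀ c : F, Rational F₁ (c • (((P⁻¹ : GL ι F) : Matrix ι ι F) * E * (P : Matrix ι ι F))) := by
    intro c
    obtain ⟨t, ht, htv⟩ := exists_siegel h2 Q hQ hu hv huv c
    have h1 := rational_of_unipotent (hle ht) (N := c • E) htv
      (by rw [Matrix.smul_mul, Matrix.mul_smul, hE2, smul_zero, smul_zero])
    rwa [Matrix.mul_smul, Matrix.smul_mul] at h1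
  obtain ⟨i, j, hij⟩ : ∃ i j, (((P⁻¹ : GL ι F) : Matrix ι ι F) * E * (P : Matrix ι ι F)) i j ≠ 0 := by
    by_contra hcon
    push Not at hcon
    have h0 : ((P⁻¹ : GL ι F) : Matrix ι ι F) * E * P = 0 := Matrix.ext hcon
    have hE0 : E = 0 := by
      have h3 := congrArg (fun A => (P : Matrix ι ι F) * A * ((P⁻¹ : GL ι F) : Matrix ι ι F)) h0
      simp only [← mul_assoc, ← Units.val_mul, mul_inv_cancel, Units.val_one, one_mul, mul_zero, zero_mul] at h3
      simpa only [mul_assoc, ← Units.val_mul, mul_inv_cancel, Units.val_one, mul_one] using h3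
    have h4 := Reflections.siegel_mulVec Q u v x 1
    rw [Cfsg.siegelMatrix, ← hE, hE0, smul_zero, add_zero, Matrix.one_mulVec, one_mul, one_mul, hux, hvx, one_smul,
      zero_smul, sub_zero] at h4
    exact hv0 (add_left_cancel (h4.symm.trans (add_zero x).symm))
  refine hF₁ (eq_top_iff.mpr fun c _ => ?_)
  have h1 := hrat 1 i j
  have h3 := hrat c i j
  rw [Matrix.smul_apply, smul_eq_mul] at h1 h3
  rw [one_mul] at h1
  have h5 := F₁.mul_mem h3 (F₁.inv_mem h1)
  rwa [mul_assoc, mul_inv_cancel₀ hij, mul_one] at h5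

end Cfsg.Agent.Aschbacher
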