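import Cfsg.Agent.Aschbacher.OrthogonalPrime

/-!
The standard quadratic form in odd dimension.
-/

set_option autoImplicit false
set_option linter.unusedSectionVars false

namespace Cfsg.Agent.Aschbacher

open scoped MatrixGroups Matrix
open Module QuadraticMap

variable {F : Type*} [Field F] {m : ℕ}

/-- The standard odd form as a quadratic form. -/
noncomputable def stdOdd (m : ℕ) (F : Type*) [Field F] : QuadraticForm F (Unit ⊕ (Fin m ⊕ Fin m) → F) :=
  QuadraticMap.proj (.inl ()) (.inl ()) + ∑ i : Fin m, QuadraticMap.proj (.inr (.inl i)) (.inr (.inr i))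

theorem coe_stdOdd (m : ℕ) (F : Type*) [Field F] : ⇑(stdOdd m F) = quadFormOdd m F := by
  funext v
  simp [stdOdd, quadFormOdd, pow_two]

theorem polar_stdOdd (u v : Unit ⊕ (Fin m ⊕ Fin m) → F) :
    polar ⇑(stdOdd m F) u v = 2 * u (.inl ()) * v (.inl ()) +
      ∑ i : Fin m, (u (.inr (.inl i)) * v (.inr (.inr i)) + v (.inr (.inl i)) * u (.inr (.inr i))) := by
  simp only [coe_stdOdd, polar, quadFormOdd, Pi.add_apply]
  simp only [Finset.sum_add_distrib, add_mul, mul_add]
  ring

theorem stdOdd_nondegenerate (h2 : (2 : F) ≠ 0) : (stdOdd m F).polarBilin.Nondegenerate := by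
  have key : ∀ v, (∀ w, polar ⇑(stdOdd m F) v w = 0) → v = 0 := by
    intro v hv
    funext k
    rcases k with u | i | i
    · have h := hv (Pi.single (.inl ()) 1)
      rw [polar_stdOdd] at h
      simp [Pi.single_apply] at h
      simpa [h2] using h
    · have h := hv (Pi.single (.inr (.inr i)) 1)
      rw [polar_stdOdd] at h
      simpa [Pi.single_apply] using h
    · have h := hv (Pi.single (.inr (.inl i)) 1)
      rw [polar_stdOdd] at h
      simpa [Pi.single_apply] using h
  exact ⟨fun v hv => key v hv, fun v hv => key v (fun w => by rw [polar_comm]; exact hv w)⟩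

theorem stdOdd_disc (F₁ : Subfield F) : (Geo.gramMatrix (polar ⇑(stdOdd m F))).det ∈ F₁ := by
  refine Rational.det fun i j => ?_
  simp only [Geo.gramMatrix, polar_stdOdd, Pi.single_apply]
  refine add_mem (mul_mem (mul_mem ?_ ?_) ?_) (sum_mem fun k _ => add_mem (mul_mem ?_ ?_) (mul_mem ?_ ?_))
  · rw [← one_add_one_eq_two]; exact add_mem (one_mem _) (one_mem _)
  all_goals (split <;> first | exact one_mem _ | exact zero_mem _)

end Cfsg.Agent.Aschbacher
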