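import Cfsg.Agent.Aschbacher.RationalForm
import Cfsg.Agent.Lib.Reflections.OddRoot

/-!
A group fixing a unitary and a symmetric form is realisable over a proper subfield.
-/

set_option autoImplicit false
set_option linter.unusedSectionVars false
set_option linter.style.haveILetI false

namespace Cfsg.Agent.Aschbacher

open scoped MatrixGroups Matrix
open Module

variable {ι : Type} [Fintype ι] [DecidableEq ι] {F : Type*} [Field F] [Fintype F]

/-- Generic descent for a Hermitian and a symmetric form. -/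
theorem realisable_of_herm_symmetric {σ : F →+* F} {f : (ι → F) → (ι → F) → F} (h : Herm σ f)
    (hne : ∃ a, σ a ≠ a) (hnorm : ∀ a, σ a = a → ∃ s, s * σ s = a) [Nonempty ι] {P : Subgroup (GL ι F)}
    (habs : Geo.ActsAbsolutelyIrreducibly (Geo.matrixSet P))
    (hP : Geo.FixesForm (Geo.matrixSet P) f) {B₀ : Matrix ι ι F} (hB₀ : IsUnit B₀)
    (hPB : ∀ s ∈ P, (s : Matrix ι ι F)ᵀ * B₀ * (s : Matrix ι ι F) = B₀)
    {F₁ : Subfield F} (hF₁ : ∀ x, σ x = x → x ∈ F₁) : Geo.RealisableOver F₁ (Geo.matrixSet P) := by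
  classical
      obtain ⟨G₁, hG₁⟩ : ∃ G₁, Geo.gramMatrix (f) = G₁ := ⟨_, rfl⟩
  have hg := hG₁ ▸ h.gram
  have hu₁ := gram_isUnit hg h.nondegenerate
  obtain ⟨u₀, hu₀⟩ := hB₀
  obtain ⟨u₁, hu₁⟩ := hu₁
  let A : GL ι F := u₁⁻¹ * u₀
  have hA : ∀ s ∈ P, (s : Matrix ι ι F).map σ * ((A : Matrix ι ι F)) =
      (A : Matrix ι ι F) * s := by
    intro s hs
    set S : Matrix ι ι F := (s : Matrix ι ι F)
    set Si : Matrix ι ι F := ((s⁻¹ : GL ι F) : Matrix ι ι F)
    have e1 : Sᵀ * (u₁ : Matrix ι ι F) * S.map σ = u₁ := by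
      rw [hu₁]; exact (preserves_iff_gram hg S).mp (hP _ ⟨s, hs, rfl⟩)
    have e2 : Sᵀ * (u₀ : Matrix ι ι F) * S = u₀ := by rw [hu₀]; exact hPB s hs
    have eT : Siᵀ * Sᵀ = 1 := by
      rw [← Matrix.transpose_mul, ← Units.val_mul, mul_inv_cancel, Units.val_one, Matrix.transpose_one]
    have e1' : (u₁ : Matrix ι ι F) * S.map σ = Siᵀ * u₁ := by
      conv_rhs => rw [← e1, ← mul_assoc, ← mul_assoc, eT, one_mul]
    have e2' : (u₀ : Matrix ι ι F) * S = Siᵀ * u₀ := by
      conv_rhs => rw [← e2, ← mul_assoc, ← mul_assoc, eT, one_mul]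
    calc S.map σ * (A : Matrix ι ι F)
        = ((u₁⁻¹ : GL ι F) : Matrix ι ι F) * ((u₁ : Matrix ι ι F) * S.map σ) *
            ((u₁⁻¹ : GL ι F) : Matrix ι ι F) * u₀ := by
          rw [← mul_assoc _ (u₁ : Matrix ι ι F), ← Units.val_mul, inv_mul_cancel, Units.val_one, one_mul,
            Units.val_mul, mul_assoc]
      _ = ((u₁⁻¹ : GL ι F) : Matrix ι ι F) * (Siᵀ * u₀) := by
          rw [e1']
          simp only [mul_assoc]
          rw [← mul_assoc (u₁ : Matrix ι ι F), ← Units.val_mul, mul_inv_cancel, Units.val_one, one_mul]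
      _ = (A : Matrix ι ι F) * S := by rw [← e2', Units.val_mul, mul_assoc]
  set Am : Matrix ι ι F := (A : Matrix ι ι F) with hAm
  have hmm : ∀ M : Matrix ι ι F, (M.map σ).map σ = M := fun M => by
    ext i j; simp [h.involutive]
  have hcommA : ∀ s ∈ Geo.matrixSet P, Am.map σ * Am * s = s * (Am.map σ * Am) := by
    rintro _ ⟨s, hs, rfl⟩
    have e := congrArg (fun M : Matrix ι ι F => M.map σ) (hA s hs)
    simp only [Matrix.map_mul, hmm] at e
    rw [mul_assoc, ← hA s hs, ← mul_assoc, ← e, mul_assoc]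
  obtain ⟨l, hl⟩ := habs.2 _ hcommA
  have hl0 : l ≠ 0 := by
    intro h0
    have hu : IsUnit (Am.map σ * Am) := ((A.isUnit).map σ.mapMatrix).mul A.isUnit
    rw [hl, h0, zero_smul] at hu
    exact not_isUnit_zero hu
  have hlfix : σ l = l := by
    have h2 : Am * Am.map σ = σ l • (1 : Matrix ι ι F) := by
      have := congrArg (fun M : Matrix ι ι F => M.map σ) hl
      simpa [Matrix.map_mul, hmm, Matrix.map_smul'] using this
    have h3 : σ l • Am = l • Am := by
      calc σ l • Am = Am * Am.map σ * Am := by rw [h2, Matrix.smul_mul, one_mul]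
        _ = l • Am := by rw [mul_assoc, hl, Matrix.mul_smul, mul_one]
    obtain ⟨i, j, hij⟩ : ∃ i j, Am i j ≠ 0 := by
      by_contra hcon
      push Not at hcon
      exact A.ne_zero (Matrix.ext hcon)
    exact mul_right_cancel₀ hij (by simpa using congrFun (congrFun h3 i) j)
  obtain ⟨μ, hμn⟩ := hnorm l⁻¹ (by rw [map_inv₀, hlfix])
  have hAA : (μ • Am).map σ * (μ • Am) = 1 := by
    rw [show (μ • Am).map σ = σ μ • Am.map σ from Matrix.ext fun i j => by simp, Matrix.smul_mul, Matrix.mul_smul,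
      smul_smul, hl, smul_smul, mul_comm (σ μ), hμn, inv_mul_cancel₀ hl0, one_smul]
  refine realisable_of_semilinear h.involutive hne hF₁ (fun v => fun i => σ (((μ • Am) *ᵥ v) i)) ?_ ?_ ?_ ?_
  · intro u v; funext i; simp [Matrix.mulVec_add]
  · intro c v; funext i; simp [Matrix.mulVec_smul]
  · intro v
    show (fun i => σ (((μ • Am) *ᵥ fun k => σ (((μ • Am) *ᵥ v) k)) i)) = v
    rw [mulVec_comp, show (fun k => σ (σ (((μ • Am) *ᵥ v) k))) = (μ • Am) *ᵥ v from funext fun k => h.involutive _,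
      Matrix.mulVec_mulVec, hAA, Matrix.one_mulVec]
  · intro s hs v
    show (fun i => σ (((μ • Am) *ᵥ ((s : Matrix ι ι F) *ᵥ v)) i)) = _
    rw [Matrix.mulVec_mulVec, Matrix.smul_mul, ← hA s hs, ← Matrix.mul_smul, ← Matrix.mulVec_mulVec, mulVec_comp, hmm]

/-- An involution of a finite field of odd characteristic has surjective norm. -/
theorem norm_surjective_of_involution (h2 : (2 : F) ≠ 0) {σ : F →+* F} (hinv : ∀ a, σ (σ a) = a)
    (hne : ∃ a, σ a ≠ a) (a : F) (ha : σ a = a) : ∃ s, s * σ s = a := by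
  classical
  obtain ⟨x, hx⟩ := hne
  have hj : σ (x - σ x) = -(x - σ x) := by rw [map_sub, hinv]; ring
  have hj0 : x - σ x ≠ 0 := sub_ne_zero.mpr (Ne.symm hx)
  let F₁ : Subfield F := RingHom.eqLocusField σ (RingHom.id F)
  have hb : -((x - σ x) * (x - σ x)) ∈ F₁ := by
    show σ _ = RingHom.id F _
    simp only [RingHom.id_apply, map_neg, map_mul, hj]
    ring
  haveI : Fintype F₁ := Fintype.ofFinite F₁
  have h21 : (2 : F₁) ≠ 0 := fun h => h2 (by rw [← map_ofNat F₁.subtype 2, h, map_zero])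
  obtain ⟨u, v, huv⟩ := Reflections.exists_sum_sq (F := F₁) h21 (a := 1) (b := ⟨_, hb⟩) one_ne_zero
    (fun h => hj0 (by simpa using congrArg (fun t : F₁ => (t : F)) h)) ⟨a, ha⟩
  have hu : σ (u : F) = u := u.2
  have hv : σ (v : F) = v := v.2
  refine ⟨(u : F) + v * (x - σ x), ?_⟩
  rw [map_add, map_mul, hu, hv, hj]
  have h := congrArg (fun t : F₁ => (t : F)) huv
  simp only [Subfield.coe_add, Subfield.coe_mul, Subfield.coe_one, SubmonoidClass.coe_pow] at h
  linear_combination h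

theorem realisable_of_unitary_symmetric (h2 : (2 : F) ≠ 0) [Nonempty ι] {σ : F ≃+* F}
    {f : (ι → F) → (ι → F) → F} (hf : Geo.IsUnitaryForm σ f) {P : Subgroup (GL ι F)}
    (habs : Geo.ActsAbsolutelyIrreducibly (Geo.matrixSet P)) (hP : Geo.FixesForm (Geo.matrixSet P) f)
    {B₀ : Matrix ι ι F} (hB₀ : IsUnit B₀)
    (hPB : ∀ s ∈ P, (s : Matrix ι ι F)ᵀ * B₀ * (s : Matrix ι ι F) = B₀) :
    ∃ F₁ : Subfield F, F₁ ≠ ⊤ ∧ F₁ ≠ ⊤ ∧ Geo.RealisableOver F₁ (Geo.matrixSet P) := by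
  have h : Herm (σ : F →+* F) f := ⟨hf.involutive, hf.add_left, hf.smul_left, hf.herm, hf.nondegenerate⟩
  have hne : ∃ a, (σ : F →+* F) a ≠ a := by
    by_contra hcon
    push Not at hcon
    exact hf.ne_refl (RingEquiv.ext hcon)
  let F₁ : Subfield F := RingHom.eqLocusField (σ : F →+* F) (RingHom.id F)
  have hmem : ∀ x, (σ : F →+* F) x = x → x ∈ F₁ := fun x hx => hx
  have hF₁ : F₁ ≠ ⊤ := by
    intro htop
    obtain ⟨a, ha⟩ := hne
    exact ha (show a ∈ F₁ from htop ▸ Subfield.mem_top a)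
  exact ⟨F₁, hF₁, hF₁, realisable_of_herm_symmetric h hne (norm_surjective_of_involution h2 h.involutive hne)
    habs hP hB₀ hPB hmem⟩

end Cfsg.Agent.Aschbacher
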