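import Cfsg.Agent.Aschbacher.OrthogonalBasics
import Cfsg.Agent.Aschbacher.UnitarySymmetric
import Cfsg.Agent.Aschbacher.LinearPrime

/-!
The maximal subgroups of Ω of a quadratic form in odd prime dimension and odd characteristic: members of the
geometric classes or residual.
-/

set_option autoImplicit false
set_option linter.unusedSectionVars false
set_option linter.style.haveILetI false

namespace Cfsg.Agent.Aschbacher

open scoped MatrixGroups Matrix
open Module QuadraticMap

variable {ι : Type} [Fintype ι] [DecidableEq ι] {F : Type*} [Field F]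

/-- The polar form of a non-degenerate quadratic form. -/
theorem polar_herm (Q : QuadraticForm F (ι → F)) (hQ : Q.polarBilin.Nondegenerate) :
    Herm (RingHom.id F) (polar ⇑Q) := by
  refine ⟨fun _ => rfl, fun x y v => polar_add_left Q x y v, fun c x v => by rw [polar_smul_left, smul_eq_mul],
    fun v w => by rw [RingHom.id_apply]; exact polar_comm ⇑Q v w, fun v hv => ?_⟩
  by_contra hcon
  have hall : ∀ x, polar ⇑Q v x = 0 := by
    intro x
    by_contra hx
    exact hcon ⟨⟨x, by rwa [polar_comm]⟩, ⟨x, hx⟩⟩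
  exact hv (Reflections.eq_zero_of_polar_eq_zero hQ hall)

theorem det_sub_one_eq_zero (h2 : (2 : F) ≠ 0) (hodd : Odd (Fintype.card ι)) {G a : Matrix ι ι F}
    (hG : G.det ≠ 0) (ha : aᵀ * G * a = G) (hdet : a.det = 1) : (a - 1).det = 0 := by
  have h1 : aᵀ * G * (a - 1) = -((a - 1)ᵀ * G) := by
    rw [mul_sub, mul_one, ha, Matrix.transpose_sub, Matrix.transpose_one, sub_mul, one_mul, neg_sub]
  have h3 := congrArg Matrix.det h1
  rw [Matrix.det_neg, Matrix.det_mul, Matrix.det_mul, Matrix.det_mul, Matrix.det_transpose, Matrix.det_transpose, hdet,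
    hodd.neg_one_pow] at h3
  have h4 : (2 * G.det) * (a - 1).det = 0 := by linear_combination h3
  exact (mul_eq_zero.mp h4).resolve_left (mul_ne_zero h2 hG)

/-- In a plane of plus type over three elements a group of isometries fixes a non-singular line. -/
theorem plus_plane_line [Fintype F] (hF : Fintype.card F = 3) (Q : QuadraticForm F (ι → F)) {G : Subgroup (GL ι F)}
    (hG : ∀ g ∈ G, ∀ v, Q ((g : Matrix ι ι F) *ᵥ v) = Q v) {W : Submodule F (ι → F)} (hW : Inv G W)
    (hnd : Geo.IsNondegenerateOn (polar ⇑Q) W) (hd : finrank F W = 2) (hplus : Geo.IsPlusTypeOn ⇑Q W) :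
    ∃ v ∈ W, Q v ≠ 0 ∧ Inv G (Submodule.span F {v}) := by
  classical
  obtain ⟨U, hUW, hUs, hUd⟩ := hplus
  obtain ⟨e, he0, hUe⟩ := finrank_eq_one_iff'.mp (show finrank F U = 1 by omega)
  have heW : (e : ι → F) ∈ W := hUW e.2
  have he0' : (e : ι → F) ≠ 0 := fun h => he0 (Subtype.ext h)
  have hQe : Q (e : ι → F) = 0 := hUs _ e.2
  obtain ⟨x, hxW, hx⟩ := (hnd _ heW he0').2
  obtain ⟨p, hpW, hep⟩ : ∃ p ∈ W, polar ⇑Q (e : ι → F) p = 1 :=
    ⟨(polar ⇑Q (e : ι → F) x)⁻¹ • x, W.smul_mem _ hxW, by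
      rw [polar_smul_right, smul_eq_mul, inv_mul_cancel₀ hx]⟩
  obtain ⟨f, hfW, hQf, hef⟩ : ∃ f ∈ W, Q f = 0 ∧ polar ⇑Q (e : ι → F) f = 1 := by
    refine ⟨p - Q p • (e : ι → F), W.sub_mem hpW (W.smul_mem _ heW), ?_, ?_⟩
    · rw [Reflections.map_sub', Reflections.map_smul', hQe, polar_smul_right, polar_comm ⇑Q p, hep]
      simp
    · rw [polar_sub_right, polar_smul_right, Reflections.polar_self', hQe, hep]
      simp
  have hQv : ∀ a b : F, Q (a • (e : ι → F) + b • f) = a * b := fun a b => by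
    rw [Reflections.map_add', Reflections.map_smul', Reflections.map_smul', hQe, hQf, polar_smul_left, polar_smul_right,
      hef]
    simp
  have hli : LinearIndependent F ![(e : ι → F), f] := by
    rw [LinearIndependent.pair_iff' he0']
    intro a ha
    rw [← ha, polar_smul_right, Reflections.polar_self', hQe] at hef
    simp at hef
  have hspan : Submodule.span F (Set.range ![(e : ι → F), f]) = W := by
    refine Submodule.eq_of_le_of_finrank_eq (Submodule.span_le.mpr ?_) ?_
    · rintro _ ⟨i, rfl⟩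
      fin_cases i <;> assumption
    · rw [finrank_span_eq_card hli, hd, Fintype.card_fin]
  have hsq : ∀ a : F, a ≠ 0 → a * a = 1 := fun a ha => by
    have := FiniteField.pow_card_sub_one_eq_one a ha
    rwa [hF, pow_two] at this
  refine ⟨(e : ι → F) + f, W.add_mem heW hfW, ?_, ?_⟩
  · have := hQv 1 1
    rw [one_smul, one_smul, one_mul] at this
    rw [this]; exact one_ne_zero
  intro g hg w hw
  obtain ⟨c, rfl⟩ := Submodule.mem_span_singleton.mp hw
  rw [Matrix.mulVec_smul]
  refine Submodule.smul_mem _ c ?_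
  have himg := hW g hg _ (W.add_mem heW hfW)
  rw [← hspan] at himg
  obtain ⟨d, hd'⟩ := (Submodule.mem_span_range_iff_exists_fun F).mp himg
  rw [Fin.sum_univ_two] at hd'
  simp only [Matrix.cons_val_zero, Matrix.cons_val_one] at hd'
  have hval := hG g hg ((e : ι → F) + f)
  rw [← hd', hQv, show Q ((e : ι → F) + f) = 1 by simpa using hQv 1 1] at hval
  have hd0 : d 0 ≠ 0 := fun h => by simp [h] at hval
  have hd1 : d 1 = d 0 := by
    calc d 1 = (d 0 * d 0) * d 1 := by rw [hsq _ hd0, one_mul]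
      _ = d 0 := by rw [mul_assoc, hval, mul_one]
  rw [← hd', hd1, ← smul_add]
  exact Submodule.smul_mem _ _ (Submodule.mem_span_singleton_self _)

/-- Scaling a basis of non-zero values with equal square classes. -/
theorem smul_square_mem [Fintype F] (hodd : Odd (Fintype.card ι)) {a d δ : F} {F₁ : Subfield F} (ha : a ≠ 0)
    (hδ : δ ∈ F₁) (h : a ^ Fintype.card ι = d ^ 2 * δ) : ∃ s : F, s ≠ 0 ∧ s * s * a ∈ F₁ := by
  obtain ⟨k, hk⟩ := hodd
  have hd0 : d ≠ 0 := fun h0 => by
    rw [h0] at h; simp [ha] at h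
  refine ⟨a ^ k / d, div_ne_zero (pow_ne_zero _ ha) hd0, ?_⟩
  have : a ^ k / d * (a ^ k / d) * a = δ := by
    rw [hk] at h
    field_simp
    linear_combination h
  rwa [this]

theorem orthogonal_prime {n : ℕ} (hι : Fintype.card ι = n) (hn : n.Prime) (hn5 : 5 ≤ n) (hodd : Odd n)
    [Fintype F] (hF : Odd (Fintype.card F)) (Q : QuadraticForm F (ι → F)) (hQ : Q.polarBilin.Nondegenerate)
    (hdisc : ∀ F₁ : Subfield F, (Geo.gramMatrix (polar ⇑Q)).det ∈ F₁)
    {H : Subgroup (GL ι F)} (hH : Geo.IsMaximalIn (Geo.omegaGL ⇑Q) H) :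
    (∃ W : Submodule F (ι → F), W ≠ ⊥ ∧ Geo.IsTotallySingularQuad ⇑Q W ∧
      H = Geo.subspaceStabilizer W ⊓ Geo.omegaGL ⇑Q) ∨
    (∃ W : Submodule F (ι → F), W ≠ ⊥ ∧ Even (finrank F W) ∧ Geo.IsNondegenerateOn (polar ⇑Q) W ∧
      ¬ (Fintype.card F = 3 ∧ finrank F W = 2 ∧ Geo.IsPlusTypeOn ⇑Q W) ∧
      H = Geo.subspaceStabilizer W ⊓ Geo.omegaGL ⇑Q) ∨
    ((Fintype.card F).Prime ∧ ∃ D : Fin n → Submodule F (ι → F), Geo.IsOrthogonalMDecomposition ⇑Q 1 D ∧
      H = Geo.decompositionStabilizer D ⊓ Geo.omegaGL ⇑Q) ∨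
    (∃ (F₀ : Subfield F) (r : ℕ) (P : GL ι F), r.Prime ∧ Fintype.card F = Nat.card F₀ ^ r ∧
      Geo.IsQuadFormRationalStructure ⇑Q F₀ P ∧ H = Geo.subfieldSubgroup F₀ P ⊓ Geo.omegaGL ⇑Q) ∨
    Geo.InOrthogonalResidualClass H := by
  classical
  have h2 := two_ne_zero_of_odd hF
  have hn' : (Fintype.card ι).Prime := hι.symm ▸ hn
  have hodd' : Odd (Fintype.card ι) := hι.symm ▸ hodd
  have hn5' : 5 ≤ Fintype.card ι := hι.symm ▸ hn5
  haveI : Nonempty ι := Fintype.card_pos_iff.mp (by omega)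
  have hf := polar_herm Q hQ
  have hHO : H ≤ Geo.omegaGL ⇑Q := hH.1.le
  have hHS : H ≤ Geo.specialLinear ι F := hHO.trans (omegaGL_le_specialLinear _)
  have hisoQ : ∀ g ∈ H, ∀ v, Q ((g : Matrix ι ι F) *ᵥ v) = Q v := fun g hg => omegaGL_isometry (hHO hg)
  have hiso : ∀ g ∈ H, ∀ u v, polar ⇑Q ((g : Matrix ι ι F) *ᵥ u) ((g : Matrix ι ι F) *ᵥ v) = polar ⇑Q u v :=
    fun g hg => omegaGL_polar (hHO hg)
  have hfixes : ∀ P : Subgroup (GL ι F), P ≤ H → Geo.FixesForm (Geo.matrixSet P) (polar ⇑Q) := by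
    rintro P hP _ ⟨s, hs, rfl⟩
    exact hiso s (hP hs)
  have hgram := hf.gram
  have hGu := gram_isUnit hgram hf.nondegenerate
  by_cases hirr : Irr H
  swap
  · simp only [Irr, not_forall, not_or] at hirr
    obtain ⟨W, hW, hWb, hWt⟩ := hirr
    have key : ∀ U : Submodule F (ι → F), Inv H U → U ≠ ⊥ → U ≠ ⊤ →
        H = Geo.subspaceStabilizer U ⊓ Geo.omegaGL ⇑Q := fun U hU hb ht =>
      eq_inf_of_maximal hH (inv_le_subspaceStabilizer hU) (omega_not_le_subspaceStabilizer h2 Q hQ hn5' hb ht)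
    rcases hf.subspace_dichotomy hiso hW hWb hWt with ⟨U, hU, hUb, hUt, hts⟩ |
      ⟨hnd, hnd', hpb, hpt, hdim, hpi⟩
    · refine Or.inl ⟨U, hUb, fun w hw => ?_, key U hU hUb hUt⟩
      have h1 := hts w hw w hw
      rw [Reflections.polar_self'] at h1
      exact (mul_eq_zero.mp h1).resolve_left h2
    · rw [hι] at hdim
      obtain ⟨U, hUi, hUb, hUt, hUnd, hUev⟩ : ∃ U : Submodule F (ι → F), Inv H U ∧ U ≠ ⊥ ∧ U ≠ ⊤ ∧
          Geo.IsNondegenerateOn (polar ⇑Q) U ∧ Even (finrank F U) := by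
        rcases Nat.even_or_odd (finrank F W) with h | h
        · exact ⟨W, hW, hWb, hWt, hnd, h⟩
        · refine ⟨hf.perp W, hpi, hpb, hpt, hnd', ?_⟩
          rw [← hdim] at hodd
          rw [Nat.even_iff]
          rw [Nat.odd_iff] at hodd h
          omega
      by_cases hexc : Fintype.card F = 3 ∧ finrank F U = 2 ∧ Geo.IsPlusTypeOn ⇑Q U
      swap
      · exact Or.inr (Or.inl ⟨U, hUb, hUev, hUnd, hexc, key U hUi hUb hUt⟩)
      obtain ⟨v, -, hQv, hline⟩ := plus_plane_line hexc.1 Q hisoQ hUi hUnd hexc.2.1 hexc.2.2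
      have hv0 : v ≠ 0 := fun h => hQv (by simp [h])
      have hLb : Submodule.span F {v} ≠ ⊥ := by simpa using hv0
      have hLd : finrank F (Submodule.span F {v}) = 1 := finrank_span_singleton hv0
      have hLt : Submodule.span F {v} ≠ ⊤ := fun h => by
        rw [h, finrank_top, Module.finrank_pi, hι] at hLd
        omega
      rcases hf.subspace_dichotomy hiso hline hLb hLt with ⟨U', hU', hU'b, hU't, hts⟩ |
        ⟨-, hnd2, hpb2, hpt2, hdim2, hpi2⟩
      · refine Or.inl ⟨U', hU'b, fun w hw => ?_, key U' hU' hU'b hU't⟩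
        have h1 := hts w hw w hw
        rw [Reflections.polar_self'] at h1
        exact (mul_eq_zero.mp h1).resolve_left h2
      · rw [hι, hLd] at hdim2
        refine Or.inr (Or.inl ⟨hf.perp (Submodule.span F {v}), hpb2, ?_, hnd2, ?_, key _ hpi2 hpb2 hpt2⟩)
        · rw [Nat.even_iff]
          rw [Nat.odd_iff] at hodd
          omega
        · rintro ⟨-, h, -⟩
          omega
  right; right
  have hsub : ∀ (F₀ : Subfield F), F₀ ≠ ⊤ → ∀ {P : Subgroup (GL ι F)} (B : GL ι F),
      P ≤ H → NormalIn P H → Geo.ActsAbsolutelyIrreducibly (Geo.matrixSet P) →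
      (∀ s ∈ P, Rational F₀ ((B * s * B⁻¹ : GL ι F) : Matrix ι ι F)) →
      ∃ (F₀ : Subfield F) (r : ℕ) (P : GL ι F), r.Prime ∧ Fintype.card F = Nat.card F₀ ^ r ∧
        Geo.IsQuadFormRationalStructure ⇑Q F₀ P ∧ H = Geo.subfieldSubgroup F₀ P ⊓ Geo.omegaGL ⇑Q := by
    intro F₀ hF₀ P B hPH hnP habs hP
    obtain ⟨F₁, r, hr, hc, hle⟩ := exists_prime_index_above F₀ hF₀
    have hF₁ : F₁ ≠ ⊤ := fun h => by
      rw [(subfield_eq_top_iff F₁).mp h] at hc
      exact absurd hc (Nat.ne_of_lt (lt_self_pow₀ Fintype.one_lt_card hr.one_lt))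
    obtain ⟨G, c, hc0, hcG, hGu', hg⟩ := hf.rational_gram habs (hfixes P hPH) (fun s hs i j => hle (hP s hs i j))
    have hGeq : ((B⁻¹ : GL ι F) : Matrix ι ι F)ᵀ * Geo.gramMatrix (polar ⇑Q) * ((B⁻¹ : GL ι F) : Matrix ι ι F) = G := by
      have := (hgram.comp ((B⁻¹ : GL ι F) : Matrix ι ι F)).inj hg
      simpa using this
    have hdet : c⁻¹ ^ Fintype.card ι =
        ((B⁻¹ : GL ι F) : Matrix ι ι F).det ^ 2 * ((Geo.gramMatrix (polar ⇑Q)).det * ((c • G).det)⁻¹) := by
      rw [Matrix.det_smul, ← hGeq, Matrix.det_mul, Matrix.det_mul, Matrix.det_transpose]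
      have hd1 := ((Matrix.isUnit_iff_isUnit_det _).mp hGu).ne_zero
      have hd2 := ((Matrix.isUnit_iff_isUnit_det _).mp (B⁻¹).isUnit).ne_zero
      field_simp
      rw [← mul_pow, div_mul_cancel₀ _ hc0, one_pow]
    obtain ⟨s, hs0, hs⟩ := smul_square_mem hodd' (inv_ne_zero hc0)
      (F₁.mul_mem (hdisc F₁) (F₁.inv_mem (Rational.det hcG))) hdet
    obtain ⟨z, hz, hzs⟩ := mem_scalars_smul (ι := ι) hs0
    refine ⟨F₁, r, z * B⁻¹, hr, hc, fun u hu => ?_, ?_⟩
    · have hmul : ((z * B⁻¹ : GL ι F) : Matrix ι ι F) *ᵥ u = s • (((B⁻¹ : GL ι F) : Matrix ι ι F) *ᵥ u) := by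
        rw [Units.val_mul, hzs, Matrix.smul_mul, one_mul, Matrix.smul_mulVec]
      rw [hmul, Reflections.map_smul']
      have hsum := hg u u
      simp only [Reflections.polar_self', RingHom.id_apply] at hsum
      have hQval : Q (((B⁻¹ : GL ι F) : Matrix ι ι F) *ᵥ u) = (2 : F)⁻¹ * c⁻¹ * (u ⬝ᵥ ((c • G) *ᵥ u)) := by
        rw [Matrix.smul_mulVec, dotProduct_smul, smul_eq_mul, ← hsum]
        field_simp
      rw [hQval, show s * s * ((2 : F)⁻¹ * c⁻¹ * (u ⬝ᵥ ((c • G) *ᵥ u))) =
        (2 : F)⁻¹ * (s * s * c⁻¹) * (u ⬝ᵥ ((c • G) *ᵥ u)) by ring]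
      refine F₁.mul_mem (F₁.mul_mem (F₁.inv_mem ?_) hs) (sum_mem fun i _ => F₁.mul_mem (hu i) (sum_mem fun j _ =>
        F₁.mul_mem (hcG i j) (hu j)))
      rw [← one_add_one_eq_two]
      exact F₁.add_mem F₁.one_mem F₁.one_mem
    · refine eq_inf_of_maximal hH ?_ (omega_not_le_subfieldSubgroup h2 Q hQ hn5' hF₁ _)
      have hle' := le_subfieldSubgroup (F₀ := F₁) (B := B * z⁻¹) habs hnP (fun t ht => by
        have : B * z⁻¹ * t * (B * z⁻¹)⁻¹ = B * t * B⁻¹ := by
          rw [mul_inv_rev, inv_inv, mul_assoc B z⁻¹ t, ← scalars_central (inv_mem hz) t]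
          group
        rw [this]; exact fun i j => hle (hP t ht i j))
      simpa [mul_inv_rev] using hle'
  rcases prime_structure hn' hirr with ⟨M, hMH, hM, hd, hs⟩ | ⟨M, hMH, hM, hc, hi⟩ | ⟨R, hRH, hRn, hRc, hR2, hRabs⟩ | ⟨P, hP⟩
  · obtain ⟨b', χ, hχ, hdist, hperm, htrans⟩ := exists_frame hn' hM hirr hd hs
    obtain ⟨ho, hdiag⟩ := hf.orth_frame hodd' hMH hiso hχ hdist htrans
    have hQd : ∀ i, Q (b' i) ≠ 0 := fun i h0 => hdiag i (by rw [Reflections.polar_self', h0, mul_zero])
    set b := b'.reindex (finCongr hι) with hb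
    have hbperm : ∀ g ∈ H, ∀ i, ∃ (j : Fin n) (c : F), (g : Matrix ι ι F) *ᵥ b i = c • b j := by
      intro g hg i
      obtain ⟨j, c, hj⟩ := hperm g hg ((finCongr hι).symm i)
      exact ⟨finCongr hι j, c, by simpa [hb] using hj⟩
    have hob : ∀ i j, i ≠ j → polar ⇑Q (b i) (b j) = 0 := fun i j hij => by
      simpa [hb] using ho _ _ (fun h => hij ((finCongr hι).symm.injective h))
    have hdb : ∀ i, Q (b i) ≠ 0 := fun i => by simpa [hb] using hQd _
    have hlines : ∀ i j, ∃ c : F, c ≠ 0 ∧ Q (b i) = c * c * Q (b j) := by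
      intro i j
      obtain ⟨g, hg, c, hc⟩ := htrans ((finCongr hι).symm i) ((finCongr hι).symm j)
      have h1 := hisoQ g hg (b' ((finCongr hι).symm i))
      rw [hc, Reflections.map_smul'] at h1
      refine ⟨c, ?_, by simpa [hb] using h1.symm⟩
      rintro rfl
      exact hQd _ (by simpa using h1.symm)
    have hnot : ¬ Geo.omegaGL ⇑Q ≤ Geo.decompositionStabilizer (fun i => Submodule.span F {b i}) := by
      intro hle
      have : ∀ g : GL ι F, ∃ τ : Fin n → Fin n, g ∈ Geo.omegaGL ⇑Q → ∀ i, ∃ c : F,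
          (g : Matrix ι ι F) *ᵥ b i = c • b (τ i) := by
        intro g
        by_cases hg : g ∈ Geo.omegaGL ⇑Q
        · obtain ⟨τ, hτ⟩ := hle hg
          refine ⟨τ, fun _ i => ?_⟩
          have h3 : (g : Matrix ι ι F) *ᵥ b i ∈ (Submodule.span F {b i}).map (Matrix.toLin' (g : Matrix ι ι F)) :=
            ⟨b i, Submodule.mem_span_singleton_self _, Matrix.toLin'_apply _ _⟩
          rw [hτ i] at h3
          obtain ⟨c, hc⟩ := Submodule.mem_span_singleton.mp h3
          exact ⟨c, hc.symm⟩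
        · exact ⟨id, fun h => absurd h hg⟩
      choose τ hτ using this
      exact omega_not_le_orthFrame h2 Q hQ hn5' b hob hdb τ hτ
    by_cases hp : (Fintype.card F).Prime
    · refine Or.inl ⟨hp, fun i => Submodule.span F {b i}, ⟨hf.orth_frame_decomposition hn.two_le hob
        (fun i => by rw [Reflections.polar_self']; exact mul_ne_zero h2 (hdb i)), fun i j => ?_⟩,
        eq_inf_of_maximal hH (le_decompositionStabilizer _ hbperm) hnot⟩
      obtain ⟨c, hc0, hc⟩ := hlines i j
      let ei := LinearEquiv.toSpanNonzeroSingleton F (ι → F) (b i) (b.ne_zero i)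
      let ej := LinearEquiv.toSpanNonzeroSingleton F (ι → F) (b j) (b.ne_zero j)
      refine ⟨ei.symm.trans ((LinearEquiv.smulOfNeZero F F c hc0).trans ej), fun w => ?_⟩
      obtain ⟨a, rfl⟩ := ei.surjective w
      simp only [LinearEquiv.trans_apply, LinearEquiv.symm_apply_apply]
      simp [ei, ej, LinearEquiv.toSpanNonzeroSingleton_apply, Reflections.map_smul', hc]
      ring
    · refine Or.inr (Or.inl ?_)
      obtain ⟨p, hpc⟩ := CharP.exists F
      haveI : Fact p.Prime := ⟨CharP.char_is_prime F p⟩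
      obtain ⟨m, hm, hcardm⟩ := FiniteField.card F p
      have hm1 : 1 < (m : ℕ) := by
        by_contra h
        have : (m : ℕ) = 1 := by have := m.pos; omega
        exact hp (by rw [hcardm, this, pow_one]; exact hm)
      obtain ⟨F₁, r, hr, hc, -⟩ := exists_prime_index (F := F) (q₀ := p) hm1 hcardm
      have hF₁ : F₁ ≠ ⊤ := fun h => by
        rw [(subfield_eq_top_iff F₁).mp h] at hc
        exact absurd hc (Nat.ne_of_lt (lt_self_pow₀ Fintype.one_lt_card hr.one_lt))
      set i₀ : Fin n := ⟨0, hn.pos⟩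
      choose d hd0 hdQ using fun i => hlines i i₀
      let e := Fintype.equivFinOfCardEq hι
      let b₂ : Module.Basis ι F (ι → F) :=
        ((b.unitsSMul fun i => (Units.mk0 (d i) (hd0 i))⁻¹).reindex e.symm)
      have hb₂ : ∀ i, b₂ i = (d (e i))⁻¹ • b (e i) := fun i => by
        simp [b₂, Module.Basis.unitsSMul_apply, Units.smul_def]
      set a := Q (b i₀) with ha
      have hQ₂ : ∀ i, Q (b₂ i) = a := fun i => by
        rw [hb₂, Reflections.map_smul', hdQ]
        have := hd0 (e i)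
        field_simp
      have ho₂ : ∀ i j, i ≠ j → polar ⇑Q (b₂ i) (b₂ j) = 0 := fun i j hij => by
        rw [hb₂, hb₂, polar_smul_left, polar_smul_right, hob _ _ (fun h => hij (e.injective h))]
        simp
      set T : Matrix ι ι F := (((coordGL b₂)⁻¹ : GL ι F) : Matrix ι ι F) with hT
      have hTcol : ∀ i, T *ᵥ Pi.single i 1 = b₂ i := fun i => by
        have h1 : (coordGL b₂ : Matrix ι ι F) *ᵥ b₂ i = Pi.single i 1 := by
          rw [coordGL_mulVec]
          funext k
          simp [Module.Basis.equivFun_apply, Finsupp.single_apply, Pi.single_apply, eq_comm]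
        rw [hT, ← h1, inv_mulVec_mulVec]
      have hG₂ : Tᵀ * Geo.gramMatrix (polar ⇑Q) * T = (2 * a) • (1 : Matrix ι ι F) := by
        ext i j
        have h1 := (hgram.comp T).apply_single i j
        simp only [RingHom.id_apply, hTcol, Matrix.map_id'] at h1
        rw [show Tᵀ * Geo.gramMatrix (polar ⇑Q) * T = Tᵀ * Geo.gramMatrix (polar ⇑Q) * T.map id by simp]
        rcases eq_or_ne i j with rfl | hij
        · rw [Matrix.smul_apply, Matrix.one_apply_eq, smul_eq_mul, mul_one]
          simpa [Reflections.polar_self', hQ₂] using h1.symm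
        · rw [Matrix.smul_apply, Matrix.one_apply_ne hij, smul_zero]
          simpa [ho₂ i j hij] using h1.symm
      have h2F : (2 : F) ∈ F₁ := by rw [← one_add_one_eq_two]; exact F₁.add_mem F₁.one_mem F₁.one_mem
      obtain ⟨s, hs0, hsa⟩ := smul_square_mem hodd' (a := 2 * a) (d := T.det) (δ := (Geo.gramMatrix (polar ⇑Q)).det)
        (F₁ := F₁) (mul_ne_zero h2 (hdb i₀)) (hdisc F₁) (by
          have := congrArg Matrix.det hG₂
          rw [Matrix.det_mul, Matrix.det_mul, Matrix.det_transpose, Matrix.det_smul, Matrix.det_one, mul_one] at this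
          rw [← this]; ring)
      let b₃ : Module.Basis ι F (ι → F) := b₂.unitsSMul fun _ => Units.mk0 s hs0
      have hb₃ : ∀ i, b₃ i = s • b₂ i := fun i => by simp [b₃, Module.Basis.unitsSMul_apply, Units.smul_def]
      have hsa' : s * s * a ∈ F₁ := by
        have := F₁.mul_mem hsa (F₁.inv_mem h2F)
        rwa [show s * s * (2 * a) * (2 : F)⁻¹ = s * s * a by field_simp] at this
      have hrat : ∀ g ∈ H, Rational F₁ ((coordGL b₃ * g * (coordGL b₃)⁻¹ : GL ι F) : Matrix ι ι F) := by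
        intro g hg
        refine rational_of_rationalOn fun k i => ?_
        obtain ⟨j, c, hc⟩ := hbperm g hg (e k)
        have h1 : (g : Matrix ι ι F) *ᵥ b₃ k = (c * (d (e k))⁻¹ * d j) • b₃ (e.symm j) := by
          rw [hb₃, hb₃, hb₂, hb₂, Matrix.mulVec_smul, Matrix.mulVec_smul, hc, Equiv.apply_symm_apply, smul_smul,
            smul_smul, smul_smul, smul_smul]
          congr 1
          have := hd0 j
          field_simp
        set c' := c * (d (e k))⁻¹ * d j
        have hc' : c' * c' = 1 := by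
          have h3 := hisoQ g hg (b₃ k)
          rw [h1, Reflections.map_smul', hb₃, hb₃, Reflections.map_smul', Reflections.map_smul', hQ₂, hQ₂] at h3
          exact mul_right_cancel₀ (mul_ne_zero (mul_ne_zero hs0 hs0) (hdb i₀)) (by rw [one_mul]; exact h3)
        rw [h1, map_smul, Pi.smul_apply, smul_eq_mul]
        refine F₁.mul_mem ?_ ?_
        · rcases mul_self_eq_one_iff.mp hc' with h | h <;> rw [h]
          · exact F₁.one_mem
          · exact F₁.neg_mem F₁.one_mem
        · simp only [Module.Basis.equivFun_apply, Module.Basis.repr_self, Finsupp.single_apply]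
          split
          · exact F₁.one_mem
          · exact F₁.zero_mem
      refine ⟨F₁, r, (coordGL b₃)⁻¹, hr, hc, fun u hu => ?_, eq_inf_of_maximal hH ?_
        (omega_not_le_subfieldSubgroup h2 Q hQ hn5' hF₁ _)⟩
      · have hu' : ((coordGL b₃)⁻¹ : GL ι F).val *ᵥ u = ∑ i, u i • b₃ i := by
          refine mulVec_gl_inj (coordGL b₃) ?_
          show (coordGL b₃ : Matrix ι ι F) *ᵥ _ = (coordGL b₃ : Matrix ι ι F) *ᵥ _
          rw [mulVec_inv_mulVec, coordGL_mulVec]
          funext k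
          simp [map_sum, Module.Basis.equivFun_apply, Finsupp.single_apply]
        rw [hu']
        have hQsum : ∀ S : Finset ι, Q (∑ i ∈ S, u i • b₃ i) = ∑ i ∈ S, u i * u i * (s * s * a) := by
          intro S
          induction S using Finset.induction with
          | empty => simp
          | insert x S hx ih =>
            rw [Finset.sum_insert hx, Finset.sum_insert hx, Reflections.map_add', ih, Reflections.map_smul', hb₃,
              Reflections.map_smul', hQ₂]
            have h0 : polar ⇑Q (u x • s • b₂ x) (∑ i ∈ S, u i • b₃ i) = 0 := by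
              rw [show ∀ v w, polar ⇑Q v w = Q.polarBilin v w from fun _ _ => rfl, map_sum]
              refine Finset.sum_eq_zero fun i hi => ?_
              show polar ⇑Q _ _ = 0
              rw [hb₃, polar_smul_left, polar_smul_left, polar_smul_right, polar_smul_right,
                ho₂ x i (fun h => hx (h ▸ hi))]
              simp
            rw [h0, add_zero]
        rw [hQsum]
        exact sum_mem fun i _ => F₁.mul_mem (F₁.mul_mem (hu i) (hu i)) hsa'
      · intro g hg
        refine mem_subfieldSubgroup one_ne_zero ?_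
        rw [one_smul, inv_inv]
        exact hrat g hg
  · exfalso
    obtain ⟨hK, -⟩ := field_of_comm_irr hn' hM hc hi
    have hone : ∀ x ∈ M, x = 1 := by
      intro x hx
      have hz : ((x : Matrix ι ι F) - 1).det = 0 := det_sub_one_eq_zero h2 hodd'
        ((Matrix.isUnit_iff_isUnit_det _).mp hGu).ne_zero
        (by simpa using (preserves_iff_gram hgram _).mp (hiso x (hMH hx))) (det_eq_one_of_mem (hHS (hMH hx)))
      by_contra hne
      obtain ⟨y, -, hy⟩ := hK.inv ((x : Matrix ι ι F) - 1)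
        (Subalgebra.sub_mem _ (Algebra.subset_adjoin ⟨x, hx, rfl⟩) (Subalgebra.one_mem _))
        (fun h0 => hne (Units.ext (sub_eq_zero.mp h0)))
      have h3 := congrArg Matrix.det hy
      rw [Matrix.det_mul, hz, zero_mul, Matrix.det_one] at h3
      exact zero_ne_one h3
    exact irr_not_le_scalars hi (by omega) (fun x hx => by rw [hone x hx]; exact one_mem _)
  · exfalso
    have hR : ClassTwo R := ⟨hRc, hR2, hRH.trans hHS, hRabs⟩
    obtain ⟨b, ω, hω, -, -, z, hzR, hzω⟩ := hR.standard hn' hodd'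
    obtain ⟨i⟩ := (inferInstance : Nonempty ι)
    obtain ⟨x, hx⟩ := (hf.nondegenerate (Pi.single i 1) (by simp)).1
    have h3 := hiso z (hRH hzR) x (Pi.single i 1)
    rw [hzω] at h3
    simp only [Matrix.smul_mulVec, Matrix.one_mulVec, hf.smul_left, hf.smul_right, RingHom.id_apply] at h3
    have h4 : ω * ω = 1 := mul_right_cancel₀ hx (by rw [one_mul, mul_assoc]; exact h3)
    have := Nat.le_of_dvd two_pos (hω.dvd_of_pow_eq_one 2 (by rw [pow_two, h4]))
    omega
  · by_cases hreal : ∃ F₀ : Subfield F, F₀ ≠ ⊤ ∧ Geo.RealisableOver F₀ (Geo.matrixSet P)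
    · obtain ⟨F₀, hF₀, B, hB⟩ := hreal
      exact Or.inr (Or.inl (hsub F₀ hF₀ B hP.le hP.normal hP.absIrred
        (fun s hs i j => by simpa using hB _ ⟨s, hs, rfl⟩ i j)))
    push Not at hreal
    refine Or.inr (Or.inr ⟨P, hP.toResidual hreal, ?_⟩)
    rintro ⟨σ, f, hfu, hfix⟩
    obtain ⟨F₂, hF₂, hF₂t, hreal₂⟩ := realisable_of_unitary_symmetric h2 hfu hP.absIrred hfix hGu (fun s hs => by
      simpa using (preserves_iff_gram hgram _).mp (hfixes P hP.le _ ⟨s, hs, rfl⟩))
    exact hreal F₂ hF₂t hreal₂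

end Cfsg.Agent.Aschbacher
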