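import Cfsg.Agent.Aschbacher.UnitaryBasics

/-!
Rational structures carrying a Hermitian form, and descent of a group fixing a Hermitian and a symmetric form.
-/

set_option autoImplicit false
set_option linter.unusedSectionVars false
set_option linter.style.haveILetI false

namespace Cfsg.Agent.Aschbacher

open scoped MatrixGroups Matrix
open Module

variable {n : ℕ} {F : Type*} [Field F] [Fintype F] {q : ℕ}

/-- In characteristic two a symmetric matrix only sees its diagonal as a quadratic form. -/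
theorem quad_diag [CharP F 2] {G : Matrix (Fin n) (Fin n) F} (hG : ∀ i j, G i j = G j i) (u : Fin n → F) :
    u ⬝ᵥ (G *ᵥ u) = ∑ i, G i i * u i ^ 2 := by
  classical
  simp only [dotProduct, Matrix.mulVec, Finset.mul_sum]
  rw [← Fintype.sum_prod_type', ← Finset.sum_filter_add_sum_filter_not Finset.univ (fun p : Fin n × Fin n => p.1 = p.2)]
  have h0 : ∑ p ∈ Finset.univ.filter (fun p : Fin n × Fin n => ¬ p.1 = p.2), u p.1 * (G p.1 p.2 * u p.2) = 0 := by
    refine Finset.sum_involution (fun p _ => p.swap) (fun p _ => ?_) (fun p hp _ hpp => ?_) (fun p hp => ?_)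
      (fun p _ => Prod.swap_swap p)
    · simp only [Prod.fst_swap, Prod.snd_swap, hG p.2 p.1]
      rw [show u p.2 * (G p.1 p.2 * u p.1) = u p.1 * (G p.1 p.2 * u p.2) by ring, CharTwo.add_self_eq_zero]
    · exact (Finset.mem_filter.mp hp).2 (by simpa using (congrArg Prod.snd hpp))
    · simpa [eq_comm] using hp
  rw [h0, add_zero]
  refine Finset.sum_nbij' (fun p => p.1) (fun i => (i, i)) (by simp) (by simp) ?_ (by simp) ?_
  · intro p hp
    exact Prod.ext rfl (by simpa using hp)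
  · intro p hp
    rw [show p.2 = p.1 from (by simpa using hp : p.1 = p.2).symm]
    ring

/-- A semilinear involution commuting with a group makes it rational over the fixed field. -/
theorem realisable_of_semilinear {ι : Type} [Fintype ι] [DecidableEq ι] {σ : F →+* F} (hinv : ∀ a, σ (σ a) = a) (hne : ∃ a, σ a ≠ a) {F₁ : Subfield F}
    (hF₁ : ∀ x, σ x = x → x ∈ F₁) (J : (ι → F) → (ι → F)) (hadd : ∀ u v, J (u + v) = J u + J v)
    (hsmul : ∀ (c : F) v, J (c • v) = σ c • J v) (hJJ : ∀ v, J (J v) = v) {P : Subgroup (GL ι F)}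
    (hcomm : ∀ s ∈ P, ∀ v, J ((s : Matrix ι ι F) *ᵥ v) = (s : Matrix ι ι F) *ᵥ J v) :
    Geo.RealisableOver F₁ (Geo.matrixSet P) := by
  classical
  let S : Set (ι → F) := {v | J v = v}
  have hspan : Submodule.span F S = ⊤ := by
    obtain ⟨a, ha⟩ := hne
    rw [eq_top_iff]
    intro v _
    have h1 : v + J v ∈ Submodule.span F S :=
      Submodule.subset_span (show J (v + J v) = v + J v by rw [hadd, hJJ, add_comm])
    have h2 : a • v + σ a • J v ∈ Submodule.span F S :=
      Submodule.subset_span (show J (a • v + σ a • J v) = a • v + σ a • J v by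
        rw [hadd, hsmul, hsmul, hJJ, hinv, add_comm])
    have h3 : (a - σ a) • v ∈ Submodule.span F S := by
      have : (a - σ a) • v = (a • v + σ a • J v) - σ a • (v + J v) := by
        rw [sub_smul, smul_add]; abel
      rw [this]
      exact Submodule.sub_mem _ h2 (Submodule.smul_mem _ _ h1)
    exact (Submodule.smul_mem_iff _ (sub_ne_zero.mpr (Ne.symm ha))).mp h3
  obtain ⟨T, hTS, hTspan, hTli⟩ := exists_linearIndependent F S
  let b₀ : Module.Basis T F (ι → F) := Module.Basis.mk hTli (by rw [Subtype.range_coe, hTspan, hspan])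
  let b := b₀.reindex (b₀.indexEquiv (Pi.basisFun F ι))
  have hb : ∀ i, J (b i) = b i := fun i => by
    simp only [b, b₀, Module.Basis.reindex_apply, Module.Basis.mk_apply]
    exact hTS (Subtype.prop _)
  let Jm : (ι → F) →+ (ι → F) := AddMonoidHom.mk' J hadd
  refine ⟨coordGL b, ?_⟩
  rintro _ ⟨s, hs, rfl⟩ i j
  have hrat : RationalOn F₁ b (s : Matrix ι ι F) := by
    intro k i
    refine hF₁ _ ?_
    have h1 := hcomm s hs (b k)
    rw [hb] at h1
    have h2 : J ((s : Matrix ι ι F) *ᵥ b k) =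
        ∑ l, σ (b.equivFun ((s : Matrix ι ι F) *ᵥ b k) l) • b l := by
      conv_lhs => rw [← b.sum_equivFun ((s : Matrix ι ι F) *ᵥ b k)]
      show Jm _ = _
      rw [map_sum]
      exact Finset.sum_congr rfl fun l _ => by
        show J _ = _
        rw [hsmul, hb]
    have h3 := congrArg (fun v => b.equivFun v i) (h2.symm.trans h1)
    rw [← b.equivFun_symm_apply] at h3
    simp only [LinearEquiv.apply_symm_apply] at h3
    exact h3
  simpa using rational_of_rationalOn hrat i j

/-- A group fixing a Hermitian form and a non-degenerate symmetric bilinear form is realisable over the fixed field. -/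
theorem IsConj.realisable_of_symmetric {σ : F →+* F} (hσ : IsConj q σ) (hn : 0 < n) {P : Subgroup (GL (Fin n) F)}
    (habs : Geo.ActsAbsolutelyIrreducibly (Geo.matrixSet P))
    (hP : Geo.FixesForm (Geo.matrixSet P) (hermForm n F q)) {B₀ : Matrix (Fin n) (Fin n) F} (hB₀ : IsUnit B₀)
    (hPB : ∀ s ∈ P, (s : Matrix (Fin n) (Fin n) F)ᵀ * B₀ * (s : Matrix (Fin n) (Fin n) F) = B₀)
    {F₁ : Subfield F} (hF₁ : ∀ x, σ x = x → x ∈ F₁) : Geo.RealisableOver F₁ (Geo.matrixSet P) := by
  classical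
  haveI : Nonempty (Fin n) := ⟨⟨0, hn⟩⟩
  have h := hσ.herm (n := n)
  obtain ⟨G₁, hG₁⟩ : ∃ G₁, Geo.gramMatrix (hermForm n F q) = G₁ := ⟨_, rfl⟩
  have hg := hG₁ ▸ h.gram
  have hu₁ := gram_isUnit hg h.nondegenerate
  obtain ⟨u₀, hu₀⟩ := hB₀
  obtain ⟨u₁, hu₁⟩ := hu₁
  let A : GL (Fin n) F := u₁⁻¹ * u₀
  have hA : ∀ s ∈ P, (s : Matrix (Fin n) (Fin n) F).map σ * ((A : Matrix (Fin n) (Fin n) F)) =
      (A : Matrix (Fin n) (Fin n) F) * s := by
    intro s hs
    set S : Matrix (Fin n) (Fin n) F := (s : Matrix (Fin n) (Fin n) F)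
    set Si : Matrix (Fin n) (Fin n) F := ((s⁻¹ : GL (Fin n) F) : Matrix (Fin n) (Fin n) F)
    have e1 : Sᵀ * (u₁ : Matrix (Fin n) (Fin n) F) * S.map σ = u₁ := by
      rw [hu₁]; exact (preserves_iff_gram hg S).mp (hP _ ⟨s, hs, rfl⟩)
    have e2 : Sᵀ * (u₀ : Matrix (Fin n) (Fin n) F) * S = u₀ := by rw [hu₀]; exact hPB s hs
    have eT : Siᵀ * Sᵀ = 1 := by
      rw [← Matrix.transpose_mul, ← Units.val_mul, mul_inv_cancel, Units.val_one, Matrix.transpose_one]
    have e1' : (u₁ : Matrix (Fin n) (Fin n) F) * S.map σ = Siᵀ * u₁ := by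
      conv_rhs => rw [← e1, ← mul_assoc, ← mul_assoc, eT, one_mul]
    have e2' : (u₀ : Matrix (Fin n) (Fin n) F) * S = Siᵀ * u₀ := by
      conv_rhs => rw [← e2, ← mul_assoc, ← mul_assoc, eT, one_mul]
    calc S.map σ * (A : Matrix (Fin n) (Fin n) F)
        = ((u₁⁻¹ : GL (Fin n) F) : Matrix (Fin n) (Fin n) F) * ((u₁ : Matrix (Fin n) (Fin n) F) * S.map σ) *
            ((u₁⁻¹ : GL (Fin n) F) : Matrix (Fin n) (Fin n) F) * u₀ := by
          rw [← mul_assoc _ (u₁ : Matrix (Fin n) (Fin n) F), ← Units.val_mul, inv_mul_cancel, Units.val_one, one_mul,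
            Units.val_mul, mul_assoc]
      _ = ((u₁⁻¹ : GL (Fin n) F) : Matrix (Fin n) (Fin n) F) * (Siᵀ * u₀) := by
          rw [e1']
          simp only [mul_assoc]
          rw [← mul_assoc (u₁ : Matrix (Fin n) (Fin n) F), ← Units.val_mul, mul_inv_cancel, Units.val_one, one_mul]
      _ = (A : Matrix (Fin n) (Fin n) F) * S := by rw [← e2', Units.val_mul, mul_assoc]
  set Am : Matrix (Fin n) (Fin n) F := (A : Matrix (Fin n) (Fin n) F) with hAm
  have hmm : ∀ M : Matrix (Fin n) (Fin n) F, (M.map σ).map σ = M := fun M => by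
    ext i j; simp [hσ.invol]
  have hcommA : ∀ s ∈ Geo.matrixSet P, Am.map σ * Am * s = s * (Am.map σ * Am) := by
    rintro _ ⟨s, hs, rfl⟩
    have e := congrArg (fun M : Matrix (Fin n) (Fin n) F => M.map σ) (hA s hs)
    simp only [Matrix.map_mul, hmm] at e
    rw [mul_assoc, ← hA s hs, ← mul_assoc, ← e, mul_assoc]
  obtain ⟨l, hl⟩ := habs.2 _ hcommA
  have hl0 : l ≠ 0 := by
    intro h0
    have hu : IsUnit (Am.map σ * Am) := ((A.isUnit).map σ.mapMatrix).mul A.isUnit
    rw [hl, h0, zero_smul] at hu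
    exact not_isUnit_zero hu
  have hlfix : σ l = l := by
    have h2 : Am * Am.map σ = σ l • (1 : Matrix (Fin n) (Fin n) F) := by
      have := congrArg (fun M : Matrix (Fin n) (Fin n) F => M.map σ) hl
      simpa [Matrix.map_mul, hmm, Matrix.map_smul'] using this
    have h3 : σ l • Am = l • Am := by
      calc σ l • Am = Am * Am.map σ * Am := by rw [h2, Matrix.smul_mul, one_mul]
        _ = l • Am := by rw [mul_assoc, hl, Matrix.mul_smul, mul_one]
    obtain ⟨i, j, hij⟩ : ∃ i j, Am i j ≠ 0 := by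
      by_contra hcon
      push Not at hcon
      exact A.ne_zero (Matrix.ext hcon)
    exact mul_right_cancel₀ hij (by simpa using congrFun (congrFun h3 i) j)
  obtain ⟨sμ, hs, hsb⟩ := hσ.exists_three (a := l⁻¹) (by rw [map_inv₀, hlfix]) (inv_ne_zero hl0)
  obtain ⟨μ, hμ⟩ := Finset.card_pos.mp (by omega : 0 < sμ.card)
  have hAA : (μ • Am).map σ * (μ • Am) = 1 := by
    rw [show (μ • Am).map σ = σ μ • Am.map σ from Matrix.ext fun i j => by simp, Matrix.smul_mul, Matrix.mul_smul,
      smul_smul, hl, smul_smul, mul_comm (σ μ), (hsb μ hμ).2, inv_mul_cancel₀ hl0, one_smul]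
  refine realisable_of_semilinear hσ.invol hσ.ne_id hF₁ (fun v => fun i => σ (((μ • Am) *ᵥ v) i)) ?_ ?_ ?_ ?_
  · intro u v; funext i; simp [Matrix.mulVec_add]
  · intro c v; funext i; simp [Matrix.mulVec_smul]
  · intro v
    show (fun i => σ (((μ • Am) *ᵥ fun k => σ (((μ • Am) *ᵥ v) k)) i)) = v
    rw [mulVec_comp, show (fun k => σ (σ (((μ • Am) *ᵥ v) k))) = (μ • Am) *ᵥ v from funext fun k => hσ.invol _,
      Matrix.mulVec_mulVec, hAA, Matrix.one_mulVec]
  · intro s hs v
    show (fun i => σ (((μ • Am) *ᵥ ((s : Matrix (Fin n) (Fin n) F) *ᵥ v)) i)) = _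
    rw [Matrix.mulVec_mulVec, Matrix.smul_mul, ← hA s hs, ← Matrix.mul_smul, ← Matrix.mulVec_mulVec, mulVec_comp, hmm]

/-- A rational absolutely irreducible group of isometries carries a form-rational structure. -/
theorem IsConj.rational_structure {σ : F →+* F} (hσ : IsConj q σ) (hodd : Odd n) (hn : 2 ≤ n) {F₁ : Subfield F} {r : ℕ}
    (hr : r.Prime) (hc : Fintype.card F = Nat.card F₁ ^ r) {P H : Subgroup (GL (Fin n) F)} {B : GL (Fin n) F}
    (habs : Geo.ActsAbsolutelyIrreducibly (Geo.matrixSet P)) (hn' : NormalIn P H)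
    (hP : Geo.FixesForm (Geo.matrixSet P) (hermForm n F q))
    (hrat : ∀ s ∈ P, Rational F₁ ((B * s * B⁻¹ : GL (Fin n) F) : Matrix (Fin n) (Fin n) F)) :
    ∃ Q : GL (Fin n) F, Geo.IsFormRationalStructure (hermForm n F q) F₁ 1 Q ∧
      H ≤ Geo.subfieldSubgroup F₁ Q ∧ (r = 2 → Odd q) := by
  classical
  haveI : Nonempty (Fin n) := ⟨⟨0, by omega⟩⟩
  have h := hσ.herm (n := n)
  obtain ⟨G, c, hc0, hcG, hGu, hg⟩ := h.rational_gram habs hP hrat
  set Bi : Matrix (Fin n) (Fin n) F := ((B⁻¹ : GL (Fin n) F) : Matrix (Fin n) (Fin n) F) with hBi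
  have hherm : ∀ i j, G j i = σ (G i j) := fun i j => by
    rw [← hg.apply_single, ← hg.apply_single]
    exact h.herm _ _
  have hoddι : Odd (Fintype.card (Fin n)) := by simpa using hodd
  obtain ⟨a, ha0, haσ, hcaF⟩ : ∃ a, a ≠ 0 ∧ σ a = a ∧ c * a ∈ F₁ := by
    by_cases hdiag : ∀ i, G i i = 0
    · by_cases hsum : ∀ i j, G i j + G j i = 0
      · exact absurd ((Matrix.isUnit_iff_isUnit_det _).mp hGu) (by
          rw [det_eq_zero_of_alternating hoddι hdiag (fun i j => eq_neg_of_add_eq_zero_left (hsum i j))]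
          exact not_isUnit_zero)
      · push Not at hsum
        obtain ⟨i, j, hij⟩ := hsum
        refine ⟨G i j + G j i, hij, by rw [map_add, ← hherm, ← hherm, add_comm], ?_⟩
        rw [mul_add]
        exact F₁.add_mem (hcG i j) (hcG j i)
    · push Not at hdiag
      obtain ⟨i, hi⟩ := hdiag
      exact ⟨G i i, hi, (hherm i i).symm, hcG i i⟩
  have hG' : Rational F₁ (a⁻¹ • G) := by
    intro i j
    have h1 := F₁.mul_mem (hcG i j) (F₁.inv_mem hcaF)
    rw [Matrix.smul_apply, smul_eq_mul] at h1 ⊢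
    have e : a⁻¹ * G i j = c * G i j * (c * a)⁻¹ := by field_simp
    rw [e]; exact h1
  obtain ⟨ss, hss, hssb⟩ := hσ.exists_three (a := a⁻¹) (by rw [map_inv₀, haσ]) (inv_ne_zero ha0)
  obtain ⟨s, hs⟩ := Finset.card_pos.mp (by omega : 0 < ss.card)
  obtain ⟨z, hz, hzs⟩ := mem_scalars_smul (ι := Fin n) (hssb s hs).1
  have hQ : ∀ u : Fin n → F, ((z * B⁻¹ : GL (Fin n) F) : Matrix (Fin n) (Fin n) F) *ᵥ u = s • (Bi *ᵥ u) := fun u => by
    rw [Units.val_mul, hzs, Matrix.smul_mul, one_mul, Matrix.smul_mulVec, hBi]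
  refine ⟨z * B⁻¹, ?_, ?_, ?_⟩
  · intro u v hu hv
    rw [one_mul, hQ, hQ, h.smul_left, h.smul_right, ← mul_assoc, (hssb s hs).2]
    have e : a⁻¹ * hermForm n F q (Bi *ᵥ u) (Bi *ᵥ v) = ∑ i, u i * (∑ j, (a⁻¹ • G) i j * σ (v j)) := by
      have h1 := (hg.smul a⁻¹) u v
      simpa [dotProduct, Matrix.mulVec] using h1
    rw [e]
    exact sum_mem fun i _ => F₁.mul_mem (hu i) (sum_mem fun j _ =>
      F₁.mul_mem (hG' i j) (ringHom_mem_subfield σ F₁ (hv j)))
  · have hle := le_subfieldSubgroup (B := B * z⁻¹) habs hn' (fun t ht => by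
      have : B * z⁻¹ * t * (B * z⁻¹)⁻¹ = B * t * B⁻¹ := by
        rw [mul_inv_rev, inv_inv, mul_assoc B z⁻¹ t, ← scalars_central (inv_mem hz) t]
        group
      rw [this]; exact hrat t ht)
    simpa [mul_inv_rev] using hle
  · intro hr2
    by_contra hq
    rw [hr2, hσ.card] at hc
    have hcard : Nat.card F₁ = q := Nat.pow_left_injective two_ne_zero hc.symm
    have hfix : ∀ x ∈ F₁, σ x = x := fun x hx => by
      rw [hσ.apply, ← hcard]; exact (mem_subfield_iff_pow F₁ x).mp hx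
    set G' : Matrix (Fin n) (Fin n) F := a⁻¹ • G with hG'def
    have hsymm : ∀ i j, G' i j = G' j i := fun i j => by
      rw [← hfix _ (hG' j i), hG'def, Matrix.smul_apply, Matrix.smul_apply, smul_eq_mul, smul_eq_mul, map_mul,
        map_inv₀, haσ, ← hherm]
    have h2 : (2 : F) = 0 := by
      haveI : CharP F 2 := ringChar.of_eq (FiniteField.even_card_iff_char_two.mpr (by
        rw [hσ.card, Nat.pow_mod]
        simp [Nat.even_iff.mp (Nat.not_odd_iff_even.mp hq)]))
      exact CharTwo.two_eq_zero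
    haveI : CharP F 2 := CharTwo.of_one_ne_zero_of_two_eq_zero one_ne_zero h2
    have heven : Even (Fintype.card F) := by
      rw [hσ.card]; exact (Nat.not_odd_iff_even.mp hq).pow_of_ne_zero two_ne_zero
    choose w hw using fun i => exists_sq_of_even heven (G' i i)
    have hquad : ∀ u : Fin n → F, u ⬝ᵥ (G' *ᵥ u) = (∑ i, w i * u i) ^ 2 := by
      intro u
      rw [quad_diag hsymm, CharTwo.sum_sq]
      exact Finset.sum_congr rfl fun i _ => by rw [mul_pow, hw]
    have hw0 : ∃ i, w i ≠ 0 := by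
      by_contra hcon
      push Not at hcon
      have hu : IsUnit G'.det := by
        refine (Matrix.isUnit_iff_isUnit_det _).mp ?_
        obtain ⟨za, hza, hzaval⟩ := mem_scalars_smul (ι := Fin n) (inv_ne_zero ha0)
        have hu2 := (za.isUnit).mul hGu
        rwa [hzaval, Matrix.smul_mul, one_mul] at hu2
      rw [det_eq_zero_of_alternating hoddι (fun i => by rw [← hw i, hcon i]; simp) (fun i j => by
        rw [CharTwo.neg_eq]; exact hsymm i j)] at hu
      exact not_isUnit_zero hu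
    let W : Submodule F (Fin n → F) :=
      { carrier := {x | ∑ i, w i * ((B : Matrix (Fin n) (Fin n) F) *ᵥ x) i = 0}
        add_mem' := fun {x y} hx hy => by
          simp only [Set.mem_ofPred_eq, Matrix.mulVec_add, Pi.add_apply, mul_add, Finset.sum_add_distrib] at *
          rw [hx, hy, add_zero]
        zero_mem' := by simp
        smul_mem' := fun k x hx => by
          simp only [Set.mem_ofPred_eq, Matrix.mulVec_smul, Pi.smul_apply, smul_eq_mul] at *
          simp only [mul_left_comm _ k, ← Finset.mul_sum, hx, mul_zero] }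
    have hWinv : ∀ t ∈ P, ∀ x ∈ W, (t : Matrix (Fin n) (Fin n) F) *ᵥ x ∈ W := by
      intro t ht x hx
      show ∑ i, w i * ((B : Matrix (Fin n) (Fin n) F) *ᵥ ((t : Matrix (Fin n) (Fin n) F) *ᵥ x)) i = 0
      set T : Matrix (Fin n) (Fin n) F := ((B * t * B⁻¹ : GL (Fin n) F) : Matrix (Fin n) (Fin n) F)
      have e0 : (B : Matrix (Fin n) (Fin n) F) *ᵥ ((t : Matrix (Fin n) (Fin n) F) *ᵥ x) =
          T *ᵥ ((B : Matrix (Fin n) (Fin n) F) *ᵥ x) := by
        simp only [T, Matrix.mulVec_mulVec, ← Units.val_mul, inv_mul_cancel_right]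
      have hTm : T.map σ = T := Matrix.ext fun i j => hfix _ (hrat t ht i j)
      have hT : Tᵀ * G' * T = G' := by
        have h1 : Tᵀ * G * T.map σ = G := (preserves_iff_gram hg T).mp fun u v => by
          simp only [T, Matrix.mulVec_mulVec, hBi, ← Units.val_mul]
          rw [show B⁻¹ * (B * t * B⁻¹) = t * B⁻¹ by group, Units.val_mul, ← Matrix.mulVec_mulVec, ← Matrix.mulVec_mulVec]
          exact hP _ ⟨t, ht, rfl⟩ _ _
        rw [hTm] at h1
        rw [hG'def, Matrix.mul_smul, Matrix.smul_mul, h1]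
      rw [e0]
      refine pow_eq_zero_iff two_ne_zero |>.mp ?_
      replace hx : ∑ i, w i * ((B : Matrix (Fin n) (Fin n) F) *ᵥ x) i = 0 := hx
      generalize (B : Matrix (Fin n) (Fin n) F) *ᵥ x = y at hx ⊢
      have e1 : (T *ᵥ y) ⬝ᵥ (G' *ᵥ (T *ᵥ y)) = y ⬝ᵥ (G' *ᵥ y) := by
        conv_rhs => rw [← hT]
        rw [← Matrix.mulVec_mulVec, ← Matrix.mulVec_mulVec, Matrix.dotProduct_mulVec y, Matrix.vecMul_transpose]
      rw [← hquad, e1, hquad, hx]
      simp
    rcases habs.1 W (by rintro _ ⟨t, ht, rfl⟩ x ⟨y, hy, rfl⟩; simpa using hWinv t ht y hy) with hb | ht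
    · -- the hyperplane is non-zero
      obtain ⟨i, j, hij⟩ : ∃ i j : Fin n, i ≠ j := ⟨⟨0, by omega⟩, ⟨1, by omega⟩, by simp⟩
      let u : Fin n → F := if w i = 0 then Pi.single i 1 else Pi.single i (w j) - Pi.single j (w i)
      have hu0 : u ≠ 0 := by
        simp only [u]; split
        · simp
        · intro h0; have := congrFun h0 j; simp [Pi.single_eq_of_ne hij.symm] at this; exact absurd this (by assumption)
      have huW : ∑ k, w k * u k = 0 := by
        simp only [u]; split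
        · simp [Pi.single_apply, *]
        · simp [Pi.single_apply, mul_sub, Finset.sum_sub_distrib, mul_comm]
      have : Bi *ᵥ u ∈ W := by
        show ∑ k, w k * ((B : Matrix (Fin n) (Fin n) F) *ᵥ (Bi *ᵥ u)) k = 0
        rw [hBi, mulVec_inv_mulVec]; exact huW
      rw [hb, Submodule.mem_bot] at this
      exact hu0 (mulVec_gl_inj B⁻¹ (by simpa [hBi] using this))
    · obtain ⟨i, hi⟩ := hw0
      have : Bi *ᵥ Pi.single i 1 ∈ W := ht ▸ Submodule.mem_top
      have h1 : ∑ k, w k * ((B : Matrix (Fin n) (Fin n) F) *ᵥ (Bi *ᵥ Pi.single i 1)) k = 0 := this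
      rw [hBi, mulVec_inv_mulVec] at h1
      simp [Pi.single_apply] at h1
      exact hi h1

end Cfsg.Agent.Aschbacher
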