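import Cfsg.Agent.Aschbacher.RationalForm
import Cfsg.Agent.Aschbacher.LinearPrime

/-!
The maximal subgroups of SU(n, q), n an odd prime: members of the geometric classes or residual.
-/

set_option autoImplicit false
set_option linter.unusedSectionVars false
set_option linter.style.haveILetI false

namespace Cfsg.Agent.Aschbacher

open scoped MatrixGroups Matrix
open Module

variable {F : Type*} [Field F] [Fintype F]

theorem mem_GU_iff {n q : ℕ} {g : GL (Fin n) F} : g ∈ GU n F q ↔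
    ∀ u v, hermForm n F q ((g : Matrix (Fin n) (Fin n) F) *ᵥ u) ((g : Matrix (Fin n) (Fin n) F) *ᵥ v) =
      hermForm n F q u v := Iff.rfl

theorem GU_le_similarityGroup {n q : ℕ} : GU n F q ≤ Geo.similarityGroup (hermForm n F q) := fun g hg =>
  ⟨1, fun u v => by rw [mem_GU_iff.mp hg, Units.val_one, one_mul]⟩

theorem unitary_prime {n q : ℕ} (hn : n.Prime) (hodd : Odd n) (hnq : 4 ≤ n ∨ 3 ≤ q) (hQ : Fintype.card F = q ^ 2)
    {H : Subgroup (GL (Fin n) F)} (hH : Geo.IsMaximalIn (GU n F q ⊓ Geo.specialLinear (Fin n) F) H) :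
    (∃ W : Submodule F (Fin n → F), W ≠ ⊥ ∧ Geo.IsTotallySingularFor (hermForm n F q) W ∧
      H = Geo.subspaceStabilizer W ⊓ (GU n F q ⊓ Geo.specialLinear (Fin n) F)) ∨
    (∃ W : Submodule F (Fin n → F), W ≠ ⊥ ∧ Geo.IsNondegenerateOn (hermForm n F q) W ∧ 2 * finrank F W < n ∧
      H = Geo.subspaceStabilizer W ⊓ (GU n F q ⊓ Geo.specialLinear (Fin n) F)) ∨
    (∃ D : Fin n → Submodule F (Fin n → F), Geo.IsNondegenerateMDecomposition (hermForm n F q) 1 D ∧
      H = Geo.decompositionStabilizer D ⊓ (GU n F q ⊓ Geo.specialLinear (Fin n) F)) ∨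
    (∃ K : Subalgebra F (Matrix (Fin n) (Fin n) F), Geo.IsFieldSubalgebra n K ∧
      Geo.IsAdjointClosedFor (hermForm n F q) K ∧
      H = Geo.subalgebraNormalizer K ⊓ (GU n F q ⊓ Geo.specialLinear (Fin n) F)) ∨
    (∃ (F₀ : Subfield F) (r : ℕ) (P : GL (Fin n) F), r.Prime ∧ Odd r ∧ Fintype.card F = Nat.card F₀ ^ r ∧
      Geo.IsFormRationalStructure (hermForm n F q) F₀ 1 P ∧
      H = Geo.subfieldSubgroup F₀ P ⊓ (GU n F q ⊓ Geo.specialLinear (Fin n) F)) ∨
    (Odd q ∧ ∃ (F₀ : Subfield F) (P : GL (Fin n) F), Fintype.card F = Nat.card F₀ ^ 2 ∧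
      Geo.IsFormRationalStructure (hermForm n F q) F₀ 1 P ∧
      H = Geo.subfieldSubgroup F₀ P ⊓ (GU n F q ⊓ Geo.specialLinear (Fin n) F)) ∨
    (∃ (p k : ℕ) (R : Subgroup (GL (Fin n) F)), p.Prime ∧ CharP F p ∧ q = p ^ k ∧ 0 < k ∧ 2 * k ∣ n - 1 ∧
      n ∣ p ^ k + 1 ∧ (∀ d, 0 < d → d < 2 * k → ¬ n ∣ p ^ d - 1) ∧ n ≠ p ∧ Geo.IsSymplecticTypeGroup n R ∧
      Geo.ActsAbsolutelyIrreducibly (Geo.matrixSet R) ∧ R ≤ GU n F q ∧ Nat.card R = n ^ 3 ∧
      Nat.card (Subgroup.center R) = n ∧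
      H = Geo.subgroupNormalizer R ⊓ (GU n F q ⊓ Geo.specialLinear (Fin n) F)) ∨
    Geo.InUnitaryResidualClass H := by
  classical
  have hcard : Fintype.card (Fin n) = n := Fintype.card_fin n
  have hn' : (Fintype.card (Fin n)).Prime := hcard.symm ▸ hn
  have hodd' : Odd (Fintype.card (Fin n)) := hcard.symm ▸ hodd
  have hn2 := hn.two_le
  have hn3 : 3 ≤ n := by rcases hodd with ⟨k, hk⟩; omega
  haveI : Nonempty (Fin n) := ⟨⟨0, hn.pos⟩⟩
  obtain ⟨σ', hσ1, hσ⟩ := exists_isConj hQ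
  set σ : F →+* F := (σ' : F →+* F)
  have hf := hσ.herm (n := n)
  have hHU : H ≤ GU n F q := hH.1.le.trans inf_le_left
  have hHS : H ≤ Geo.specialLinear (Fin n) F := hH.1.le.trans inf_le_right
  have hiso : ∀ g ∈ H, ∀ u v, hermForm n F q ((g : Matrix (Fin n) (Fin n) F) *ᵥ u)
      ((g : Matrix (Fin n) (Fin n) F) *ᵥ v) = hermForm n F q u v := fun g hg => mem_GU_iff.mp (hHU hg)
  have hfixes : ∀ P : Subgroup (GL (Fin n) F), P ≤ H → Geo.FixesForm (Geo.matrixSet P) (hermForm n F q) := by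
    rintro P hP _ ⟨s, hs, rfl⟩
    exact hiso s (hP hs)
  by_cases hirr : Irr H
  swap
  · simp only [Irr, not_forall, not_or] at hirr
    obtain ⟨W, hW, hWb, hWt⟩ := hirr
    have key : ∀ U : Submodule F (Fin n → F), Inv H U → U ≠ ⊥ → U ≠ ⊤ →
        H = Geo.subspaceStabilizer U ⊓ (GU n F q ⊓ Geo.specialLinear (Fin n) F) := fun U hU hb ht =>
      eq_inf_of_maximal hH (inv_le_subspaceStabilizer hU) (su_not_le_subspaceStabilizer hQ hb ht)
    rcases hf.subspace_dichotomy hiso hW hWb hWt with ⟨U, hU, hUb, hUt, hts⟩ |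
      ⟨hnd, hnd', hpb, hpt, hdim, hpi⟩
    · exact Or.inl ⟨U, hUb, hts, key U hU hUb hUt⟩
    · refine Or.inr (Or.inl ?_)
      rw [hcard] at hdim
      rcases hodd with ⟨k, hk⟩
      by_cases hsmall : 2 * finrank F W < n
      · exact ⟨W, hWb, hnd, hsmall, key W hW hWb hWt⟩
      · exact ⟨hf.perp W, hpb, hnd', by omega, key _ hpi hpb hpt⟩
  right; right
  have hsub : ∀ (F₀ : Subfield F), F₀ ≠ ⊤ → ∀ {P : Subgroup (GL (Fin n) F)} (B : GL (Fin n) F),
      P ≤ H → NormalIn P H → Geo.ActsAbsolutelyIrreducibly (Geo.matrixSet P) →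
      (∀ s ∈ P, Rational F₀ ((B * s * B⁻¹ : GL (Fin n) F) : Matrix (Fin n) (Fin n) F)) →
      (∃ (F₀ : Subfield F) (r : ℕ) (P : GL (Fin n) F), r.Prime ∧ Odd r ∧ Fintype.card F = Nat.card F₀ ^ r ∧
        Geo.IsFormRationalStructure (hermForm n F q) F₀ 1 P ∧
        H = Geo.subfieldSubgroup F₀ P ⊓ (GU n F q ⊓ Geo.specialLinear (Fin n) F)) ∨
      (Odd q ∧ ∃ (F₀ : Subfield F) (P : GL (Fin n) F), Fintype.card F = Nat.card F₀ ^ 2 ∧
        Geo.IsFormRationalStructure (hermForm n F q) F₀ 1 P ∧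
        H = Geo.subfieldSubgroup F₀ P ⊓ (GU n F q ⊓ Geo.specialLinear (Fin n) F)) := by
    intro F₀ hF₀ P B hPH hn habs hP
    obtain ⟨F₁, r, hr, hc, hle⟩ := exists_prime_index_above F₀ hF₀
    have hF₁ : F₁ ≠ ⊤ := fun h => by
      rw [(subfield_eq_top_iff F₁).mp h] at hc
      exact absurd hc (Nat.ne_of_lt (lt_self_pow₀ Fintype.one_lt_card hr.one_lt))
    obtain ⟨Q, hQ1, hQ2, hQ3⟩ := hσ.rational_structure hodd hn2 hr hc habs hn (hfixes P hPH)
      (fun s hs i j => hle (hP s hs i j))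
    have heq := eq_inf_of_maximal hH hQ2 (su_not_le_subfieldSubgroup hQ hn3 hF₁ Q)
    rcases hr.eq_two_or_odd' with rfl | hro
    · exact Or.inr ⟨hQ3 rfl, F₁, Q, hc, hQ1, heq⟩
    · exact Or.inl ⟨F₁, r, Q, hr, hro, hc, hQ1, heq⟩
  rcases prime_structure hn' hirr with ⟨M, hMH, hM, hd, hs⟩ | ⟨M, hMH, hM, hc, hi⟩ | ⟨R, hRH, hRn, hRc, hR2, hRabs⟩ | ⟨P, hP⟩
  · obtain ⟨b', χ, hχ, hdist, hperm, htrans⟩ := exists_frame hn' hM hirr hd hs
    obtain ⟨ho, hdiag⟩ := hf.orth_frame hodd' hMH hiso hχ hdist htrans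
    refine Or.inl ⟨_, hf.orth_frame_decomposition hn2 (b := b'.reindex (finCongr hcard))
      (fun i j hij => by simpa using ho _ _ (fun h => hij ((finCongr hcard).symm.injective h)))
      (fun i => by simpa using hdiag _), ?_⟩
    refine eq_inf_of_maximal hH (le_decompositionStabilizer _ fun g hg i => ?_)
      (su_not_le_orthFrame hQ hn3 hnq _
        (fun i j hij => by simpa using ho _ _ (fun h => hij ((finCongr hcard).symm.injective h)))
        (fun i => by simpa using hdiag _))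
    obtain ⟨j, c, hj⟩ := hperm g hg ((finCongr hcard).symm i)
    exact ⟨finCongr hcard j, c, by simpa using hj⟩
  · obtain ⟨hK, hle⟩ := field_of_comm_irr hn' hM hc hi
    refine Or.inr (Or.inl ⟨_, ?_, hf.adjointClosed (fun g hg => hiso g (hMH hg)), eq_inf_of_maximal hH hle
      (su_not_le_subalgebraNormalizer hQ hn3 hK (by omega))⟩)
    simpa [hcard] using hK
  · right; right
    have hR : ClassTwo R := ⟨hRc, hR2, hRH.trans hHS, hRabs⟩
    obtain ⟨p, hp⟩ := CharP.exists F
    have hpp : p.Prime := CharP.char_is_prime F p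
    obtain ⟨b, ω, hω, hrat, -, z, hzR, hzω⟩ := hR.standard hn' hodd'
    rw [hcard] at hω
    have hω0 : ω ≠ 0 := hω.ne_zero hn.ne_zero
    have hωq : ω ^ (q + 1) = 1 := by
      have h1 := hiso z (hRH hzR)
      obtain ⟨x, hx⟩ := (hf.nondegenerate (Pi.single ⟨0, hn.pos⟩ 1) (by simp)).1
      have h2 := h1 x (Pi.single ⟨0, hn.pos⟩ 1)
      rw [hzω] at h2
      simp only [Matrix.smul_mulVec, Matrix.one_mulVec, hf.smul_left, hf.smul_right] at h2
      have h3 : ω * σ ω = 1 := mul_right_cancel₀ hx (by rw [one_mul, mul_assoc]; exact h2)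
      rwa [hσ.apply, ← pow_succ'] at h3
    have hdq : n ∣ q + 1 := hω.dvd_of_pow_eq_one _ hωq
    obtain ⟨e, f, hfc, he0, hef, hen, hnp, hed, hmin⟩ := exists_min_exponent (F := F) hpp hn hω
    obtain ⟨j, hj, hqj⟩ := (Nat.dvd_prime_pow hpp).mp (show q ∣ p ^ f by rw [← hfc, hQ]; exact dvd_pow_self _ two_ne_zero)
    have hf2 : f = 2 * j := by
      rw [hQ, hqj, ← pow_mul] at hfc
      have := Nat.pow_right_injective hpp.two_le hfc
      omega
    have hej : ¬ e ∣ j := by
      rintro ⟨c, rfl⟩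
      have h1 : n ∣ q - 1 := by
        rw [hqj, pow_mul]
        exact hed.trans (by simpa using Nat.sub_dvd_pow_sub_pow (p ^ e) 1 c)
      have h2 : n ∣ 2 := by
        have := Nat.dvd_sub hdq h1
        rwa [show q + 1 - (q - 1) = 2 by have := hσ.one_lt; omega] at this
      exact absurd (Nat.le_of_dvd two_pos h2) (by omega)
    obtain ⟨k, hk⟩ : Even e := by
      by_contra he
      refine hej ?_
      have hcop : Nat.Coprime e 2 := by
        rw [Nat.coprime_comm, Nat.coprime_two_left]; exact Nat.not_even_iff_odd.mp he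
      exact hcop.dvd_of_dvd_mul_left (hf2 ▸ hef)
    obtain ⟨m, hm⟩ := hef
    rcases Nat.lt_or_ge 1 m with hm1 | hm1
    · obtain ⟨F₁, r, hr, hc, hmem⟩ := exists_prime_index (F := F) (q₀ := p ^ e) hm1 (by rw [hfc, hm, pow_mul])
      have hωm : ω ∈ F₁ := hmem ω (by
        obtain ⟨l, hl⟩ := hed
        have hpe : p ^ e = n * l + 1 := by have := Nat.one_le_pow e p hpp.pos; omega
        rw [hpe, pow_succ, pow_mul, hω.pow_eq_one, one_pow, one_mul])
      have hF₁ : F₁ ≠ ⊤ := fun h => by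
        rw [(subfield_eq_top_iff F₁).mp h] at hc
        exact absurd hc (Nat.ne_of_lt (lt_self_pow₀ Fintype.one_lt_card hr.one_lt))
      rcases hsub F₁ hF₁ (coordGL b) hRH hRn hRabs (fun s hs => rational_of_rationalOn (hrat F₁ hωm s hs)) with h | h
      · exact Or.inl h
      · exact Or.inr (Or.inl h)
    · have hm' : m = 1 := by
        rcases Nat.eq_zero_or_pos m with rfl | h
        · rw [mul_zero] at hm
          rw [hm, pow_zero] at hfc
          exact absurd hfc (Fintype.one_lt_card.ne')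
        · omega
      subst hm'
      have hjk : j = k := by omega
      subst hjk
      refine Or.inr (Or.inr (Or.inl ⟨p, j, R, hpp, hp, hqj, by omega, ?_, by rwa [← hqj], ?_, hnp, ?_, hRabs,
        hRH.trans hHU, ?_, ?_, eq_inf_of_maximal hH ?_ ?_⟩))
      · rwa [two_mul, ← hk]
      · intro d hd0 hd
        exact hmin d hd0 (by omega)
      · simpa [hcard] using hR.symplecticType hn' hodd'
      · obtain ⟨x, y, ω', hpair⟩ := hR.exists_hpair
        rw [hpair.natCard hR hn' hodd', hcard]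
      · rw [hR.natCard_center hn', hcard]
      · intro g hg
        refine Subgroup.mem_normalizer_iff.mpr fun x => ⟨hRn g hg x, fun h => ?_⟩
        simpa [mul_assoc] using hRn g⁻¹ (inv_mem hg) _ h
      · refine su_not_le_normalizer hQ ?_ hn hn3 hR
        have h1 := Nat.le_of_dvd (by omega) hdq
        by_contra hq3
        have h2 : n ≤ 4 := by omega
        have h3 : n = 3 := by rcases hodd with ⟨l, hl⟩; omega
        have h4 : q = 3 := by omega
        rw [h3, h4] at hdq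
        omega
  · right; right
    by_cases hreal : ∃ F₀ : Subfield F, F₀ ≠ ⊤ ∧ Geo.RealisableOver F₀ (Geo.matrixSet P)
    · obtain ⟨F₀, hF₀, B, hB⟩ := hreal
      rcases hsub F₀ hF₀ B hP.le hP.normal hP.absIrred
        (fun s hs i j => by simpa using hB _ ⟨s, hs, rfl⟩ i j) with h | h
      · exact Or.inl h
      · exact Or.inr (Or.inl h)
    push Not at hreal
    refine Or.inr (Or.inr (Or.inr ⟨P, hP.toResidual hreal, ?_, ?_⟩))
    · rintro ⟨Q, hQf, hfix⟩
      have hg := exists_gram (RingHom.id F) (QuadraticMap.polar Q) hQf.polar_bilinear.add_left hQf.polar_bilinear.smul_left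
        hQf.polar_bilinear.add_right (fun c v x => hQf.polar_bilinear.smul_right c v x)
      have hu := gram_isUnit hg hQf.nondegenerate
      obtain ⟨F₂, hF₂, hmem₂⟩ := hσ.fixed_subfield
      have hF₂t : F₂ ≠ ⊤ := fun h => by
        have := (subfield_eq_top_iff F₂).mp h
        rw [hF₂, hσ.card] at this
        have := hσ.one_lt
        nlinarith
      refine hreal F₂ hF₂t (hσ.realisable_of_symmetric hn.pos hP.absIrred (hfixes P hP.le)
        (B₀ := Geo.gramMatrix (QuadraticMap.polar Q)) hu (fun s hs => ?_) (fun x hx => (hmem₂ x).mpr hx))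
      have h1 := (preserves_iff_gram hg (s : Matrix (Fin n) (Fin n) F)).mp (fun u v => by
        simp only [QuadraticMap.polar, ← Matrix.mulVec_add, hfix _ ⟨s, hs, rfl⟩])
      simpa using h1
    · rintro ⟨f', hf', -⟩
      have hg := exists_gram (RingHom.id F) f' hf'.bilinear.add_left hf'.bilinear.smul_left hf'.bilinear.add_right
        (fun c v x => hf'.bilinear.smul_right c v x)
      have hu := (Matrix.isUnit_iff_isUnit_det _).mp (gram_isUnit hg hf'.nondegenerate)
      rw [det_eq_zero_of_alternating hodd' (G := Geo.gramMatrix f') (fun i => hf'.alternating _)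
        (fun i j => hf'.skew _ _)] at hu
      exact not_isUnit_zero hu

end Cfsg.Agent.Aschbacher
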