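import Mathlib

/-!
A computable model over four elements of the overgroup L(2,11) of the normaliser of a field in SU(5,2).
-/

set_option autoImplicit false

namespace Cfsg.Agent.Aschbacher.SU52

/-- Four elements. -/
inductive Q4 | o | i | w | z
deriving DecidableEq, Repr

namespace Q4

/-- Addition. -/
protected def add : Q4 → Q4 → Q4
  | .o, .o => .o
  | .o, .i => .i
  | .o, .w => .w
  | .o, .z => .z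
  | .i, .o => .i
  | .i, .i => .o
  | .i, .w => .z
  | .i, .z => .w
  | .w, .o => .w
  | .w, .i => .z
  | .w, .w => .o
  | .w, .z => .i
  | .z, .o => .z
  | .z, .i => .w
  | .z, .w => .i
  | .z, .z => .o

/-- Multiplication. -/
protected def mul : Q4 → Q4 → Q4
  | .o, .o => .o
  | .o, .i => .o
  | .o, .w => .o
  | .o, .z => .o
  | .i, .o => .o
  | .i, .i => .i
  | .i, .w => .w
  | .i, .z => .z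
  | .w, .o => .o
  | .w, .i => .w
  | .w, .w => .z
  | .w, .z => .i
  | .z, .o => .o
  | .z, .i => .z
  | .z, .w => .i
  | .z, .z => .w

instance : Add Q4 := ⟨Q4.add⟩
instance : Mul Q4 := ⟨Q4.mul⟩

/-- Conjugation. -/
def conj : Q4 → Q4
  | .o => .o
  | .i => .i
  | .w => .z
  | .z => .w

instance : Fintype Q4 := ⟨⟨[Q4.o, Q4.i, Q4.w, Q4.z], by decide⟩, fun x => by cases x <;> decide⟩

end Q4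

/-- Vectors. -/
structure V5 where
  (a b c d e : Q4)
deriving DecidableEq

/-- Matrices by rows. -/
structure M5 where
  (a b c d e : V5)
deriving DecidableEq

/-- Scalar product. -/
def V5.dot (r v : V5) : Q4 := r.a * v.a + r.b * v.b + r.c * v.c + r.d * v.d + r.e * v.e

/-- Conjugate vector. -/
def V5.conj (v : V5) : V5 := ⟨v.a.conj, v.b.conj, v.c.conj, v.d.conj, v.e.conj⟩

/-- Vector sum. -/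
def V5.vadd (x y : V5) : V5 := ⟨x.a + y.a, x.b + y.b, x.c + y.c, x.d + y.d, x.e + y.e⟩

/-- Scalar multiple. -/
def V5.smul (s : Q4) (v : V5) : V5 := ⟨s * v.a, s * v.b, s * v.c, s * v.d, s * v.e⟩

/-- Matrix times vector. -/
def M5.mulV (A : M5) (v : V5) : V5 := ⟨A.a.dot v, A.b.dot v, A.c.dot v, A.d.dot v, A.e.dot v⟩

/-- Transpose. -/
def M5.tr (A : M5) : M5 := ⟨⟨A.a.a, A.b.a, A.c.a, A.d.a, A.e.a⟩, ⟨A.a.b, A.b.b, A.c.b, A.d.b, A.e.b⟩, ⟨A.a.c, A.b.c, A.c.c, A.d.c, A.e.c⟩, ⟨A.a.d, A.b.d, A.c.d, A.d.d, A.e.d⟩, ⟨A.a.e, A.b.e, A.c.e, A.d.e, A.e.e⟩⟩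

/-- Conjugate matrix. -/
def M5.conj (A : M5) : M5 := ⟨A.a.conj, A.b.conj, A.c.conj, A.d.conj, A.e.conj⟩

/-- Matrix product. -/
def M5.mul (A B : M5) : M5 :=
  let T := B.tr
  ⟨T.mulV A.a, T.mulV A.b, T.mulV A.c, T.mulV A.d, T.mulV A.e⟩

/-- Transform of a Gram matrix. -/
def M5.gram (A G : M5) : M5 := (A.tr.mul G).mul A.conj

/-- Identity. -/
def one5 : M5 := ⟨⟨.i, .o, .o, .o, .o⟩, ⟨.o, .i, .o, .o, .o⟩, ⟨.o, .o, .i, .o, .o⟩, ⟨.o, .o, .o, .i, .o⟩, ⟨.o, .o, .o, .o, .i⟩⟩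

/-- Powers. -/
def M5.pow (A : M5) : ℕ → M5
  | 0 => one5
  | k + 1 => (A.pow k).mul A

/-- Companion matrix. -/
def cC : M5 := ⟨⟨.o, .o, .o, .o, .i⟩, ⟨.i, .o, .o, .o, .w⟩, ⟨.o, .i, .o, .o, .i⟩, ⟨.o, .o, .i, .o, .i⟩, ⟨.o, .o, .o, .i, .z⟩⟩

/-- Frobenius matrix. -/
def cY : M5 := ⟨⟨.i, .o, .o, .o, .i⟩, ⟨.o, .o, .z, .i, .w⟩, ⟨.o, .o, .w, .o, .i⟩, ⟨.o, .o, .z, .o, .i⟩, ⟨.o, .i, .w, .o, .z⟩⟩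

/-- Gram matrix. -/
def cG : M5 := ⟨⟨.i, .w, .z, .w, .w⟩, ⟨.z, .i, .w, .z, .w⟩, ⟨.w, .z, .i, .w, .z⟩, ⟨.z, .w, .z, .i, .w⟩, ⟨.z, .z, .w, .z, .i⟩⟩

/-- An element outside the normaliser. -/
def cT : M5 := ⟨⟨.i, .z, .o, .w, .i⟩, ⟨.o, .i, .w, .w, .z⟩, ⟨.o, .i, .i, .z, .w⟩, ⟨.o, .z, .i, .w, .z⟩, ⟨.o, .i, .z, .o, .w⟩⟩

/-- A transvection moving the finite set. -/
def cU : M5 := ⟨⟨.i, .o, .o, .o, .o⟩, ⟨.o, .i, .o, .o, .o⟩, ⟨.o, .o, .i, .o, .o⟩, ⟨.z, .w, .o, .i, .o⟩, ⟨.i, .z, .o, .o, .i⟩⟩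

/-- An invariant set of 55 vectors. -/
def cS : List V5 := [⟨.o, .o, .i, .i, .w⟩, ⟨.o, .o, .i, .z, .z⟩, ⟨.o, .o, .w, .w, .i⟩, ⟨.o, .o, .z, .i, .i⟩, ⟨.o, .i, .i, .w, .o⟩, ⟨.o, .i, .w, .z, .z⟩, ⟨.o, .i, .z, .z, .o⟩, ⟨.o, .w, .w, .i, .o⟩, ⟨.o, .w, .w, .z, .i⟩, ⟨.o, .w, .z, .w, .z⟩, ⟨.o, .z, .o, .w, .w⟩, ⟨.o, .z, .i, .i, .o⟩, ⟨.o, .z, .z, .o, .w⟩, ⟨.i, .o, .i, .o, .z⟩, ⟨.i, .o, .w, .o, .w⟩, ⟨.i, .o, .z, .z, .z⟩, ⟨.i, .i, .o, .w, .i⟩, ⟨.i, .i, .o, .z, .w⟩, ⟨.i, .i, .i, .w, .z⟩, ⟨.i, .i, .w, .o, .o⟩, ⟨.i, .i, .z, .i, .w⟩, ⟨.i, .w, .i, .w, .w⟩, ⟨.i, .w, .i, .z, .i⟩, ⟨.i, .w, .z, .z, .o⟩, ⟨.i, .z, .o, .i, .i⟩, ⟨.i, .z, .w, .i, .w⟩, ⟨.i, .z, .z, .o, .o⟩, ⟨.w, .o, .o, .z, .w⟩, ⟨.w, .o, .i, .o, .i⟩, ⟨.w, .o, .w, .i, .z⟩, ⟨.w, .i, .o, .i, .z⟩, ⟨.w, .i, .w, .w, .w⟩, ⟨.w, .i, .z, .o,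 .z⟩, ⟨.w, .w, .o, .z, .z⟩, ⟨.w, .w, .i, .o, .o⟩, ⟨.w, .w, .w, .o, .i⟩, ⟨.w, .w, .z, .i, .o⟩, ⟨.w, .w, .z, .w, .w⟩, ⟨.w, .z, .i, .i, .i⟩, ⟨.w, .z, .i, .w, .z⟩, ⟨.w, .z, .w, .z, .o⟩, ⟨.z, .o, .w, .w, .o⟩, ⟨.z, .o, .z, .o, .i⟩, ⟨.z, .o, .z, .w, .w⟩, ⟨.z, .i, .i, .o, .o⟩, ⟨.z, .i, .w, .i, .i⟩, ⟨.z, .i, .z, .w, .i⟩, ⟨.z, .w, .o, .o, .z⟩, ⟨.z, .w, .o, .i, .i⟩, ⟨.z, .w, .i, .z, .w⟩, ⟨.z, .z, .o, .w, .o⟩, ⟨.z, .z, .i, .z, .i⟩, ⟨.z, .z, .w, .o, .w⟩, ⟨.z, .z, .w, .z, .z⟩, ⟨.z, .z, .z, .i, .z⟩]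

/-- Normalising vectors for the Gram sequences. -/
def norm5 : V5 → V5
  | ⟨.o, .o, .i, .z, .o⟩ => ⟨.o, .o, .i, .i, .z⟩
  | ⟨.o, .o, .w, .o, .w⟩ => ⟨.i, .o, .o, .w, .i⟩
  | ⟨.o, .o, .z, .z, .w⟩ => ⟨.o, .i, .o, .z, .w⟩
  | ⟨.o, .i, .o, .w, .z⟩ => ⟨.o, .i, .i, .w, .z⟩
  | ⟨.o, .i, .i, .i, .z⟩ => ⟨.o, .i, .i, .i, .w⟩
  | ⟨.o, .i, .w, .w, .i⟩ => ⟨.o, .o, .i, .i, .i⟩
  | ⟨.o, .i, .z, .i, .i⟩ => ⟨.o, .i, .z, .w, .i⟩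
  | ⟨.o, .w, .o, .o, .i⟩ => ⟨.o, .i, .o, .z, .z⟩
  | ⟨.o, .w, .i, .z, .i⟩ => ⟨.o, .i, .i, .w, .w⟩
  | ⟨.o, .w, .w, .o, .z⟩ => ⟨.o, .i, .i, .i, .i⟩
  | ⟨.o, .w, .z, .z, .z⟩ => ⟨.o, .i, .i, .z, .w⟩
  | ⟨.o, .z, .o, .w, .w⟩ => ⟨.o, .i, .o, .i, .w⟩
  | ⟨.o, .z, .i, .i, .w⟩ => ⟨.o, .i, .o, .w, .i⟩
  | ⟨.o, .z, .w, .w, .o⟩ => ⟨.o, .i, .o, .i, .i⟩
  | ⟨.o, .z, .z, .i, .o⟩ => ⟨.o, .o, .i, .i, .w⟩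
  | ⟨.i, .o, .o, .i, .i⟩ => ⟨.o, .i, .o, .o, .z⟩
  | ⟨.i, .o, .i, .w, .i⟩ => ⟨.o, .o, .i, .w, .i⟩
  | ⟨.i, .o, .w, .i, .z⟩ => ⟨.o, .i, .o, .i, .z⟩
  | ⟨.i, .o, .z, .w, .z⟩ => ⟨.o, .i, .i, .w, .i⟩
  | ⟨.i, .i, .o, .z, .w⟩ => ⟨.o, .i, .o, .o, .i⟩
  | ⟨.i, .i, .i, .o, .w⟩ => ⟨.o, .o, .i, .o, .w⟩
  | ⟨.i, .i, .w, .z, .o⟩ => ⟨.o, .o, .i, .o, .z⟩
  | ⟨.i, .i, .z, .o, .o⟩ => ⟨.o, .o, .o, .i, .z⟩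
  | ⟨.i, .w, .o, .i, .o⟩ => ⟨.o, .o, .i, .w, .z⟩
  | ⟨.i, .w, .i, .w, .o⟩ => ⟨.o, .i, .i, .i, .z⟩
  | ⟨.i, .w, .w, .i, .w⟩ => ⟨.o, .o, .i, .o, .i⟩
  | ⟨.i, .w, .z, .w, .w⟩ => ⟨.o, .o, .o, .o, .i⟩
  | ⟨.i, .z, .o, .z, .z⟩ => ⟨.o, .o, .o, .i, .w⟩
  | ⟨.i, .z, .i, .o, .z⟩ => ⟨.o, .i, .w, .w, .z⟩
  | ⟨.i, .z, .w, .z, .i⟩ => ⟨.o, .o, .i, .z, .w⟩
  | ⟨.i, .z, .z, .o, .i⟩ => ⟨.o, .o, .o, .i, .i⟩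
  | _ => ⟨.o, .o, .o, .o, .o⟩

/-- The first basis vector. -/
def e0 : V5 := ⟨.i, .o, .o, .o, .o⟩

/-- Krylov matrix. -/
def kry (u : V5) : M5 :=
  let u₁ := cC.mulV u
  let u₂ := cC.mulV u₁
  let u₃ := cC.mulV u₂
  let u₄ := cC.mulV u₃
  M5.tr ⟨u, u₁, u₂, u₃, u₄⟩

/-- Gram matrix attached to a sequence. -/
def toep (s : V5) : M5 :=
  ⟨⟨s.a, s.b, s.c, s.d, s.e⟩, ⟨s.b.conj, s.a, s.b, s.c, s.d⟩, ⟨s.c.conj, s.b.conj, s.a, s.b, s.c⟩,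
    ⟨s.d.conj, s.c.conj, s.b.conj, s.a, s.b⟩, ⟨s.e.conj, s.d.conj, s.c.conj, s.b.conj, s.a⟩⟩

/-- All vectors. -/
def allV : List V5 :=
  let l := [Q4.o, Q4.i, Q4.w, Q4.z]
  l.flatMap fun a => l.flatMap fun b => l.flatMap fun c => l.flatMap fun d => l.map fun e => ⟨a, b, c, d, e⟩

theorem mem_allV (v : V5) : v ∈ allV := by
  obtain ⟨a, b, c, d, e⟩ := v
  simp only [allV, List.mem_flatMap, List.mem_map]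
  exact ⟨a, by cases a <;> decide, b, by cases b <;> decide, c, by cases c <;> decide, d, by cases d <;> decide,
    e, by cases e <;> decide, rfl⟩

theorem gram_data : cC.gram cG = cG ∧ cY.gram cG = cG ∧ cT.gram cG = cG ∧ cU.gram cG = cG := by decide +kernel

theorem order_data : cC.pow 11 = one5 ∧ cY.pow 5 = one5 ∧ cT.mul cT = one5 ∧ cU.mul cU = one5 := by decide +kernel

theorem not_commute_data : ((cT.mul cC).mul cT).mul cC ≠ cC.mul ((cT.mul cC).mul cT) := by decide +kernel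

theorem conj_data : cY.mul cC = (cC.pow 4).mul cY := by decide +kernel

theorem stable_data : ∀ s ∈ cS, cC.mulV s ∈ cS ∧ cY.mulV s ∈ cS ∧ cT.mulV s ∈ cS := by decide +kernel

theorem moved_data : ∃ s ∈ cS, cU.mulV s ∉ cS := by decide +kernel

/-- Check of one Gram sequence. -/
def seqCheck (s : V5) : Bool :=
  (s.a.conj != s.a) || (s == ⟨.o, .o, .o, .o, .o⟩) || (cC.gram (toep s) != toep s) || ((kry (norm5 s)).gram (toep s) == cG)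

theorem seq_data : allV.all seqCheck = true := by decide +kernel

/-- Check of one commuting isometry. -/
def centCheck (u : V5) : Bool :=
  ((kry u).gram cG != cG) || (List.range 11).any fun j =>
    let p := (cC.pow j).mulV e0
    u == p || u == p.smul .w || u == p.smul .z

theorem cent_data : allV.all centCheck = true := by decide +kernel

/-- The value of the minimal polynomial at a power of the companion matrix, applied to the first basis vector. -/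
def minpolyAt (j : ℕ) : V5 :=
  let p := fun k => (cC.pow ((j * k) % 11)).mulV e0
  V5.vadd (V5.vadd (V5.vadd (V5.vadd (V5.vadd (p 0) (V5.smul .w (p 1))) (p 2)) (p 3)) (V5.smul .z (p 4))) (p 5)

theorem root_data : ∀ j < 11, minpolyAt j = ⟨.o, .o, .o, .o, .o⟩ → j = 1 ∨ j = 3 ∨ j = 4 ∨ j = 5 ∨ j = 9 := by
  decide +kernel

end Cfsg.Agent.Aschbacher.SU52
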