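import Cfsg.Agent.Aschbacher.UnitaryPrime
import Cfsg.Agent.Aschbacher.SU52Model

/-!
The normaliser of a degree five field is not maximal in SU(5,2).
-/

set_option autoImplicit false
set_option linter.unusedSectionVars false
set_option linter.style.haveILetI false
set_option maxHeartbeats 800000

namespace Cfsg.Agent.Aschbacher

open scoped MatrixGroups Matrix
open Module SU52

variable {F : Type*} [Field F]

namespace SU52

/-- Interpretation of the four symbols. -/
def val (ω : F) : Q4 → F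
  | .o => 0
  | .i => 1
  | .w => ω
  | .z => ω + 1

/-- Interpretation of a vector. -/
def vecVal (ω : F) (v : V5) : Fin 5 → F := ![val ω v.a, val ω v.b, val ω v.c, val ω v.d, val ω v.e]

/-- Interpretation of a matrix. -/
def matVal (ω : F) (A : M5) : Matrix (Fin 5) (Fin 5) F :=
  Matrix.of ![vecVal ω A.a, vecVal ω A.b, vecVal ω A.c, vecVal ω A.d, vecVal ω A.e]

variable {ω : F}

theorem val_add [CharP F 2] (x y : Q4) : val ω (x + y) = val ω x + val ω y := by
  have h2 : (2 : F) = 0 := CharTwo.two_eq_zero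
  cases x <;> cases y <;> show val ω (Q4.add _ _) = _ <;> simp only [Q4.add, val] <;> grind

theorem val_mul [CharP F 2] (hω : ω ^ 2 + ω + 1 = 0) (x y : Q4) : val ω (x * y) = val ω x * val ω y := by
  have h2 : (2 : F) = 0 := CharTwo.two_eq_zero
  cases x <;> cases y <;> show val ω (Q4.mul _ _) = _ <;> simp only [Q4.mul, val] <;> grind

theorem val_conj [CharP F 2] (hω : ω ^ 2 + ω + 1 = 0) (x : Q4) : val ω x.conj = val ω x ^ 2 := by
  have h2 : (2 : F) = 0 := CharTwo.two_eq_zero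
  cases x <;> simp only [Q4.conj, val] <;> grind

theorem val_inj [CharP F 2] (hω : ω ^ 2 + ω + 1 = 0) : Function.Injective (val ω) := by
  have h2 : (2 : F) = 0 := CharTwo.two_eq_zero
  have h0 : ω ≠ 0 := fun h => by simp [h] at hω
  have h1 : ω ≠ 1 := fun h => by subst h; grind
  intro x y h
  cases x <;> cases y <;> simp only [val] at h <;> first | rfl | (exfalso; grind)

theorem val_surj [CharP F 2] [Fintype F] (hF : Fintype.card F = 4) (hω : ω ^ 2 + ω + 1 = 0) :
    Function.Surjective (val ω) :=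
  ((Fintype.bijective_iff_injective_and_card _).mpr ⟨val_inj hω, by rw [hF]; rfl⟩).2

theorem vecVal_inj [CharP F 2] (hω : ω ^ 2 + ω + 1 = 0) : Function.Injective (vecVal ω) := by
  intro u v h
  obtain ⟨a, b, c, d, e⟩ := u
  obtain ⟨a', b', c', d', e'⟩ := v
  have hi := val_inj hω
  have h0 := hi (congrFun h 0); have h1 := hi (congrFun h 1); have h2 := hi (congrFun h 2)
  have h3 := hi (congrFun h 3); have h4 := hi (congrFun h 4)
  simp_all

theorem matVal_inj [CharP F 2] (hω : ω ^ 2 + ω + 1 = 0) : Function.Injective (matVal ω) := by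
  intro A B h
  obtain ⟨a, b, c, d, e⟩ := A
  obtain ⟨a', b', c', d', e'⟩ := B
  have hi := vecVal_inj hω
  have h0 := hi (congrFun h 0); have h1 := hi (congrFun h 1); have h2 := hi (congrFun h 2)
  have h3 := hi (congrFun h 3); have h4 := hi (congrFun h 4)
  simp_all

theorem val_dot [CharP F 2] (hω : ω ^ 2 + ω + 1 = 0) (r v : V5) :
    val ω (r.dot v) = vecVal ω r ⬝ᵥ vecVal ω v := by
  simp [V5.dot, val_add, val_mul hω, dotProduct, Fin.sum_univ_five, vecVal]

theorem vecVal_mulV [CharP F 2] (hω : ω ^ 2 + ω + 1 = 0) (A : M5) (v : V5) :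
    vecVal ω (A.mulV v) = matVal ω A *ᵥ vecVal ω v := by
  funext i
  fin_cases i <;> simp [M5.mulV, vecVal, matVal, Matrix.mulVec, val_dot hω]

theorem vecVal_smul [CharP F 2] (hω : ω ^ 2 + ω + 1 = 0) (s : Q4) (v : V5) :
    vecVal ω (v.smul s) = val ω s • vecVal ω v := by
  funext i
  fin_cases i <;> simp [V5.smul, vecVal, val_mul hω]

theorem matVal_tr (A : M5) : matVal ω A.tr = (matVal ω A)ᵀ := by
  ext i j
  fin_cases i <;> fin_cases j <;> rfl

theorem matVal_conj [CharP F 2] (hω : ω ^ 2 + ω + 1 = 0) {σ : F →+* F} (hσ : ∀ a, σ a = a ^ 2) (A : M5) :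
    matVal ω A.conj = (matVal ω A).map σ := by
  ext i j
  fin_cases i <;> fin_cases j <;> simp [M5.conj, V5.conj, matVal, vecVal, hσ, val_conj hω]

theorem matVal_mul [CharP F 2] (hω : ω ^ 2 + ω + 1 = 0) (A B : M5) :
    matVal ω (A.mul B) = matVal ω A * matVal ω B := by
  have h : ∀ r, vecVal ω (B.tr.mulV r) = Matrix.vecMul (vecVal ω r) (matVal ω B) := fun r => by
    rw [vecVal_mulV hω, matVal_tr, Matrix.mulVec_transpose]
  ext i j
  rw [Matrix.mul_apply_eq_vecMul]
  fin_cases i <;> exact congrFun (h _) j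

theorem matVal_one : matVal ω one5 = 1 := by
  ext i j
  fin_cases i <;> fin_cases j <;> simp [matVal, vecVal, one5, val]

theorem matVal_pow [CharP F 2] (hω : ω ^ 2 + ω + 1 = 0) (A : M5) (k : ℕ) :
    matVal ω (A.pow k) = matVal ω A ^ k := by
  induction k with
  | zero => simp [M5.pow, matVal_one]
  | succ k ih => simp [M5.pow, matVal_mul hω, ih, pow_succ]

theorem matVal_gram [CharP F 2] (hω : ω ^ 2 + ω + 1 = 0) {σ : F →+* F} (hσ : ∀ a, σ a = a ^ 2) (A G : M5) :
    matVal ω (A.gram G) = (matVal ω A)ᵀ * matVal ω G * (matVal ω A).map σ := by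
  simp [M5.gram, matVal_mul hω, matVal_tr, matVal_conj hω hσ]

theorem vecVal_e0 : vecVal ω e0 = Pi.single 0 1 := by
  funext i
  fin_cases i <;> simp [vecVal, e0, val]

theorem vecVal_vadd [CharP F 2] (x y : V5) :
    vecVal ω (x.vadd y) = vecVal ω x + vecVal ω y := by
  funext i
  fin_cases i <;> simp [vecVal, V5.vadd, val_add]

theorem kry_col [CharP F 2] (hω : ω ^ 2 + ω + 1 = 0) (u : V5) (j : Fin 5) :
    matVal ω (kry u) *ᵥ Pi.single j 1 = matVal ω cC ^ (j : ℕ) *ᵥ vecVal ω u := by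
  have e1 : ∀ k, matVal ω cC ^ (k + 1) *ᵥ vecVal ω u = matVal ω cC *ᵥ (matVal ω cC ^ k *ᵥ vecVal ω u) :=
    fun k => by rw [Matrix.mulVec_mulVec, pow_succ']
  fin_cases j <;> (rw [Matrix.mulVec_single_one]; funext i; simp only [e1, pow_zero, Matrix.one_mulVec,
    ← vecVal_mulV hω]; fin_cases i <;> rfl)

theorem exists_omega [Fintype F] (hF : Fintype.card F = 4) : ∃ ω : F, ω ^ 2 + ω + 1 = 0 := by
  classical
  obtain ⟨g, hg⟩ := IsCyclic.exists_generator (α := Fˣ)
  have ho : orderOf g = 3 := by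
    rw [orderOf_eq_card_of_forall_mem_zpowers hg, Nat.card_eq_fintype_card, Fintype.card_units, hF]
  refine ⟨(g : F), ?_⟩
  have h1 : (g : F) ≠ 1 := fun h => by
    rw [Units.val_eq_one] at h
    rw [h, orderOf_one] at ho
    omega
  have h3 : (g : F) ^ 3 = 1 := by rw [← Units.val_pow_eq_pow_val, ← ho, pow_orderOf_eq_one, Units.val_one]
  have : ((g : F) - 1) * ((g : F) ^ 2 + (g : F) + 1) = 0 := by linear_combination h3
  exact (mul_eq_zero.mp this).resolve_left (sub_ne_zero.mpr h1)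

/-- The minimal polynomial of the chosen element of order eleven. -/
def pf {R : Type*} [Semiring R] (a b : R) (x : R) : R := 1 + a * x + x ^ 2 + x ^ 3 + b * x ^ 4 + x ^ 5

theorem pf_prod {R : Type*} [CommRing R] (a x : R)
    (hgeom : 1 + x + x ^ 2 + x ^ 3 + x ^ 4 + x ^ 5 + x ^ 6 + x ^ 7 + x ^ 8 + x ^ 9 + x ^ 10 = 0)
    (hw : a ^ 2 + a + 1 = 0) (h2 : (2 : R) = 0) : pf a (a + 1) x * pf (a + 1) (a + 1 + 1) x = 0 := by
  simp only [pf]
  linear_combination hgeom + ((1) * a ^ 0 * x ^ 2 + (2) * a ^ 0 * x ^ 5 + (1) * a ^ 0 * x ^ 8) * hw + ((1) * a ^ 0 * x ^ 3 + (2) * a ^ 0 * x ^ 4 + (1) * a ^ 0 * x ^ 5 + (2) * a ^ 0 * x ^ 6 + (2) * a ^ 0 * x ^ 7 + (1) * a ^ 0 * x ^ 8 + (1) * a ^ 0 * x ^ 9 + (1) * a ^ 1 * x ^ 1 + (1) * a ^ 1 * x ^ 3 + (2) * a ^ 1 * x ^ 4 + (1) * a ^ 1 * x ^ 5 + (2) * a ^ 1 * x ^ 6 + (1) * a ^ 1 * x ^ 7 + (1) * a ^ 1 * x ^ 8 + (1) * a ^ 1 * x ^ 9) * h2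

theorem pf_conj {R : Type*} [CommRing R] (a x : R) (hroot : pf a (a + 1) x = 0)
    (hconj : pf (a ^ 2) ((a + 1) ^ 2) x = 0) (hw : a ^ 2 + a + 1 = 0) (h2 : (2 : R) = 0) :
    x * (x ^ 3 - 1) = 0 := by
  simp only [pf] at hroot hconj
  linear_combination hroot + hconj - (1 + x ^ 2 + x ^ 3 + x ^ 5 + a * x ^ 4) * h2 - (x + x ^ 4) * hw

end SU52

open SU52

variable [Fintype F]

theorem char_two_of_card_four (hF : Fintype.card F = 4) : CharP F 2 :=
  ringChar.of_eq (FiniteField.even_card_iff_char_two.mpr (by rw [hF]))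

/-- The element of order eleven, in an abstract degree five extension. -/
theorem su52_element (hF : Fintype.card F = 4) (E : Type*) [Field E] [Algebra F E] [Finite E]
    (hr : finrank F E = 5) : ∃ (ω : F) (x₀ : E), ω ^ 2 + ω + 1 = 0 ∧ IsPrimitiveRoot x₀ 11 ∧
      pf (algebraMap F E ω) (algebraMap F E (ω + 1)) x₀ = 0 ∧
      (pf (algebraMap F E (ω ^ 2)) (algebraMap F E ((ω + 1) ^ 2)) x₀ = 0 → False) ∧
      LinearIndependent F fun i : Fin 5 => x₀ ^ (i : ℕ) := by
  classical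
  haveI := char_two_of_card_four hF
  haveI : FiniteDimensional F E := Module.Finite.of_finite
  haveI : Finite F := Finite.of_fintype F
  haveI : Fintype E := Fintype.ofFinite E
  have hcardK : Fintype.card E = 4 ^ 5 := by
    rw [Module.card_eq_pow_finrank (K := F) (V := E), hF, hr]
  obtain ⟨g, hg⟩ := IsCyclic.exists_generator (α := Eˣ)
  have hog : orderOf g = 1023 := by
    rw [orderOf_eq_card_of_forall_mem_zpowers hg, Nat.card_eq_fintype_card, Fintype.card_units, hcardK]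
    norm_num
  set x₀ : E := ((g ^ 93 : Eˣ) : E) with hx₀
  have hox : orderOf x₀ = 11 := by
    rw [hx₀, orderOf_units, orderOf_pow' _ (by norm_num), hog]
    norm_num
  have hprim : IsPrimitiveRoot x₀ 11 := hox ▸ IsPrimitiveRoot.orderOf x₀
  have hx1 : x₀ ^ 11 = 1 := hprim.pow_eq_one
  obtain ⟨ω₀, hω₀⟩ := exists_omega hF
  have h2 : (2 : E) = 0 := by
    rw [← map_ofNat (algebraMap F E) 2, CharTwo.two_eq_zero, map_zero]
  have hgeom : 1 + x₀ + x₀ ^ 2 + x₀ ^ 3 + x₀ ^ 4 + x₀ ^ 5 + x₀ ^ 6 + x₀ ^ 7 + x₀ ^ 8 + x₀ ^ 9 + x₀ ^ 10 = 0 := by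
    have := hprim.geom_sum_eq_zero (by norm_num)
    simpa [Finset.sum_range_succ] using this
  obtain ⟨ω, hω, hroot⟩ : ∃ ω : F, ω ^ 2 + ω + 1 = 0 ∧ pf (algebraMap F E ω) (algebraMap F E (ω + 1)) x₀ = 0 := by
    have hw : (algebraMap F E ω₀) ^ 2 + algebraMap F E ω₀ + 1 = 0 := by
      simpa using congrArg (algebraMap F E) hω₀
    have hprod : pf (algebraMap F E ω₀) (algebraMap F E (ω₀ + 1)) x₀ *
        pf (algebraMap F E (ω₀ + 1)) (algebraMap F E (ω₀ + 1 + 1)) x₀ = 0 := by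
      simp only [map_add, map_one]
      exact pf_prod _ _ hgeom hw h2
    rcases mul_eq_zero.mp hprod with h | h
    · exact ⟨ω₀, hω₀, h⟩
    · exact ⟨ω₀ + 1, by have h2' : (2 : F) = 0 := CharTwo.two_eq_zero; grind, h⟩
  refine ⟨ω, x₀, hω, hprim, hroot, fun hconj => ?_, ?_⟩
  · rw [map_pow, map_pow, map_add, map_one] at hconj
    rw [map_add, map_one] at hroot
    have hw : (algebraMap F E ω) ^ 2 + algebraMap F E ω + 1 = 0 := by simpa using congrArg (algebraMap F E) hω
    have h5 : x₀ * (x₀ ^ 3 - 1) = 0 := pf_conj _ _ hroot hconj hw h2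
    have h4 := sub_eq_zero.mp ((mul_eq_zero.mp h5).resolve_left (hprim.ne_zero (by norm_num)))
    have := Nat.le_of_dvd (by norm_num) (hprim.dvd_of_pow_eq_one 3 h4)
    omega
  · have hdeg : (minpoly F x₀).natDegree ∣ 5 := hr ▸ minpoly.degree_dvd (IsIntegral.of_finite F x₀)
    have hdeg1 : (minpoly F x₀).natDegree ≠ 1 := by
      intro h1
      obtain ⟨a, ha⟩ := minpoly.natDegree_eq_one_iff.mp h1
      have ha11 : a ^ 11 = 1 := (algebraMap F E).injective (by rw [map_pow, ha, hx1, map_one])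
      have ha0 : a ≠ 0 := fun h0 => by simp [h0] at ha11
      have ha3 : a ^ 3 = 1 := by
        have := FiniteField.pow_card_sub_one_eq_one a ha0
        rwa [hF] at this
      have hx3 : x₀ ^ 3 = 1 := by rw [← ha, ← map_pow, ha3, map_one]
      have := Nat.le_of_dvd (by norm_num) (hprim.dvd_of_pow_eq_one 3 hx3)
      omega
    have hdeg5 : (minpoly F x₀).natDegree = 5 := ((Nat.dvd_prime (by norm_num)).mp hdeg).resolve_left hdeg1
    have hli := linearIndependent_pow (K := F) x₀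
    rw [hdeg5] at hli
    exact hli

/-- An element of order eleven of a degree five field, with its minimal polynomial and coordinates. -/
theorem su52_coords (hF : Fintype.card F = 4) {σ : F →+* F} (hσ : IsConj 2 σ)
    {K : Subalgebra F (Matrix (Fin 5) (Fin 5) F)} (hK : Geo.IsFieldSubalgebra 5 K)
    (hadj : Geo.IsAdjointClosedFor (hermForm 5 F 2) K) :
    ∃ (ω : F) (x : Matrix (Fin 5) (Fin 5) F), ω ^ 2 + ω + 1 = 0 ∧ x ∈ K ∧ x ^ 11 = 1 ∧ x ≠ 1 ∧
      pf (ω • (1 : Matrix (Fin 5) (Fin 5) F)) ((ω + 1) • (1 : Matrix (Fin 5) (Fin 5) F)) x = 0 ∧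
      (∀ u v, hermForm 5 F 2 (x *ᵥ u) (x *ᵥ v) = hermForm 5 F 2 u v) ∧
      (∀ y ∈ K, y ^ 11 = 1 → ∃ j < 11, y = x ^ j) ∧
      ∀ v : Fin 5 → F, v ≠ 0 → LinearIndependent F (fun j : Fin 5 => (x ^ (j : ℕ)) *ᵥ v) := by
  classical
  haveI := char_two_of_card_four hF
  haveI : Nontrivial K := ⟨⟨0, 1, fun h => zero_ne_one (congrArg (fun k : K => (k : Matrix (Fin 5) (Fin 5) F)) h)⟩⟩
  letI : CommRing K := { (inferInstance : Ring K) with mul_comm := fun a b => Subtype.ext (hK.comm a a.2 b b.2) }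
  letI : Field K := IsField.toField
    { exists_pair_ne := exists_pair_ne K
      mul_comm := mul_comm
      mul_inv_cancel := fun {a} ha => by
        obtain ⟨y, hy, h⟩ := hK.inv a a.2 (fun h => ha (Subtype.ext h))
        exact ⟨⟨y, hy⟩, Subtype.ext h⟩ }
  haveI : Finite F := Finite.of_fintype F
  obtain ⟨ω, x₀, hω, hprim, hroot, hconjF, hli₀⟩ := su52_element hF K hK.finrank_eq
  have hx1 : x₀ ^ 11 = 1 := hprim.pow_eq_one
  set x : Matrix (Fin 5) (Fin 5) F := (x₀ : Matrix (Fin 5) (Fin 5) F) with hx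
  have hxK : x ∈ K := x₀.2
  have hxp : ∀ k : ℕ, x ^ k = ((x₀ ^ k : K) : Matrix (Fin 5) (Fin 5) F) := fun k => by simp [hx]
  have hx11 : x ^ 11 = 1 := by rw [hxp, hx1]; rfl
  have hroots : ∀ y ∈ K, y ^ 11 = 1 → ∃ j < 11, y = x ^ j := by
    intro y hy hy1
    obtain ⟨j, hj, hjy⟩ := hprim.eq_pow_of_pow_eq_one (ξ := (⟨y, hy⟩ : K)) (Subtype.ext (by simpa using hy1))
    exact ⟨j, hj, by rw [hxp, hjy]⟩
  have h := hσ.herm (n := 5)
  obtain ⟨x', hx'K, hx'⟩ := hadj x hxK
  have hext : ∀ A B : Matrix (Fin 5) (Fin 5) F,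
      (∀ u v, hermForm 5 F 2 u (A *ᵥ v) = hermForm 5 F 2 u (B *ᵥ v)) → A = B := by
    intro A B hAB
    refine ext_of_span (Submodule.span_univ) fun v _ => ?_
    by_contra hne
    obtain ⟨u, hu⟩ := (h.nondegenerate _ (sub_ne_zero.mpr hne)).1
    refine hu ?_
    rw [sub_eq_add_neg, ← neg_one_smul F, h.add_right, h.smul_right, hAB u v]
    simp
  have hadjp : ∀ (k : ℕ) u v, hermForm 5 F 2 (x ^ k *ᵥ u) v = hermForm 5 F 2 u (x' ^ k *ᵥ v) := by
    intro k
    induction k with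
    | zero => simp
    | succ k ih =>
      intro u v
      rw [pow_succ', ← Matrix.mulVec_mulVec, hx', ih, Matrix.mulVec_mulVec, ← pow_succ]
  have hx'11 : x' ^ 11 = 1 := hext _ _ fun u v => by
    rw [← hadjp, hx11, Matrix.one_mulVec, Matrix.one_mulVec]
  obtain ⟨j, hj, hjx⟩ := hroots x' hx'K hx'11
  have hjj : x ^ (j * j) = x := hext _ _ fun u v => by
    rw [h.herm u (x *ᵥ v), hx' v u, ← h.herm, hjx, hadjp, hjx, ← pow_mul]
  have hj' : x₀ ^ ((j * j) % 11) = x₀ ^ 1 :=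
    Subtype.ext (by rw [← hxp, ← pow_eq_pow_mod _ hx11, hjj, ← hxp, pow_one])
  have hj10 : j = 10 := by
    have h1 : (j * j) % 11 = 1 := by
      exact hprim.pow_inj (Nat.mod_lt _ (by norm_num)) (by norm_num) hj'
    have h2' : j = 1 ∨ j = 10 := by interval_cases j <;> first | omega | simp at h1
    refine h2'.resolve_left ?_
    intro hj1
    rw [hj1, pow_one] at hjx
    -- a self-adjoint element is also a root of the conjugate polynomial
    have hsa : ∀ (k : ℕ) u v, hermForm 5 F 2 (x ^ k *ᵥ u) v = hermForm 5 F 2 u (x ^ k *ᵥ v) := fun k u v => by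
      rw [hadjp, hjx]
    have hconj : pf (algebraMap F K (σ ω)) (algebraMap F K (σ (ω + 1))) x₀ = 0 := by
      have hz : pf (ω • (1 : Matrix (Fin 5) (Fin 5) F)) ((ω + 1) • (1 : Matrix (Fin 5) (Fin 5) F)) x = 0 := by
        have := congrArg (fun k : K => (k : Matrix (Fin 5) (Fin 5) F)) hroot
        simpa [pf, hx, Algebra.algebraMap_eq_smul_one, add_smul] using this
      have : pf ((σ ω) • (1 : Matrix (Fin 5) (Fin 5) F)) ((σ (ω + 1)) • (1 : Matrix (Fin 5) (Fin 5) F)) x =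
          (0 : Matrix (Fin 5) (Fin 5) F) := hext _ _ fun u v => by
        have h0 := congrArg (fun A : Matrix (Fin 5) (Fin 5) F => hermForm 5 F 2 (A *ᵥ u) v) hz
        simp only [pf, Matrix.add_mulVec, Matrix.one_mulVec, Matrix.zero_mulVec, Matrix.smul_mul, one_mul,
          Matrix.smul_mulVec, h.add_left, h.smul_left, h.zero_left] at h0
        simp only [pf, Matrix.add_mulVec, Matrix.one_mulVec, Matrix.zero_mulVec, Matrix.smul_mul, one_mul,
          Matrix.smul_mulVec, h.add_right, h.smul_right, h.zero_right, hσ.invol, ← hsa]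
        have e1 : hermForm 5 F 2 u (x *ᵥ v) = hermForm 5 F 2 (x *ᵥ u) v := by simpa using (hsa 1 u v).symm
        rw [e1]
        exact h0
      apply Subtype.ext
      simpa [pf, hx, Algebra.algebraMap_eq_smul_one, add_smul] using this
    exact hconjF (by rwa [← hσ.apply, ← hσ.apply])
  refine ⟨ω, x, hω, hxK, hx11, ?_, ?_, ?_, hroots, ?_⟩
  · intro h1
    have : x₀ = 1 := Subtype.ext h1
    exact hprim.ne_one (by norm_num) this
  · have := congrArg (fun k : K => (k : Matrix (Fin 5) (Fin 5) F)) hroot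
    simpa [pf, hx, Algebra.algebraMap_eq_smul_one, add_smul] using this
  · intro u v
    rw [hx', hjx, hj10, Matrix.mulVec_mulVec, ← pow_succ, hx11, Matrix.one_mulVec]
  · intro v hv
    let L : K →ₗ[F] (Fin 5 → F) :=
      { toFun := fun k => (k : Matrix (Fin 5) (Fin 5) F) *ᵥ v
        map_add' := fun a b => by simp [Matrix.add_mulVec]
        map_smul' := fun c a => by simp [Matrix.smul_mulVec] }
    have hL : LinearMap.ker L = ⊥ := by
      refine LinearMap.ker_eq_bot'.mpr fun k hk => ?_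
      by_contra hk0
      obtain ⟨y, -, hy⟩ := hK.inv k k.2 (fun h => hk0 (Subtype.ext h))
      have hy' : y * (k : Matrix (Fin 5) (Fin 5) F) = 1 := mul_eq_one_comm.mp hy
      have := congrArg (fun w => y *ᵥ w) (show (k : Matrix (Fin 5) (Fin 5) F) *ᵥ v = 0 from hk)
      simp [Matrix.mulVec_mulVec, hy', hv] at this
    have hli := hli₀.map' L hL
    have e : (fun j : Fin 5 => x ^ (j : ℕ) *ᵥ v) = L ∘ fun i : Fin 5 => x₀ ^ (i : ℕ) :=
      funext fun k => by simp [L, hxp]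
    exact e.symm ▸ hli

/-- Coordinates with the standard Gram matrix. -/
theorem su52_normalise (hF : Fintype.card F = 4) {σ : F →+* F} (hσ : IsConj 2 σ) {ω : F} (hω : ω ^ 2 + ω + 1 = 0)
    {x : Matrix (Fin 5) (Fin 5) F}
    (hroot : pf (ω • (1 : Matrix (Fin 5) (Fin 5) F)) ((ω + 1) • (1 : Matrix (Fin 5) (Fin 5) F)) x = 0)
    (hiso : ∀ u v, hermForm 5 F 2 (x *ᵥ u) (x *ᵥ v) = hermForm 5 F 2 u v)
    (hli : ∀ v : Fin 5 → F, v ≠ 0 → LinearIndependent F (fun j : Fin 5 => (x ^ (j : ℕ)) *ᵥ v)) :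
    ∃ B : GL (Fin 5) F, (B : Matrix (Fin 5) (Fin 5) F) * x = matVal ω cC * B ∧
      ∀ u v, hermForm 5 F 2 u v = ((B : Matrix (Fin 5) (Fin 5) F) *ᵥ u) ⬝ᵥ
        (matVal ω cG *ᵥ fun i => σ (((B : Matrix (Fin 5) (Fin 5) F) *ᵥ v) i)) := by
  classical
  haveI := char_two_of_card_four hF
  have hσ2 : ∀ a, σ a = a ^ 2 := hσ.apply
  have h := hσ.herm (n := 5)
  have hs : ∀ (k i j : ℕ) v, hermForm 5 F 2 (x ^ (k + i) *ᵥ v) (x ^ (k + j) *ᵥ v) =
      hermForm 5 F 2 (x ^ i *ᵥ v) (x ^ j *ᵥ v) := by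
    intro k i j v
    induction k with
    | zero => simp
    | succ k ih =>
      rw [show k + 1 + i = (k + i) + 1 by ring, show k + 1 + j = (k + j) + 1 by ring, pow_succ', pow_succ',
        ← Matrix.mulVec_mulVec, ← Matrix.mulVec_mulVec, hiso, ih]
  have coords : ∀ v : Fin 5 → F, v ≠ 0 → ∃ (b : Module.Basis (Fin 5) F (Fin 5 → F)) (s : V5),
      (∀ j : Fin 5, b j = (x ^ (j : ℕ)) *ᵥ v) ∧
      (coordGL b : Matrix (Fin 5) (Fin 5) F) * x = matVal ω cC * coordGL b ∧
      IsGram σ (fun u w => hermForm 5 F 2 (((coordGL b)⁻¹ : GL (Fin 5) F).val *ᵥ u)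
        (((coordGL b)⁻¹ : GL (Fin 5) F).val *ᵥ w)) (matVal ω (toep s)) ∧ seqCheck s = true := by
    intro v hv
    let b : Module.Basis (Fin 5) F (Fin 5 → F) :=
      basisOfLinearIndependentOfCardEqFinrank (hli v hv) (by simp)
    have hb : ∀ j : Fin 5, b j = (x ^ (j : ℕ)) *ᵥ v := fun j => by simp [b]
    have hBb : ∀ j, (coordGL b : Matrix (Fin 5) (Fin 5) F) *ᵥ b j = Pi.single j 1 := fun j => by
      rw [coordGL_mulVec]
      funext k
      simp [Module.Basis.equivFun_apply, Finsupp.single_apply, Pi.single_apply, eq_comm]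
    have hC : (coordGL b : Matrix (Fin 5) (Fin 5) F) * x = matVal ω cC * coordGL b := by
      refine ext_of_span b.span_eq ?_
      rintro _ ⟨j, rfl⟩
      have hBp : ∀ (k : ℕ) (hk : k < 5), (coordGL b : Matrix (Fin 5) (Fin 5) F) *ᵥ (x ^ k *ᵥ v) =
          Pi.single ⟨k, hk⟩ 1 := fun k hk => by rw [← hBb ⟨k, hk⟩, hb]
      rw [← Matrix.mulVec_mulVec, ← Matrix.mulVec_mulVec, hBb, hb, Matrix.mulVec_mulVec v x, ← pow_succ',
        Matrix.mulVec_single_one]
      by_cases hj : (j : ℕ) + 1 < 5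
      · rw [hBp _ hj]
        funext i
        revert hj
        fin_cases j <;> intro hj <;> first
          | (norm_num at hj; done)
          | (fin_cases i <;> simp [matVal, vecVal, cC, val, Pi.single_apply])
      · have hj4 : j = 4 := Fin.ext (by have := j.2; show (j : ℕ) = 4; omega)
        subst hj4
        have h5 : x ^ 5 *ᵥ v = v + ω • (x ^ 1 *ᵥ v) + x ^ 2 *ᵥ v + x ^ 3 *ᵥ v + (ω + 1) • (x ^ 4 *ᵥ v) := by
          have h0 := congrArg (fun A : Matrix (Fin 5) (Fin 5) F => A *ᵥ v) hroot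
          simp only [pf, Matrix.add_mulVec, Matrix.one_mulVec, Matrix.smul_mul, one_mul, Matrix.smul_mulVec,
            Matrix.zero_mulVec] at h0
          rw [pow_one]
          have hneg : ∀ w : Fin 5 → F, -w = w := fun w => funext fun i => CharTwo.neg_eq _
          rw [← hneg (v + _ + _ + _ + _)]
          exact eq_neg_of_add_eq_zero_right h0
        show (coordGL b : Matrix (Fin 5) (Fin 5) F) *ᵥ (x ^ 5 *ᵥ v) = _
        rw [h5]
        simp only [Matrix.mulVec_add, Matrix.mulVec_smul, hBp _ (show 1 < 5 by norm_num), hBp _ (show 2 < 5 by norm_num),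
          hBp _ (show 3 < 5 by norm_num), hBp _ (show 4 < 5 by norm_num)]
        have hv0 := hBp 0 (by norm_num)
        rw [pow_zero, Matrix.one_mulVec] at hv0
        rw [hv0]
        funext i
        fin_cases i <;> simp [matVal, vecVal, cC, val, Pi.single_apply]
    have hcols : ∀ j, ((coordGL b)⁻¹ : GL (Fin 5) F).val *ᵥ Pi.single j 1 = b j := fun j => by
      rw [← hBb j, inv_mulVec_mulVec]
    obtain ⟨Gm, hGm⟩ : ∃ Gm, IsGram σ (fun u w => hermForm 5 F 2 (((coordGL b)⁻¹ : GL (Fin 5) F).val *ᵥ u)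
        (((coordGL b)⁻¹ : GL (Fin 5) F).val *ᵥ w)) Gm := ⟨_, h.gram.comp _⟩
    have hentry : ∀ i j, Gm i j = hermForm 5 F 2 (x ^ (i : ℕ) *ᵥ v) (x ^ (j : ℕ) *ᵥ v) := fun i j => by
      rw [← hGm.apply_single]; show hermForm 5 F 2 _ _ = _; rw [hcols, hcols, hb, hb]
    choose r hr using fun k : Fin 5 => val_surj hF hω (hermForm 5 F 2 v (x ^ (k : ℕ) *ᵥ v))
    set s : V5 := ⟨r 0, r 1, r 2, r 3, r 4⟩
    have hshift : ∀ i j : ℕ, i ≤ j → hermForm 5 F 2 (x ^ i *ᵥ v) (x ^ j *ᵥ v) = hermForm 5 F 2 v (x ^ (j - i) *ᵥ v) := by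
      intro i j hij
      have := hs i 0 (j - i) v
      simpa [Nat.add_sub_cancel' hij] using this
    have hs1 : ∀ (i j : Fin 5) (k : Fin 5), (i : ℕ) ≤ j → (k : ℕ) = j - i → Gm i j = val ω (r k) := fun i j k h1 h2 => by
      rw [hentry, hshift i j h1, hr, h2]
    have hs2 : ∀ (i j : Fin 5) (k : Fin 5), (j : ℕ) ≤ i → (k : ℕ) = i - j → Gm i j = val ω (r k).conj := fun i j k h1 h2 => by
      rw [hentry, h.herm, hshift j i h1, val_conj hω, ← hσ2, hr, h2]
    have hGeq : Gm = matVal ω (toep s) := by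
      ext i j
      fin_cases i <;> fin_cases j
      all_goals
        first
          | exact hs1 _ _ 0 (by decide) (by decide)
          | exact hs1 _ _ 1 (by decide) (by decide)
          | exact hs1 _ _ 2 (by decide) (by decide)
          | exact hs1 _ _ 3 (by decide) (by decide)
          | exact hs1 _ _ 4 (by decide) (by decide)
          | exact hs2 _ _ 1 (by decide) (by decide)
          | exact hs2 _ _ 2 (by decide) (by decide)
          | exact hs2 _ _ 3 (by decide) (by decide)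
          | exact hs2 _ _ 4 (by decide) (by decide)
    refine ⟨b, s, hb, hC, hGeq ▸ hGm, ?_⟩
    have := List.all_eq_true.mp seq_data s (mem_allV s)
    exact this
  obtain ⟨b, s, hb, hC, hgr, hchk⟩ := coords (Pi.single 0 1) (by simp)
  set B := coordGL b
  have hu := gram_isUnit hgr (fun u hu0 => by
    obtain ⟨⟨p, hp⟩, ⟨r, hr⟩⟩ := h.nondegenerate _ (fun h0 => hu0 (mulVec_gl_inj B⁻¹ (by simpa using h0)))
    exact ⟨⟨(B : Matrix (Fin 5) (Fin 5) F) *ᵥ p, by simpa [inv_mulVec_mulVec] using hp⟩,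
      ⟨(B : Matrix (Fin 5) (Fin 5) F) *ᵥ r, by simpa [inv_mulVec_mulVec] using hr⟩⟩)
  have hfa : s.a.conj = s.a := val_inj hω (by
    have h00 := hgr.apply_single 0 0
    have h01 : (matVal ω (toep s)) 0 0 = val ω s.a := rfl
    rw [h01] at h00
    rw [val_conj hω, ← hσ2, ← h00]
    exact (h.herm _ _).symm)
  have hne : s ≠ ⟨.o, .o, .o, .o, .o⟩ := by
    rintro rfl
    refine not_isUnit_zero (M₀ := Matrix (Fin 5) (Fin 5) F) ?_
    rwa [show matVal ω (toep ⟨.o, .o, .o, .o, .o⟩) = 0 from Matrix.ext fun i j => by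
      fin_cases i <;> fin_cases j <;> rfl] at hu
  have hinv : cC.gram (toep s) = toep s := by
    apply matVal_inj hω
    rw [matVal_gram hω hσ2]
    refine (preserves_iff_gram hgr _).mp fun u v => ?_
    have e : ∀ w, ((B⁻¹ : GL (Fin 5) F) : Matrix (Fin 5) (Fin 5) F) *ᵥ (matVal ω cC *ᵥ w) =
        x *ᵥ (((B⁻¹ : GL (Fin 5) F) : Matrix (Fin 5) (Fin 5) F) *ᵥ w) := by
      intro w
      refine mulVec_gl_inj B ?_
      show (B : Matrix (Fin 5) (Fin 5) F) *ᵥ _ = (B : Matrix (Fin 5) (Fin 5) F) *ᵥ _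
      rw [mulVec_inv_mulVec, Matrix.mulVec_mulVec _ (B : Matrix (Fin 5) (Fin 5) F) x, hC, ← Matrix.mulVec_mulVec,
        mulVec_inv_mulVec]
    show hermForm 5 F 2 _ _ = hermForm 5 F 2 _ _
    rw [e, e, hiso]
  have hk : (kry (norm5 s)).gram (toep s) = cG := by
    simpa [seqCheck, hfa, hne, hinv] using hchk
  set w : Fin 5 → F := ((B⁻¹ : GL (Fin 5) F) : Matrix (Fin 5) (Fin 5) F) *ᵥ vecVal ω (norm5 s) with hw
  have hBw : ∀ k : ℕ, (B : Matrix (Fin 5) (Fin 5) F) *ᵥ (x ^ k *ᵥ w) = matVal ω cC ^ k *ᵥ vecVal ω (norm5 s) := by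
    intro k
    induction k with
    | zero => simp [hw, mulVec_inv_mulVec]
    | succ k ih =>
      rw [pow_succ', ← Matrix.mulVec_mulVec, Matrix.mulVec_mulVec _ (B : Matrix (Fin 5) (Fin 5) F) x, hC,
        ← Matrix.mulVec_mulVec, ih, Matrix.mulVec_mulVec, ← pow_succ']
  have hw0 : w ≠ 0 := by
    intro h0
    have h1 : vecVal ω (norm5 s) = 0 := by
      have := hBw 0
      simpa [h0] using this.symm
    have h2 : matVal ω (kry (norm5 s)) = 0 := by
      refine ext_of_span (Pi.basisFun F (Fin 5)).span_eq ?_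
      rintro _ ⟨j, rfl⟩
      rw [Pi.basisFun_apply, kry_col hω, h1, Matrix.mulVec_zero, Matrix.zero_mulVec]
    have h3 : matVal ω cG 0 0 = 0 := by
      rw [← hk, matVal_gram hω hσ2, h2]; simp
    simp [matVal, vecVal, cG, val] at h3
  obtain ⟨b', s', hb', hC', hgr', -⟩ := coords w hw0
  refine ⟨coordGL b', hC', fun u v => ?_⟩
  have hG' : matVal ω (toep s') = matVal ω cG := by
    ext i j
    rw [← hgr'.apply_single, ← hk, matVal_gram hω hσ2]
    have hcols : ∀ j, ((coordGL b')⁻¹ : GL (Fin 5) F).val *ᵥ Pi.single j 1 = x ^ (j : ℕ) *ᵥ w := fun j => by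
      have : (coordGL b' : Matrix (Fin 5) (Fin 5) F) *ᵥ b' j = Pi.single j 1 := by
        rw [coordGL_mulVec]
        funext k
        simp [Module.Basis.equivFun_apply, Finsupp.single_apply, Pi.single_apply, eq_comm]
      rw [← this, inv_mulVec_mulVec, hb']
    rw [← (hgr.comp (matVal ω (kry (norm5 s)))).apply_single]
    show hermForm 5 F 2 _ _ = hermForm 5 F 2 _ _
    rw [hcols, hcols, kry_col hω, kry_col hω, ← hBw, ← hBw, inv_mulVec_mulVec, inv_mulVec_mulVec]
  have := hgr' ((coordGL b' : Matrix (Fin 5) (Fin 5) F) *ᵥ u) ((coordGL b' : Matrix (Fin 5) (Fin 5) F) *ᵥ v)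
  simpa [inv_mulVec_mulVec, hG'] using this

theorem su52_field_not_maximal {F : Type*} [Field F] [Fintype F] (hF : Fintype.card F = 2 ^ 2)
    {K : Subalgebra F (Matrix (Fin 5) (Fin 5) F)} (hK : Geo.IsFieldSubalgebra 5 K)
    (hadj : Geo.IsAdjointClosedFor (hermForm 5 F 2) K)
    (hmax : Geo.IsMaximalIn (GU 5 F 2 ⊓ Geo.specialLinear (Fin 5) F)
      (Geo.subalgebraNormalizer K ⊓ (GU 5 F 2 ⊓ Geo.specialLinear (Fin 5) F))) : False := by
  classical
  have hF4 : Fintype.card F = 4 := hF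
  haveI := char_two_of_card_four hF4
  obtain ⟨σ', -, hσ⟩ := exists_isConj hF
  set σ : F →+* F := (σ' : F →+* F)
  have hσ2 : ∀ a, σ a = a ^ 2 := hσ.apply
  obtain ⟨ω, x, hω, hxK, hx11, hx1, hroot, hiso, hroots, hli⟩ := su52_coords hF4 hσ hK hadj
  obtain ⟨B, hBx, hform⟩ := su52_normalise hF4 hσ hω hroot hiso hli
  set Bm : Matrix (Fin 5) (Fin 5) F := (B : Matrix (Fin 5) (Fin 5) F)
  set Bi : Matrix (Fin 5) (Fin 5) F := ((B⁻¹ : GL (Fin 5) F) : Matrix (Fin 5) (Fin 5) F)
  have hBiB : Bi * Bm = 1 := by simp [Bm, Bi]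
  have hBBi : Bm * Bi = 1 := by simp [Bm, Bi]
  set Cm := matVal ω cC with hCm
  set Gm := matVal ω cG
  have hgramf : IsGram σ (fun u v => hermForm 5 F 2 (Bi *ᵥ u) (Bi *ᵥ v)) Gm := fun u v => by
    show hermForm 5 F 2 _ _ = _
    rw [hform]
    simp [Bm, Bi, mulVec_inv_mulVec]
  have hcube : ∀ d : F, d ≠ 0 → d ^ 3 = 1 := fun d hd => by
    have := FiniteField.pow_card_sub_one_eq_one d hd
    rwa [hF4] at this
  -- lifting model isometries
  have lift : ∀ (A : M5) (k : ℕ), k ∈ [2, 5, 11] → A.gram cG = cG → A.pow k = one5 →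
      ∃ g : GL (Fin 5) F, g ∈ GU 5 F 2 ⊓ Geo.specialLinear (Fin 5) F ∧
        (g : Matrix (Fin 5) (Fin 5) F) = Bi * matVal ω A * Bm := by
    intro A k hk hA hAk
    have hdet : (matVal ω A).det = 1 := by
      have h1 : (matVal ω A).det ^ k = 1 := by
        rw [← Matrix.det_pow, ← matVal_pow hω, hAk, matVal_one, Matrix.det_one]
      have h0 : (matVal ω A).det ≠ 0 := fun h0 => by
        rw [h0, zero_pow (by fin_cases hk <;> norm_num)] at h1
        exact zero_ne_one h1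
      have h3 := hcube _ h0
      have hk3 : Nat.Coprime 3 k := by fin_cases hk <;> decide
      have := pow_gcd_eq_one.mpr ⟨h3, h1⟩
      rwa [Nat.Coprime.gcd_eq_one hk3, pow_one] at this
    have hdet' : (Bi * matVal ω A * Bm).det = 1 := by
      rw [Matrix.det_mul_comm, ← mul_assoc, hBBi, one_mul, hdet]
    refine ⟨Matrix.GeneralLinearGroup.mkOfDetNeZero (Bi * matVal ω A * Bm) (by rw [hdet']; exact one_ne_zero),
      ⟨mem_GU_iff.mpr fun u v => ?_, Units.ext hdet'⟩, rfl⟩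
    show hermForm 5 F 2 ((Bi * matVal ω A * Bm) *ᵥ u) ((Bi * matVal ω A * Bm) *ᵥ v) = _
    have h1 := (preserves_iff_gram hgramf (matVal ω A)).mpr (by rw [← matVal_gram hω hσ2, hA]) (Bm *ᵥ u) (Bm *ᵥ v)
    simp only [Matrix.mulVec_mulVec, hBiB, Matrix.one_mulVec] at h1
    simpa [mul_assoc] using h1
  let S' : Set (Fin 5 → F) := {v | ∃ s ∈ cS, Bm *ᵥ v = vecVal ω s}
  let M : Subgroup (GL (Fin 5) F) := stabilizing (glToMat (Fin 5) F) S' ⊓ (GU 5 F 2 ⊓ Geo.specialLinear (Fin 5) F)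
  -- a model matrix stabilising the list stabilises the set
  have stab : ∀ (g : GL (Fin 5) F) (A : M5), (g : Matrix (Fin 5) (Fin 5) F) = Bi * matVal ω A * Bm →
      (∀ s ∈ cS, A.mulV s ∈ cS) → g ∈ stabilizing (glToMat (Fin 5) F) S' := by
    intro g A hg hA
    have hfwd : ∀ v ∈ S', (g : Matrix (Fin 5) (Fin 5) F) *ᵥ v ∈ S' := by
      rintro v ⟨s, hs, hv⟩
      refine ⟨A.mulV s, hA s hs, ?_⟩
      rw [Matrix.mulVec_mulVec, hg, ← mul_assoc, ← mul_assoc, hBBi, one_mul, ← Matrix.mulVec_mulVec, hv,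
        vecVal_mulV hω]
    intro v
    refine ⟨fun hv => hfwd v hv, fun hv => ?_⟩
    let F' : S' → S' := fun w => ⟨(g : Matrix (Fin 5) (Fin 5) F) *ᵥ w.1, hfwd w.1 w.2⟩
    have hinj : Function.Injective F' := fun a b hab =>
      Subtype.ext (mulVec_gl_inj g (congrArg (fun z : S' => (z : Fin 5 → F)) hab))
    have hsurj : Function.Surjective F' := Finite.injective_iff_surjective.mp hinj
    obtain ⟨⟨w, hw⟩, hwv⟩ := hsurj ⟨_, hv⟩
    rw [← mulVec_gl_inj g (congrArg Subtype.val hwv)]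
    exact hw
  obtain ⟨gC, hgC, hgCv⟩ := lift cC 11 (by simp) gram_data.1 order_data.1
  obtain ⟨gY, hgY, hgYv⟩ := lift cY 5 (by simp) gram_data.2.1 order_data.2.1
  have hgCx : (gC : Matrix (Fin 5) (Fin 5) F) = x := by
    rw [hgCv, ← hCm, mul_assoc, ← hBx, ← mul_assoc, hBiB, one_mul]
  have hCM : gC ∈ M := ⟨stab gC cC hgCv (fun s hs => (stable_data s hs).1), hgC⟩
  have hYM : gY ∈ M := ⟨stab gY cY hgYv (fun s hs => (stable_data s hs).2.1), hgY⟩
  have hconjY : gY * gC = gC ^ 4 * gY := by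
    refine Units.ext ?_
    rw [Units.val_mul, Units.val_mul, Units.val_pow_eq_pow_val, hgCx, hgYv]
    have e := congrArg (matVal ω) conj_data
    rw [matVal_mul hω, matVal_mul hω, matVal_pow hω] at e
    have hBk : ∀ k : ℕ, Bm * x ^ k = Cm ^ k * Bm := by
      intro k
      induction k with
      | zero => simp
      | succ k ih => rw [pow_succ, ← mul_assoc, ih, mul_assoc, hBx, ← mul_assoc, ← pow_succ]
    calc Bi * matVal ω cY * Bm * x = Bi * (matVal ω cY * Cm) * Bm := by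
          rw [mul_assoc (Bi * matVal ω cY), hBx]; simp only [mul_assoc]
      _ = Bi * (Cm ^ 4 * matVal ω cY) * Bm := by rw [e]
      _ = x ^ 4 * (Bi * matVal ω cY * Bm) := by
          have : Bi * Cm ^ 4 = x ^ 4 * Bi := by
            calc Bi * Cm ^ 4 = Bi * (Cm ^ 4 * Bm) * Bi := by rw [mul_assoc, mul_assoc (Cm ^ 4), hBBi, mul_one]
              _ = x ^ 4 * Bi := by rw [← hBk, ← mul_assoc, hBiB, one_mul]
          simp only [← mul_assoc, this]
  have hle : Geo.subalgebraNormalizer K ⊓ (GU 5 F 2 ⊓ Geo.specialLinear (Fin 5) F) ≤ M := by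
    rintro g ⟨hgN, hgI⟩
    -- g maps x to a Galois conjugate
    have hgxg : (g : Matrix (Fin 5) (Fin 5) F) * x * ((g⁻¹ : GL (Fin 5) F) : Matrix (Fin 5) (Fin 5) F) ∈ K :=
      (hgN x).mp hxK
    have hgc : ((g * gC * g⁻¹ : GL (Fin 5) F) : Matrix (Fin 5) (Fin 5) F) =
        (g : Matrix (Fin 5) (Fin 5) F) * x * ((g⁻¹ : GL (Fin 5) F) : Matrix (Fin 5) (Fin 5) F) := by
      rw [Units.val_mul, Units.val_mul, hgCx]
    have hC11 : gC ^ 11 = 1 := Units.ext (by rw [Units.val_pow_eq_pow_val, hgCx, hx11, Units.val_one])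
    obtain ⟨j, hj, hjx⟩ := hroots _ hgxg (by
      rw [← hgc, ← Units.val_pow_eq_pow_val, conj_pow, hC11, mul_one, mul_inv_cancel, Units.val_one])
    have hjC : g * gC * g⁻¹ = gC ^ j := Units.ext (by rw [hgc, hjx, Units.val_pow_eq_pow_val, hgCx])
    -- j is a power of four
    have hjroot : minpolyAt j = ⟨.o, .o, .o, .o, .o⟩ := by
      apply vecVal_inj hω
      have hz : pf (ω • (1 : Matrix (Fin 5) (Fin 5) F)) ((ω + 1) • (1 : Matrix (Fin 5) (Fin 5) F))
          (x ^ j) = 0 := by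
        have h0 := congrArg (fun A => (g : Matrix (Fin 5) (Fin 5) F) * A *
          ((g⁻¹ : GL (Fin 5) F) : Matrix (Fin 5) (Fin 5) F)) hroot
        have hp : ∀ k : ℕ, (g : Matrix (Fin 5) (Fin 5) F) * x ^ k * ((g⁻¹ : GL (Fin 5) F) : Matrix (Fin 5) (Fin 5) F) =
            (x ^ j) ^ k := fun k => by
          rw [← hgCx, ← Units.val_pow_eq_pow_val, ← Units.val_mul, ← Units.val_mul, ← Units.val_pow_eq_pow_val,
            ← Units.val_pow_eq_pow_val, ← conj_pow, hjC]
        simp only [pf, Matrix.smul_mul, one_mul, Matrix.mul_add, Matrix.add_mul, Matrix.mul_smul, mul_zero,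
          zero_mul, mul_one, hp, hjx] at h0
        simpa [pf, Units.mul_inv] using h0
      have hBk : ∀ k : ℕ, Bm * x ^ k = Cm ^ k * Bm := by
        intro k
        induction k with
        | zero => simp
        | succ k ih => rw [pow_succ, ← mul_assoc, ih, mul_assoc, hBx, ← mul_assoc, ← pow_succ]
      have h1 := congrArg (fun A => (Bm * A * Bi) *ᵥ vecVal ω e0) hz
      have hp : ∀ k, (Bm * (x ^ j) ^ k * Bi) *ᵥ vecVal ω e0 = vecVal ω ((cC.pow ((j * k) % 11)).mulV e0) := by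
        intro k
        rw [← pow_mul, pow_eq_pow_mod _ hx11, hBk, mul_assoc, hBBi, mul_one, vecVal_mulV hω, matVal_pow hω]
      simp only [pf, Matrix.smul_mul, one_mul, Matrix.mul_add, Matrix.add_mul, Matrix.mul_smul,
        Matrix.add_mulVec, Matrix.smul_mulVec, mul_zero, zero_mul, Matrix.zero_mulVec] at h1
      rw [hp, hp, hp, hp, show Bm * x ^ j * Bi = Bm * (x ^ j) ^ 1 * Bi by rw [pow_one], hp, mul_one, hBBi,
        Matrix.one_mulVec] at h1
      have hval0 : vecVal ω ⟨.o, .o, .o, .o, .o⟩ = 0 := by funext i; fin_cases i <;> rfl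
      rw [hval0, ← h1]
      simp only [minpolyAt, vecVal_vadd, vecVal_smul hω, val, Nat.mul_zero, Nat.zero_mod, M5.pow, mul_one,
        vecVal_mulV hω, matVal_one, Matrix.one_mulVec]
    obtain ⟨i, hi⟩ : ∃ i, 4 ^ i % 11 = j := by
      rcases root_data j hj hjroot with rfl | rfl | rfl | rfl | rfl
      exacts [⟨0, rfl⟩, ⟨4, rfl⟩, ⟨1, rfl⟩, ⟨2, rfl⟩, ⟨3, rfl⟩]
    have hYi : ∀ i, gY ^ i * gC * (gY ^ i)⁻¹ = gC ^ (4 ^ i) := by
      intro i
      induction i with
      | zero => simp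
      | succ i ih =>
        have h1 : gY * gC ^ (4 ^ i) * gY⁻¹ = (gY * gC * gY⁻¹) ^ (4 ^ i) := conj_pow.symm
        calc gY ^ (i + 1) * gC * (gY ^ (i + 1))⁻¹ = gY * (gY ^ i * gC * (gY ^ i)⁻¹) * gY⁻¹ := by
              rw [pow_succ']; group
          _ = gC ^ (4 ^ (i + 1)) := by
              rw [ih, h1, hconjY, mul_inv_cancel_right, ← pow_mul, pow_succ']
    set Z := (gY ^ i)⁻¹ * g with hZ
    have hZI : Z ∈ GU 5 F 2 ⊓ Geo.specialLinear (Fin 5) F :=
      Subgroup.mul_mem _ (Subgroup.inv_mem _ (Subgroup.pow_mem _ hgY i)) hgI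
    have hcomm : Z * gC = gC * Z := by
      have h1 : gC ^ (4 ^ i) = gC ^ j := by rw [← hi]; exact pow_eq_pow_mod _ hC11
      have h2 : g * gC * g⁻¹ = gY ^ i * gC * (gY ^ i)⁻¹ := by rw [hjC, hYi, h1]
      calc Z * gC = (gY ^ i)⁻¹ * (g * gC * g⁻¹) * g := by rw [hZ]; group
        _ = gC * Z := by rw [h2, hZ]; group
    set Zm : Matrix (Fin 5) (Fin 5) F := Bm * (Z : Matrix (Fin 5) (Fin 5) F) * Bi with hZm
    have hconjB : ∀ A A' : Matrix (Fin 5) (Fin 5) F, (Bm * A * Bi) * (Bm * A' * Bi) = Bm * (A * A') * Bi := fun A A' => by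
      simp only [mul_assoc]; rw [← mul_assoc Bi Bm, hBiB, one_mul]
    have hCmx : Cm = Bm * x * Bi := by rw [hBx, mul_assoc, hBBi, mul_one]
    have hZC : Zm * Cm = Cm * Zm := by
      have hcu : (Z : Matrix (Fin 5) (Fin 5) F) * x = x * Z := by
        rw [← hgCx, ← Units.val_mul, ← Units.val_mul, hcomm]
      rw [hCmx, hZm, hconjB, hconjB, hcu]
    choose r hr using fun k : Fin 5 => val_surj hF4 hω (Zm k 0)
    set u : V5 := ⟨r 0, r 1, r 2, r 3, r 4⟩
    have hu : vecVal ω u = Zm *ᵥ Pi.single 0 1 := by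
      funext k
      rw [Matrix.mulVec_single_one]
      fin_cases k <;> simp [vecVal, u, hr]
    have hCe : ∀ j : Fin 5, Cm ^ (j : ℕ) *ᵥ Pi.single 0 1 = Pi.single j 1 := by
      intro j
      have h1 := kry_col hω e0 j
      rw [show kry e0 = one5 by decide +kernel, matVal_one, Matrix.one_mulVec, vecVal_e0, ← hCm] at h1
      exact h1.symm
    have hZk : matVal ω (kry u) = Zm := by
      refine ext_of_span (Pi.basisFun F (Fin 5)).span_eq ?_
      rintro _ ⟨j, rfl⟩
      rw [Pi.basisFun_apply, kry_col hω, hu, Matrix.mulVec_mulVec, ← hCm, ← (Commute.pow_right (show Commute Zm Cm from hZC) _).eq,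
        ← Matrix.mulVec_mulVec, hCe]
    have hgr : (kry u).gram cG = cG := by
      apply matVal_inj hω
      rw [matVal_gram hω hσ2, hZk]
      refine (preserves_iff_gram hgramf Zm).mp fun p p' => ?_
      show hermForm 5 F 2 _ _ = hermForm 5 F 2 _ _
      rw [hZm]
      simp only [Matrix.mulVec_mulVec, ← mul_assoc, hBiB, one_mul]
      rw [← Matrix.mulVec_mulVec, ← Matrix.mulVec_mulVec, mem_GU_iff.mp hZI.1]
    have hcent := List.all_eq_true.mp cent_data u (mem_allV u)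
    simp only [centCheck, hgr, bne_self_eq_false, Bool.false_or, List.any_eq_true, Bool.or_eq_true, beq_iff_eq,
      List.mem_range] at hcent
    obtain ⟨k, -, hk⟩ := hcent
    obtain ⟨c, hc⟩ : ∃ c : F, vecVal ω u = c • (Cm ^ k *ᵥ Pi.single 0 1) := by
      rcases hk with (hk | hk) | hk
      · exact ⟨1, by rw [hk, vecVal_mulV hω, matVal_pow hω, vecVal_e0, one_smul]⟩
      · exact ⟨_, by rw [hk, vecVal_smul hω, vecVal_mulV hω, matVal_pow hω, vecVal_e0]⟩
      · exact ⟨_, by rw [hk, vecVal_smul hω, vecVal_mulV hω, matVal_pow hω, vecVal_e0]⟩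
    have hZeq : Zm = c • Cm ^ k := by
      refine ext_of_span (Pi.basisFun F (Fin 5)).span_eq ?_
      rintro _ ⟨l, rfl⟩
      rw [Pi.basisFun_apply, ← hCe l, Matrix.mulVec_mulVec, Matrix.mulVec_mulVec,
        (Commute.pow_right (show Commute Zm Cm from hZC) _).eq, ← Matrix.mulVec_mulVec, ← hu, hc, Matrix.mulVec_smul,
        Matrix.mulVec_mulVec, Matrix.smul_mul, Matrix.smul_mulVec, ← pow_add, ← pow_add, add_comm]
    have hdetC : Cm.det = 1 := by
      have h0 : (gC : Matrix (Fin 5) (Fin 5) F).det = 1 := det_eq_one_of_mem hgC.2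
      rwa [hgCv, Matrix.det_mul_comm, ← mul_assoc, hBBi, one_mul] at h0
    have hc1 : c = 1 := by
      have h1 : Zm.det = 1 := by
        rw [hZm, Matrix.det_mul_comm, ← mul_assoc, hBiB, one_mul]; exact det_eq_one_of_mem hZI.2
      rw [hZeq, Matrix.det_smul, Matrix.det_pow, hdetC, one_pow, mul_one, Fintype.card_fin] at h1
      have h0 : c ≠ 0 := fun h => by simp [h] at h1
      have h3 := hcube c h0
      calc c = (c ^ 3) ^ 2 * (c ^ 5)⁻¹ := by field_simp
        _ = 1 := by rw [h3, h1]; simp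
    have hZC' : Z = gC ^ k := by
      refine Units.ext ?_
      rw [Units.val_pow_eq_pow_val, hgCx]
      have h1 : Bi * Zm * Bm = (Z : Matrix (Fin 5) (Fin 5) F) := by
        rw [hZm]; simp only [mul_assoc, hBiB, mul_one]; rw [← mul_assoc, hBiB, one_mul]
      rw [← h1, hZeq, hc1, one_smul]
      have hBk : ∀ k : ℕ, Bm * x ^ k = Cm ^ k * Bm := by
        intro k
        induction k with
        | zero => simp
        | succ k ih => rw [pow_succ, ← mul_assoc, ih, mul_assoc, hBx, ← mul_assoc, ← pow_succ]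
      rw [mul_assoc, ← hBk, ← mul_assoc, hBiB, one_mul]
    have hg : g = gY ^ i * gC ^ k := by rw [← hZC', hZ]; group
    rw [hg]
    exact Subgroup.mul_mem _ (Subgroup.pow_mem _ hYM i) (Subgroup.pow_mem _ hCM k)
  rcases hmax.2 M hle inf_le_right with hM | hM
  · -- an element of M outside the normaliser
    obtain ⟨gT, hgT, hgTv⟩ := lift cT 2 (by simp) gram_data.2.2.1 (by
      have := order_data.2.2.1
      revert this; decide +kernel)
    have hTM : gT ∈ M := ⟨stab gT cT hgTv (fun s hs => (stable_data s hs).2.2), hgT⟩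
    rw [hM] at hTM
    have hTinv : gT⁻¹ = gT := by
      refine inv_eq_of_mul_eq_one_left (Units.ext ?_)
      rw [Units.val_mul, hgTv, Units.val_one]
      have e : matVal ω cT * matVal ω cT = 1 := by rw [← matVal_mul hω, order_data.2.2.1, matVal_one]
      simp only [mul_assoc]
      rw [← mul_assoc Bm, hBBi, one_mul, ← mul_assoc (matVal ω cT), e, one_mul, hBiB]
    have h1 : (gT : Matrix (Fin 5) (Fin 5) F) * x * (gT : Matrix (Fin 5) (Fin 5) F) ∈ K := by
      have := (hTM.1 x).mp hxK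
      rwa [hTinv] at this
    have h2 := hK.comm _ h1 x hxK
    refine not_commute_data (matVal_inj hω ?_)
    simp only [matVal_mul hω, ← hCm]
    have h3 := congrArg (fun A => Bm * A * Bi) h2
    simp only [hgTv] at h3
    have hCmx : Cm = Bm * x * Bi := by rw [hBx, mul_assoc, hBBi, mul_one]
    have hT : ∀ A, Bm * (Bi * matVal ω cT * Bm * A) = matVal ω cT * (Bm * A) := fun A => by
      simp only [mul_assoc]; rw [← mul_assoc Bm Bi, hBBi, one_mul]
    calc matVal ω cT * Cm * matVal ω cT * Cm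
        = Bm * (Bi * matVal ω cT * Bm * x * (Bi * matVal ω cT * Bm) * x) * Bi := by
          rw [hCmx]; simp only [mul_assoc]; rw [← mul_assoc Bm Bi, hBBi, one_mul]
      _ = Bm * (x * (Bi * matVal ω cT * Bm * x * (Bi * matVal ω cT * Bm))) * Bi := h3
      _ = Cm * (matVal ω cT * Cm * matVal ω cT) := by
          rw [hCmx]; simp only [mul_assoc]; rw [hBBi, mul_one]
  · -- an isometry moving the finite set
    obtain ⟨gU, hgU, hgUv⟩ := lift cU 2 (by simp) gram_data.2.2.2 (by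
      have := order_data.2.2.2
      revert this; decide +kernel)
    have hUM : gU ∈ M := hM ▸ hgU
    obtain ⟨s, hs, hns⟩ := moved_data
    have h1 : Bi *ᵥ vecVal ω s ∈ S' := ⟨s, hs, by rw [Matrix.mulVec_mulVec, hBBi, Matrix.one_mulVec]⟩
    obtain ⟨s', hs', h2⟩ := (hUM.1 _).mp h1
    refine hns ?_
    have h3 : Bm *ᵥ ((gU : Matrix (Fin 5) (Fin 5) F) *ᵥ (Bi *ᵥ vecVal ω s)) = vecVal ω (cU.mulV s) := by
      rw [hgUv, Matrix.mulVec_mulVec, Matrix.mulVec_mulVec, vecVal_mulV hω]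
      congr 1
      simp only [mul_assoc, hBBi, mul_one]
      rw [← mul_assoc, hBBi, one_mul]
    have h4 : vecVal ω s' = vecVal ω (cU.mulV s) := h2.symm.trans h3
    rwa [← vecVal_inj hω h4]

end Cfsg.Agent.Aschbacher
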