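import Cfsg.Agent.Aschbacher.Forms

/-!
Hermitian and symmetric forms: orthogonal complements of invariant subspaces, frames, adjoint-closed fields,
rational structures.
-/

set_option autoImplicit false
set_option linter.unusedSectionVars false
set_option linter.style.haveILetI false

namespace Cfsg.Agent.Aschbacher

open scoped MatrixGroups Matrix
open Module

variable {ι : Type} [Fintype ι] [DecidableEq ι] {F : Type*} [Field F]

/-- A non-degenerate σ-Hermitian form (symmetric when σ is the identity). -/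
structure Herm (σ : F →+* F) (f : (ι → F) → (ι → F) → F) : Prop where
  involutive : ∀ a, σ (σ a) = a
  add_left : ∀ x y v, f (x + y) v = f x v + f y v
  smul_left : ∀ (c : F) x v, f (c • x) v = c * f x v
  herm : ∀ v w, f v w = σ (f w v)
  nondegenerate : Geo.IsNondegenerateForm f

namespace Herm

variable {σ : F →+* F} {f : (ι → F) → (ι → F) → F}

theorem add_right (h : Herm σ f) (v x y : ι → F) : f v (x + y) = f v x + f v y := by
  rw [h.herm, h.add_left, map_add, ← h.herm, ← h.herm]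

theorem smul_right (h : Herm σ f) (c : F) (v x : ι → F) : f v (c • x) = σ c * f v x := by
  rw [h.herm, h.smul_left, map_mul, ← h.herm]

theorem zero_left (h : Herm σ f) (v : ι → F) : f 0 v = 0 := by
  have := h.smul_left 0 0 v
  simpa using this

theorem zero_right (h : Herm σ f) (v : ι → F) : f v 0 = 0 := by
  rw [h.herm, h.zero_left, map_zero]

theorem eq_zero_comm (h : Herm σ f) {v w : ι → F} (hvw : f v w = 0) : f w v = 0 := by
  rw [h.herm, hvw, map_zero]

theorem gram (h : Herm σ f) : IsGram σ f (Geo.gramMatrix f) :=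
  exists_gram σ f h.add_left h.smul_left h.add_right h.smul_right

theorem sum_left (h : Herm σ f) {κ : Type*} (s : Finset κ) (x : κ → ι → F) (v : ι → F) :
    f (∑ i ∈ s, x i) v = ∑ i ∈ s, f (x i) v := by
  classical
  induction s using Finset.induction with
  | empty => simp [h.zero_left]
  | insert a s ha ih => rw [Finset.sum_insert ha, Finset.sum_insert ha, h.add_left, ih]

/-- The orthogonal complement. -/
def perp (h : Herm σ f) (W : Submodule F (ι → F)) : Submodule F (ι → F) where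
  carrier := {x | ∀ w ∈ W, f x w = 0}
  add_mem' {a b} ha hb w hw := by rw [h.add_left, ha w hw, hb w hw, add_zero]
  zero_mem' w _ := h.zero_left w
  smul_mem' c a ha w hw := by rw [h.smul_left, ha w hw, mul_zero]

theorem inv_perp (h : Herm σ f) [Finite F] {G : Subgroup (GL ι F)}
    (hG : ∀ g ∈ G, ∀ u v, f ((g : Matrix ι ι F) *ᵥ u) ((g : Matrix ι ι F) *ᵥ v) = f u v)
    {W : Submodule F (ι → F)} (hW : Inv G W) : Inv G (h.perp W) := by
  intro g hg x hx w hw
  have h1 := hG g hg x (((g⁻¹ : GL ι F) : Matrix ι ι F) *ᵥ w)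
  rw [mulVec_inv_mulVec, hx _ (hW g⁻¹ (inv_mem hg) w hw)] at h1
  exact h1

theorem finrank_perp_le (h : Herm σ f) (W : Submodule F (ι → F)) :
    Fintype.card ι ≤ finrank F (h.perp W) + finrank F W := by
  let b := Module.finBasis F W
  let L : (ι → F) →ₗ[F] (Fin (finrank F W) → F) :=
    { toFun := fun x i => f x (b i)
      map_add' := fun x y => funext fun i => h.add_left x y _
      map_smul' := fun c x => funext fun i => h.smul_left c x _ }
  have hker : LinearMap.ker L ≤ h.perp W := by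
    intro x hx w hw
    have hx' : ∀ i, f x (b i) = 0 := fun i => congrFun hx i
    have hsum : (w : ι → F) = ∑ i, b.repr ⟨w, hw⟩ i • ((b i : W) : ι → F) := by
      have h2 := congrArg W.subtype (b.sum_repr ⟨w, hw⟩)
      rw [map_sum] at h2
      exact h2.symm
    rw [hsum, h.herm, h.sum_left, map_sum]
    refine Finset.sum_eq_zero fun i _ => ?_
    rw [h.smul_left, map_mul, ← h.herm, hx' i, mul_zero]
  have h1 := LinearMap.finrank_range_add_finrank_ker L
  have h2 := Submodule.finrank_mono hker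
  have h3 : finrank F (LinearMap.range L) ≤ finrank F W := by
    refine (Submodule.finrank_le _).trans ?_
    simp
  simp only [Module.finrank_pi] at h1
  omega

/-- An invariant subspace gives a totally singular or small non-degenerate one. -/
theorem subspace_dichotomy (h : Herm σ f) [Finite F] {G : Subgroup (GL ι F)}
    (hG : ∀ g ∈ G, ∀ u v, f ((g : Matrix ι ι F) *ᵥ u) ((g : Matrix ι ι F) *ᵥ v) = f u v)
    {W : Submodule F (ι → F)} (hW : Inv G W) (hWb : W ≠ ⊥) (hWt : W ≠ ⊤) :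
    (∃ U : Submodule F (ι → F), Inv G U ∧ U ≠ ⊥ ∧ U ≠ ⊤ ∧ Geo.IsTotallySingularFor f U) ∨
    (Geo.IsNondegenerateOn f W ∧ Geo.IsNondegenerateOn f (h.perp W) ∧ h.perp W ≠ ⊥ ∧ h.perp W ≠ ⊤ ∧
      finrank F (h.perp W) + finrank F W = Fintype.card ι ∧ Inv G (h.perp W)) := by
  classical
  have hP := h.inv_perp hG hW
  have hts : ∀ U : Submodule F (ι → F), Inv G U → U ⊓ h.perp U ≠ ⊥ →
      ∃ U' : Submodule F (ι → F), Inv G U' ∧ U' ≠ ⊥ ∧ U' ≠ ⊤ ∧ Geo.IsTotallySingularFor f U' := by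
    intro U hU hne
    refine ⟨U ⊓ h.perp U, fun g hg w hw => ⟨hU g hg w hw.1, h.inv_perp hG hU g hg w hw.2⟩, hne, ?_,
      fun u hu v hv => hu.2 v hv.1⟩
    intro htop
    obtain ⟨w, -, hw0⟩ := (Submodule.ne_bot_iff _).mp hne
    obtain ⟨x, hx⟩ := (h.nondegenerate w hw0).1
    have hxm : x ∈ U ⊓ h.perp U := htop ▸ Submodule.mem_top
    have hwm : w ∈ U ⊓ h.perp U := htop ▸ Submodule.mem_top
    exact hx (hxm.2 w hwm.1)
  have hnd : ∀ U : Submodule F (ι → F), U ⊓ h.perp U = ⊥ → Geo.IsNondegenerateOn f U := by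
    intro U hU w hw hw0
    by_contra hcon
    have hwp : w ∈ h.perp U := by
      intro u hu
      by_contra hne
      exact hcon ⟨⟨u, hu, fun h0 => hne (h.eq_zero_comm h0)⟩, ⟨u, hu, hne⟩⟩
    exact hw0 ((Submodule.mem_bot F).mp (hU ▸ ⟨hw, hwp⟩))
  by_cases h1 : W ⊓ h.perp W = ⊥
  swap
  · exact Or.inl (hts W hW h1)
  by_cases h2 : h.perp W ⊓ h.perp (h.perp W) = ⊥
  swap
  · exact Or.inl (hts _ hP h2)
  have hdim : finrank F (h.perp W) + finrank F W = Fintype.card ι := by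
    have h3 := Submodule.finrank_sup_add_finrank_inf_eq W (h.perp W)
    rw [h1, finrank_bot] at h3
    have h4 := (W ⊔ h.perp W).finrank_le
    rw [Module.finrank_pi] at h4
    have := h.finrank_perp_le W
    omega
  have hd1 : finrank F W ≠ 0 := by simpa [Submodule.finrank_eq_zero] using hWb
  have hd2 : finrank F W < Fintype.card ι := by
    have := Submodule.finrank_lt hWt
    rwa [Module.finrank_pi] at this
  refine Or.inr ⟨hnd W h1, hnd _ h2, ?_, ?_, hdim, hP⟩
  · intro h0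
    rw [h0, finrank_bot] at hdim
    omega
  · intro h0
    rw [h0, finrank_top, Module.finrank_pi] at hdim
    omega

/-- A frame of a non-scalar abelian group of isometries in odd dimension is orthogonal. -/
theorem orth_frame (h : Herm σ f) (hodd : Odd (Fintype.card ι)) {M G : Subgroup (GL ι F)}
    (hM : M ≤ G) (hG : ∀ g ∈ G, ∀ u v, f ((g : Matrix ι ι F) *ᵥ u) ((g : Matrix ι ι F) *ᵥ v) = f u v)
    {b : Module.Basis (Fin (Fintype.card ι)) F (ι → F)} {χ : Fin (Fintype.card ι) → GL ι F → F}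
    (hχ : ∀ i, ∀ x ∈ M, (x : Matrix ι ι F) *ᵥ b i = χ i x • b i)
    (hdist : ∀ i j, i ≠ j → ∃ x ∈ M, χ i x ≠ χ j x)
    (htrans : ∀ i j, ∃ g ∈ G, ∃ c : F, (g : Matrix ι ι F) *ᵥ b i = c • b j) :
    (∀ i j, i ≠ j → f (b i) (b j) = 0) ∧ ∀ i, f (b i) (b i) ≠ 0 := by
  classical
  have hχ0 : ∀ i, ∀ x ∈ M, χ i x ≠ 0 := fun i x hx h0 =>
    b.ne_zero i (mulVec_gl_inj x (by simp [hχ i x hx, h0]))
  have hrel : ∀ i j, f (b i) (b j) ≠ 0 → ∀ x ∈ M, χ i x * σ (χ j x) = 1 := by
    intro i j hne x hx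
    have h1 := hG x (hM hx) (b i) (b j)
    rw [hχ i x hx, hχ j x hx, h.smul_left, h.smul_right, ← mul_assoc] at h1
    exact (mul_eq_right₀ hne).mp h1
  have huniq : ∀ i j k, f (b i) (b j) ≠ 0 → f (b i) (b k) ≠ 0 → j = k := by
    intro i j k hj hk
    by_contra hne
    obtain ⟨x, hx, hd⟩ := hdist j k hne
    have h1 := (hrel i j hj x hx).trans (hrel i k hk x hx).symm
    exact hd (σ.injective (mul_left_cancel₀ (hχ0 i x hx) h1))
  have hex : ∀ i, ∃ j, f (b i) (b j) ≠ 0 := by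
    intro i
    by_contra hcon
    push Not at hcon
    obtain ⟨x, hx⟩ := (h.nondegenerate (b i) (b.ne_zero i)).2
    refine hx ?_
    rw [← b.sum_repr x, h.herm, h.sum_left, map_sum]
    refine Finset.sum_eq_zero fun j _ => ?_
    rw [h.smul_left, map_mul, ← h.herm, hcon j, mul_zero]
  choose π hπ using hex
  have hinv : ∀ i, π (π i) = i := fun i =>
    huniq (π i) _ _ (hπ (π i)) fun h0 => hπ i (h.eq_zero_comm h0)
  let P : Equiv.Perm (Fin (Fintype.card ι)) := ⟨π, π, hinv, hinv⟩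
  haveI : Fact (Nat.Prime 2) := ⟨Nat.prime_two⟩
  obtain ⟨i₀, hi₀⟩ := P.exists_fixed_point_of_prime (p := 2) (n := 1) (by
    rw [Fintype.card_fin]
    rintro ⟨k, hk⟩
    obtain ⟨l, hl⟩ := hodd
    omega) (Equiv.ext fun i => by simp [P, pow_succ, hinv])
  have hdiag : ∀ i, f (b i) (b i) ≠ 0 := by
    intro i
    obtain ⟨g, hg, c, hc⟩ := htrans i₀ i
    have h1 : f (b i₀) (b i₀) ≠ 0 := by
      have h2 := hπ i₀
      rwa [show π i₀ = i₀ from hi₀] at h2
    intro h0
    refine h1 ?_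
    rw [← hG g hg, hc, h.smul_left, h.smul_right, h0, mul_zero, mul_zero]
  exact ⟨fun i j hij => by_contra fun hne => hij (huniq i i j (hdiag i) hne), hdiag⟩

theorem orth_frame_decomposition (h : Herm σ f) {k : ℕ} (hk : 2 ≤ k) {b : Module.Basis (Fin k) F (ι → F)}
    (ho : ∀ i j, i ≠ j → f (b i) (b j) = 0) (hd : ∀ i, f (b i) (b i) ≠ 0) :
    Geo.IsNondegenerateMDecomposition f 1 (fun i => Submodule.span F {b i}) := by
  refine ⟨lines_decomposition hk b, fun i w hw hw0 => ?_, fun i j hij u hu v hv => ?_⟩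
  · obtain ⟨a, rfl⟩ := Submodule.mem_span_singleton.mp hw
    have ha : a ≠ 0 := fun ha => hw0 (by rw [ha, zero_smul])
    refine ⟨⟨b i, Submodule.mem_span_singleton_self _, ?_⟩, ⟨b i, Submodule.mem_span_singleton_self _, ?_⟩⟩
    · rw [h.smul_right]; exact mul_ne_zero ((map_ne_zero σ).mpr ha) (hd i)
    · rw [h.smul_left]; exact mul_ne_zero ha (hd i)
  · obtain ⟨a, rfl⟩ := Submodule.mem_span_singleton.mp hu
    obtain ⟨c, rfl⟩ := Submodule.mem_span_singleton.mp hv
    rw [h.smul_left, h.smul_right, ho i j hij, mul_zero, mul_zero]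

/-- The field generated by a group of isometries is closed under adjoints. -/
theorem adjointClosed (h : Herm σ f) {M : Subgroup (GL ι F)}
    (hM : ∀ g ∈ M, ∀ u v, f ((g : Matrix ι ι F) *ᵥ u) ((g : Matrix ι ι F) *ᵥ v) = f u v) :
    Geo.IsAdjointClosedFor f (Algebra.adjoin F (Geo.matrixSet M)) := by
  intro k hk
  induction hk using Algebra.adjoin_induction with
  | mem x hx =>
    obtain ⟨g, hg, rfl⟩ := hx
    refine ⟨((g⁻¹ : GL ι F) : Matrix ι ι F), Algebra.subset_adjoin ⟨g⁻¹, inv_mem hg, rfl⟩, fun u v => ?_⟩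
    have h1 := hM g hg u (((g⁻¹ : GL ι F) : Matrix ι ι F) *ᵥ v)
    rwa [mulVec_inv_mulVec] at h1
  | algebraMap r =>
    refine ⟨algebraMap F _ (σ r), Subalgebra.algebraMap_mem _ _, fun u v => ?_⟩
    rw [Algebra.algebraMap_eq_smul_one, Algebra.algebraMap_eq_smul_one, Matrix.smul_mulVec, Matrix.one_mulVec,
      Matrix.smul_mulVec, Matrix.one_mulVec, h.smul_left, h.smul_right, h.involutive]
  | add a b _ _ ha hb =>
    obtain ⟨a', ha', ha⟩ := ha
    obtain ⟨b', hb', hb⟩ := hb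
    exact ⟨a' + b', add_mem ha' hb', fun u v => by
      rw [Matrix.add_mulVec, Matrix.add_mulVec, h.add_left, h.add_right, ha, hb]⟩
  | mul a b _ _ ha hb =>
    obtain ⟨a', ha', ha⟩ := ha
    obtain ⟨b', hb', hb⟩ := hb
    exact ⟨b' * a', mul_mem hb' ha', fun u v => by
      rw [← Matrix.mulVec_mulVec, ha, hb, Matrix.mulVec_mulVec]⟩

/-- A rational system fixing the form determines the Gram matrix of the form up to a scalar in the subfield. -/
theorem rational_gram [Fintype F] [Nonempty ι] (h : Herm σ f) {F₁ : Subfield F} {B : GL ι F} {P : Subgroup (GL ι F)}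
    (habs : Geo.ActsAbsolutelyIrreducibly (Geo.matrixSet P)) (hP : Geo.FixesForm (Geo.matrixSet P) f)
    (hrat : ∀ s ∈ P, Rational F₁ ((B * s * B⁻¹ : GL ι F) : Matrix ι ι F)) :
    ∃ (G : Matrix ι ι F) (c : F), c ≠ 0 ∧ Rational F₁ (c • G) ∧ IsUnit G ∧
      IsGram σ (fun u v => f (((B⁻¹ : GL ι F) : Matrix ι ι F) *ᵥ u) (((B⁻¹ : GL ι F) : Matrix ι ι F) *ᵥ v)) G := by
  classical
  set Bi : Matrix ι ι F := ((B⁻¹ : GL ι F) : Matrix ι ι F) with hBi
  set Bm : Matrix ι ι F := (B : Matrix ι ι F) with hBm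
  set G₀ := Geo.gramMatrix f
  have hg := h.gram.comp Bi
  set G := Biᵀ * G₀ * Bi.map σ with hG
  have hu₀ := gram_isUnit h.gram h.nondegenerate
  have hGu : IsUnit G :=
    (((Matrix.isUnit_transpose (A := Bi)).mpr (B⁻¹).isUnit).mul hu₀).mul ((B⁻¹).isUnit.map σ.mapMatrix)
  have hinvG : ∀ s ∈ P, ((B * s * B⁻¹ : GL ι F) : Matrix ι ι F)ᵀ * G * ((B * s * B⁻¹ : GL ι F) : Matrix ι ι F).map σ = G :=
    fun s hs => (preserves_iff_gram hg _).mp fun u v => by
      simp only [Matrix.mulVec_mulVec, hBi, ← Units.val_mul]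
      rw [show B⁻¹ * (B * s * B⁻¹) = s * B⁻¹ by group, Units.val_mul, ← Matrix.mulVec_mulVec, ← Matrix.mulVec_mulVec]
      exact hP _ ⟨s, hs, rfl⟩ _ _
  have hcanc : ∀ (g : GL ι F) (X : Matrix ι ι F),
      (g : Matrix ι ι F)ᵀ * (((g⁻¹ : GL ι F) : Matrix ι ι F)ᵀ * X) = X := by
    intro g X
    rw [← mul_assoc, ← Matrix.transpose_mul, ← Units.val_mul, inv_mul_cancel, Units.val_one, Matrix.transpose_one, one_mul]
  have hcanc' : ∀ (g : GL ι F) (X : Matrix ι ι F),
      ((g⁻¹ : GL ι F) : Matrix ι ι F)ᵀ * ((g : Matrix ι ι F)ᵀ * X) = X := fun g X => by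
    simpa using hcanc g⁻¹ X
  have huniq : ∀ y : Matrix ι ι F, (∀ s : P, y * ((B * (s : GL ι F) * B⁻¹ : GL ι F) : Matrix ι ι F).map σ =
      (((B * (s : GL ι F) * B⁻¹)⁻¹ : GL ι F) : Matrix ι ι F)ᵀ * y) → ∃ c : F, y = c • G := by
    intro y hy
    obtain ⟨c, hc⟩ := gram_unique (σ := σ) hu₀ habs (fun s hs => (preserves_iff_gram h.gram _).mp (hP _ ⟨s, hs, rfl⟩))
      (G' := Bmᵀ * y * Bm.map σ) (fun s hs => by
        have h1 : ((B * s * B⁻¹ : GL ι F) : Matrix ι ι F)ᵀ * (y * ((B * s * B⁻¹ : GL ι F) : Matrix ι ι F).map σ) = y := by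
          rw [hy ⟨s, hs⟩, hcanc]
        have e1 : Bm * (s : Matrix ι ι F) = ((B * s * B⁻¹ : GL ι F) : Matrix ι ι F) * Bm := by
          rw [hBm, ← Units.val_mul, ← Units.val_mul, inv_mul_cancel_right]
        calc (s : Matrix ι ι F)ᵀ * (Bmᵀ * y * Bm.map σ) * (s : Matrix ι ι F).map σ
            = (Bm * (s : Matrix ι ι F))ᵀ * y * (Bm * (s : Matrix ι ι F)).map σ := by
              rw [Matrix.transpose_mul, Matrix.map_mul]; simp only [mul_assoc]
          _ = Bmᵀ * (((B * s * B⁻¹ : GL ι F) : Matrix ι ι F)ᵀ * (y * ((B * s * B⁻¹ : GL ι F) : Matrix ι ι F).map σ)) *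
                Bm.map σ := by
              rw [e1, Matrix.transpose_mul, Matrix.map_mul]; simp only [mul_assoc]
          _ = _ := by rw [h1])
    refine ⟨c, ?_⟩
    have h2 := congrArg (fun M => Biᵀ * M * Bi.map σ) hc
    simp only [Matrix.mul_smul, Matrix.smul_mul] at h2
    have hBB : Bm.map σ * Bi.map σ = 1 := by
      rw [← Matrix.map_mul, hBm, hBi, ← Units.val_mul, mul_inv_cancel, Units.val_one, Matrix.map_one _ σ.map_zero σ.map_one]
    rw [show Biᵀ * (Bmᵀ * y * Bm.map σ) * Bi.map σ = Biᵀ * (Bmᵀ * y) * (Bm.map σ * Bi.map σ) by simp only [mul_assoc],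
      hBB, mul_one, hBi, hBm, hcanc'] at h2
    exact h2
  obtain ⟨c, hc, hcr⟩ := exists_rational_multiple F₁
    (fun s : P => ((B * s * B⁻¹ : GL ι F) : Matrix ι ι F).map σ)
    (fun s : P => (((B * s * B⁻¹)⁻¹ : GL ι F) : Matrix ι ι F)ᵀ)
    (fun s => (hrat s s.2).map σ) (fun s => by
      have e : (B * (s : GL ι F) * B⁻¹)⁻¹ = B * (s : GL ι F)⁻¹ * B⁻¹ := by group
      rw [e]
      exact (hrat _ (inv_mem s.2)).transpose) hGu.ne_zero
    (fun s => by
      calc G * ((B * (s : GL ι F) * B⁻¹ : GL ι F) : Matrix ι ι F).map σ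
          = (((B * (s : GL ι F) * B⁻¹)⁻¹ : GL ι F) : Matrix ι ι F)ᵀ * (((B * (s : GL ι F) * B⁻¹ : GL ι F) : Matrix ι ι F)ᵀ *
              (G * ((B * (s : GL ι F) * B⁻¹ : GL ι F) : Matrix ι ι F).map σ)) := (hcanc' _ _).symm
        _ = _ := by rw [← mul_assoc (((B * (s : GL ι F) * B⁻¹ : GL ι F) : Matrix ι ι F)ᵀ), hinvG s s.2]) huniq
  exact ⟨G, c, hc, hcr, hGu, hg⟩

end Herm

end Cfsg.Agent.Aschbacher
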