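import Cfsg.Agent.Aschbacher.Heisenberg

/-!
Transvections and the argument that a group rich in transvections does not normalise extensions or extraspecial groups.
-/

set_option autoImplicit false
set_option linter.unusedSectionVars false
set_option linter.style.haveILetI false

namespace Cfsg.Agent.Aschbacher

open scoped MatrixGroups Matrix commutatorElement
open Module

variable {ι : Type} [Fintype ι] [DecidableEq ι] {F : Type*} [Field F]

/-- A non-zero vector killed by two linear functionals, in dimension at least three. -/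
theorem exists_mulVec_kills (hn : 3 ≤ Fintype.card ι) (w w' : ι → F) : ∃ u : ι → F, u ≠ 0 ∧ w ⬝ᵥ u = 0 ∧ w' ⬝ᵥ u = 0 := by
  let L : (ι → F) →ₗ[F] F × F :=
    { toFun := fun u => (w ⬝ᵥ u, w' ⬝ᵥ u)
      map_add' := fun a b => by simp [dotProduct_add]
      map_smul' := fun c a => by simp [dotProduct_smul] }
  have hne : LinearMap.ker L ≠ ⊥ := LinearMap.ker_ne_bot_of_finrank_lt (by simp; omega)
  obtain ⟨u, hu, hu0⟩ := (Submodule.ne_bot_iff _).mp hne
  have h1 : (w ⬝ᵥ u, w' ⬝ᵥ u) = ((0 : F), (0 : F)) := hu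
  exact ⟨u, hu0, congrArg Prod.fst h1, congrArg Prod.snd h1⟩

/-- A rank-one perturbation of the identity normalising a field subalgebra centralises it. -/
theorem commute_of_normalizes (hn : 3 ≤ Fintype.card ι) {r : ℕ} {K : Subalgebra F (Matrix ι ι F)}
    (hK : Geo.IsFieldSubalgebra r K) {v w : ι → F} {t : GL ι F}
    (ht : (t : Matrix ι ι F) = 1 + Matrix.vecMulVec v w) (htK : t ∈ Geo.subalgebraNormalizer K) :
    ∀ k ∈ K, (t : Matrix ι ι F) * k = k * (t : Matrix ι ι F) := by
  intro k hk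
  set k' := (t : Matrix ι ι F) * k * ((t⁻¹ : GL ι F) : Matrix ι ι F) with hk'
  have hk'K : k' ∈ K := (htK k).mp hk
  have hrel : k' * (t : Matrix ι ι F) = (t : Matrix ι ι F) * k := by
    rw [hk', mul_assoc, ← Units.val_mul, inv_mul_cancel, Units.val_one, mul_one]
  by_contra hne
  have hdiff : k' - k ≠ 0 := fun h => hne (by rw [sub_eq_zero] at h; rw [← hrel, h])
  obtain ⟨l, -, hl⟩ := hK.inv (k' - k) (sub_mem hk'K hk) hdiff
  obtain ⟨u, hu0, hwu, hwku⟩ := exists_mulVec_kills hn w (Matrix.vecMul w k)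
  rw [← Matrix.dotProduct_mulVec] at hwku
  have htu : (t : Matrix ι ι F) *ᵥ u = u := by
    simp [ht, Matrix.add_mulVec, Matrix.vecMulVec_mulVec, hwu]
  have htku : (t : Matrix ι ι F) *ᵥ (k *ᵥ u) = k *ᵥ u := by
    rw [ht, Matrix.add_mulVec, Matrix.one_mulVec, Matrix.vecMulVec_mulVec, hwku]
    simp
  have hz : (k' - k) *ᵥ u = 0 := by
    have h1 : k' *ᵥ u = k *ᵥ u := by
      calc k' *ᵥ u = k' *ᵥ ((t : Matrix ι ι F) *ᵥ u) := by rw [htu]
        _ = (t : Matrix ι ι F) *ᵥ (k *ᵥ u) := by rw [Matrix.mulVec_mulVec, hrel, ← Matrix.mulVec_mulVec]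
        _ = k *ᵥ u := htku
    rw [Matrix.sub_mulVec, h1, sub_self]
  have hl' : l * (k' - k) = 1 := mul_eq_one_comm.mp hl
  refine hu0 ?_
  calc u = (l * (k' - k)) *ᵥ u := by rw [hl', Matrix.one_mulVec]
    _ = 0 := by rw [← Matrix.mulVec_mulVec, hz, Matrix.mulVec_zero]

theorem trace_one_add_mul (a : F) {E A : Matrix ι ι F} (hE : E.trace = 0) (hA : A.trace = 0) :
    ((1 + a • A) * (1 + (-a) • E)).trace = (Fintype.card ι : F) - a ^ 2 * (A * E).trace := by
  simp only [mul_add, add_mul, one_mul, mul_one, Matrix.trace_add, Matrix.trace_one, Matrix.smul_mul, Matrix.mul_smul,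
    smul_smul, Matrix.trace_smul, hE, hA, smul_eq_mul, mul_zero, add_zero]
  ring

/-- A one-parameter family of transvections normalising a class two group, with two parameters of different
squares, centralises it. -/
theorem ClassTwo.commute_of_transvection {R : Subgroup (GL ι F)} (hR : ClassTwo R) (hn : (Fintype.card ι).Prime)
    (hn3 : 3 ≤ Fintype.card ι) {v w : ι → F} (hwv : w ⬝ᵥ v = 0) {t : GL ι F} {a b : F} (ha : a ≠ 0)
    (hab : a ^ 2 ≠ b ^ 2) (hb : b ≠ 0) (ht : (t : Matrix ι ι F) = 1 + a • Matrix.vecMulVec v w)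
    {t' : GL ι F} (ht' : (t' : Matrix ι ι F) = 1 + b • Matrix.vecMulVec v w)
    (htn : ∀ x ∈ R, t * x * t⁻¹ ∈ R) (htn' : ∀ x ∈ R, t' * x * t'⁻¹ ∈ R) :
    ∀ x ∈ R, Matrix.vecMulVec v w * (x : Matrix ι ι F) = (x : Matrix ι ι F) * Matrix.vecMulVec v w := by
  haveI : Nonempty ι := Fintype.card_pos_iff.mp hn.pos
  obtain ⟨x₀, y₀, ω, hp⟩ := hR.exists_hpair
  have hnF : ((Fintype.card ι : ℕ) : F) ≠ 0 := (hp.primitive hR hn).neZero' (n := Fintype.card ι) |>.out
  set E := Matrix.vecMulVec v w with hEdef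
  have hEE : E * E = 0 := by
    ext i j
    simp [E, Matrix.mul_apply, Matrix.vecMulVec_apply]
    rw [show ∑ k, v i * w k * (v k * w j) = v i * w j * (w ⬝ᵥ v) by
      simp only [dotProduct, Finset.mul_sum]; exact Finset.sum_congr rfl fun k _ => by ring]
    rw [hwv, mul_zero]
  have hEtr : E.trace = 0 := by
    rw [Matrix.trace_vecMulVec, dotProduct_comm]; exact hwv
  intro x hx
  by_contra hne
  set A : Matrix ι ι F := ((x⁻¹ : GL ι F) : Matrix ι ι F) * E * (x : Matrix ι ι F) with hAdef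
  have hAtr : A.trace = 0 := by
    rw [hAdef, Matrix.trace_units_conj' x E]; exact hEtr
  have hAv : A = Matrix.vecMulVec (((x⁻¹ : GL ι F) : Matrix ι ι F) *ᵥ v) (Matrix.vecMul w (x : Matrix ι ι F)) := by
    rw [hAdef, hEdef, Matrix.mul_vecMulVec, Matrix.vecMulVec_mul]
  have key : ∀ (c : F) (s : GL ι F), c ≠ 0 → (s : Matrix ι ι F) = 1 + c • E → (∀ y ∈ R, s * y * s⁻¹ ∈ R) →
      c ^ 2 * (A * E).trace = (Fintype.card ι : F) := by
    intro c s hc hs hsn
    have hsinv : ((s⁻¹ : GL ι F) : Matrix ι ι F) = 1 + (-c) • E := by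
      have h1 : (s : Matrix ι ι F) * (1 + (-c) • E) = 1 := by
        simp [hs, mul_add, add_mul, smul_smul, hEE]
      calc ((s⁻¹ : GL ι F) : Matrix ι ι F) = ((s⁻¹ : GL ι F) : Matrix ι ι F) * ((s : Matrix ι ι F) * (1 + (-c) • E)) := by
            rw [h1, mul_one]
        _ = _ := by rw [← mul_assoc, ← Units.val_mul, inv_mul_cancel, Units.val_one, one_mul]
    let g : GL ι F := x⁻¹ * (s * x * s⁻¹)
    have hgR : g ∈ R := mul_mem (inv_mem hx) (hsn x hx)
    have hgv : (g : Matrix ι ι F) = (1 + c • A) * (1 + (-c) • E) := by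
      simp only [g, Units.val_mul, hsinv, hs, hAdef]
      rw [← mul_assoc, ← mul_assoc]
      congr 1
      rw [mul_add, add_mul, mul_one, ← Units.val_mul, inv_mul_cancel, Units.val_one, Matrix.mul_smul,
        Matrix.smul_mul]
    by_cases hgs : g ∈ Geo.scalars ι F
    · exfalso
      obtain ⟨d, hd⟩ := (Geo.mem_scalars_iff g).mp hgs
      obtain ⟨u, hu0, hu1, hu2⟩ := exists_mulVec_kills hn3 w (Matrix.vecMul w (x : Matrix ι ι F))
      have hgu : (g : Matrix ι ι F) *ᵥ u = u := by
        have hEu : E *ᵥ u = 0 := by rw [hEdef, Matrix.vecMulVec_mulVec, hu1]; simp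
        have hAu : A *ᵥ u = 0 := by rw [hAv, Matrix.vecMulVec_mulVec, hu2]; simp
        rw [hgv, ← Matrix.mulVec_mulVec, Matrix.add_mulVec 1 ((-c) • E), Matrix.one_mulVec, Matrix.smul_mulVec, hEu,
          smul_zero, add_zero, Matrix.add_mulVec, Matrix.one_mulVec, Matrix.smul_mulVec, hAu, smul_zero, add_zero]
      rw [hd, Matrix.smul_mulVec, Matrix.one_mulVec] at hgu
      have hd1 : (d : F) = 1 := smul_left_injective F hu0 (hgu.trans (one_smul F u).symm)
      rw [hd1, one_smul] at hd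
      have h2 : s * x * s⁻¹ = x := by
        have : g = 1 := Units.ext (by simpa using hd)
        exact (inv_mul_eq_one.mp this).symm
      have h3 := congrArg Units.val (mul_inv_eq_iff_eq_mul.mp h2)
      rw [Units.val_mul, Units.val_mul, hs, add_mul, mul_add, one_mul, mul_one, Matrix.smul_mul, Matrix.mul_smul,
        add_right_inj] at h3
      exact hne (smul_right_injective _ hc h3)
    · obtain ⟨y, ω', hp'⟩ := hR.exists_pair hgR hgs
      have htr0 : (g : Matrix ι ι F).trace = 0 := by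
        have h1 := congrArg (fun M => (((y⁻¹ : GL ι F) : Matrix ι ι F) * M).trace) hp'.rel
        simp only [Matrix.mul_smul, Matrix.trace_smul, ← mul_assoc, Units.inv_mul, one_mul, smul_eq_mul] at h1
        rw [Matrix.trace_units_conj' y (g : Matrix ι ι F)] at h1
        rcases mul_left_eq_self₀.mp h1.symm with h2 | h2
        · exact absurd h2 hp'.ne_one
        · exact h2
      rw [hgv, trace_one_add_mul c hEtr hAtr, sub_eq_zero] at htr0
      exact htr0.symm
  have h1 := key a t ha ht htn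
  have h2 := key b t' hb ht' htn'
  have h3 : (A * E).trace ≠ 0 := fun h => hnF (by rw [← h1, h, mul_zero])
  exact hab (mul_right_cancel₀ h3 (h1.trans h2.symm))

/-- Maximality: a subgroup contained in a proper member is equal to its intersection with the ambient group. -/
theorem eq_inf_of_maximal {G : Type*} [Group G] {I H X : Subgroup G} (hH : Geo.IsMaximalIn I H) (hX : H ≤ X)
    (hIX : ¬ I ≤ X) : H = X ⊓ I := by
  rcases hH.2 (X ⊓ I) (le_inf hX hH.1.le) inf_le_right with h | h
  · exact h.symm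
  · exact absurd (h ▸ inf_le_left) hIX

end Cfsg.Agent.Aschbacher
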