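import Cfsg.Agent.Aschbacher.SesqForm
import Cfsg.Agent.Aschbacher.Linear
import Cfsg.Agent.Aschbacher.Involution

/-!
SU(n, q) lies in none of the geometric subgroups: transvections of the Hermitian form.
-/

set_option autoImplicit false
set_option linter.unusedSectionVars false
set_option linter.style.haveILetI false

namespace Cfsg.Agent.Aschbacher

open scoped MatrixGroups Matrix
open Module

variable {n : ℕ} {F : Type*} [Field F] [Fintype F] {q : ℕ}

/-- The map `x ↦ x^q` on a field with `q²` elements. -/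
structure IsConj (q : ℕ) (σ : F →+* F) : Prop where
  card : Fintype.card F = q ^ 2
  apply : ∀ a, σ a = a ^ q
  invol : ∀ a, σ (σ a) = a
  ne_id : ∃ a, σ a ≠ a

theorem exists_isConj (hQ : Fintype.card F = q ^ 2) :
    ∃ σ : F ≃+* F, σ ≠ RingEquiv.refl F ∧ IsConj q (σ : F →+* F) := by
  obtain ⟨σ, h1, h2, h3⟩ := exists_involution (F := F) hQ
  refine ⟨σ, h1, hQ, h3, h2, ?_⟩
  by_contra hcon
  push Not at hcon
  exact h1 (RingEquiv.ext hcon)

theorem IsConj.one_lt {σ : F →+* F} (hσ : IsConj q σ) : 1 < q := by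
  have h := hσ.card
  have := Fintype.one_lt_card (α := F)
  nlinarith

theorem IsConj.herm {σ : F →+* F} (hσ : IsConj q σ) : Herm σ (hermForm n F q) := by
  have he : ∀ u v : Fin n → F, hermForm n F q u v = ∑ i, u i * σ (v i) := fun u v => by
    simp [hermForm, hσ.apply]
  refine ⟨hσ.invol, fun x y v => ?_, fun c x v => ?_, fun v w => ?_, fun v hv => ?_⟩
  · simp [he, add_mul, Finset.sum_add_distrib]
  · simp [he, Finset.mul_sum, mul_assoc]
  · simp [he, map_sum, hσ.invol, mul_comm]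
  · obtain ⟨i, hi⟩ := Function.ne_iff.mp hv
    refine ⟨⟨Pi.single i 1, ?_⟩, ⟨Pi.single i 1, ?_⟩⟩
    · simpa [he, Pi.single_apply] using hi
    · simpa [he, Pi.single_apply] using hi

theorem IsConj.hermForm_apply {σ : F →+* F} (hσ : IsConj q σ) (u v : Fin n → F) :
    hermForm n F q u v = ∑ i, u i * σ (v i) := by simp [hermForm, hσ.apply]

theorem IsConj.fixed_subfield {σ : F →+* F} (hσ : IsConj q σ) :
    ∃ F₁ : Subfield F, Nat.card F₁ = q ∧ ∀ x, x ∈ F₁ ↔ σ x = x := by
  obtain ⟨F₁, h1, h2⟩ := exists_subfield_card two_pos hσ.card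
  exact ⟨F₁, h1, fun x => by rw [h2, hσ.apply]⟩

/-- A fixed element avoiding a small set. -/
theorem IsConj.exists_fixed {σ : F →+* F} (hσ : IsConj q σ) (s : Finset F) (hs : s.card < q) :
    ∃ a, σ a = a ∧ a ∉ s := by
  classical
  obtain ⟨F₁, h1, h2⟩ := hσ.fixed_subfield
  by_contra hcon
  push Not at hcon
  have hle : Nat.card F₁ ≤ Nat.card s :=
    Nat.card_le_card_of_injective (fun a : F₁ => (⟨(a : F), hcon a ((h2 _).mp a.2)⟩ : s))
      fun a b h => Subtype.ext (congrArg (fun x : s => (x : F)) h)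
  simp only [Nat.card_eq_fintype_card (α := s), Fintype.card_coe, h1] at hle
  omega

theorem IsConj.exists_skew {σ : F →+* F} (hσ : IsConj q σ) : ∃ c : F, c ≠ 0 ∧ c + σ c = 0 := by
  obtain ⟨a, ha⟩ := hσ.ne_id
  refine ⟨a - σ a, sub_ne_zero.mpr (Ne.symm ha), ?_⟩
  rw [map_sub, hσ.invol]
  ring

theorem IsConj.skew_mul {σ : F →+* F} (_hσ : IsConj q σ) {c μ : F} (hc : c + σ c = 0) (hμ : σ μ = μ) :
    c * μ + σ (c * μ) = 0 := by
  rw [map_mul, hμ, ← add_mul, hc, zero_mul]

/-- Three different solutions of `b * σ b = a` for a non-zero fixed element `a`. -/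
theorem IsConj.exists_three {σ : F →+* F} (hσ : IsConj q σ) {a : F} (ha : σ a = a) (ha0 : a ≠ 0) :
    ∃ s : Finset F, 2 < s.card ∧ ∀ b ∈ s, b ≠ 0 ∧ b * σ b = a := by
  classical
  obtain ⟨b, hb⟩ := exists_norm_eq hσ.card (c := a) (by rw [← hσ.apply, ha])
  have hb0 : b ≠ 0 := by
    rintro rfl
    rw [zero_pow (by omega)] at hb
    exact ha0 hb.symm
  obtain ⟨g, hg⟩ := IsCyclic.exists_generator (α := Fˣ)
  have hord : orderOf g = q ^ 2 - 1 := by
    rw [orderOf_eq_card_of_forall_mem_zpowers hg, Nat.card_eq_fintype_card, Fintype.card_units, hσ.card]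
  have hq := hσ.one_lt
  have hfac : q ^ 2 - 1 = (q - 1) * (q + 1) := by
    obtain ⟨k, rfl⟩ : ∃ k, q = k + 1 := ⟨q - 1, by omega⟩
    simp only [Nat.add_sub_cancel]
    have : (k + 1) ^ 2 = k * (k + 1 + 1) + 1 := by ring
    omega
  have hu : ((g ^ (q - 1) : Fˣ) : F) ^ (q + 1) = 1 := by
    rw [← Units.val_pow_eq_pow_val, ← pow_mul, ← hfac, ← hord, pow_orderOf_eq_one, Units.val_one]
  have hu' : orderOf (g ^ (q - 1)) = q + 1 := by
    rw [orderOf_pow' _ (by omega), hord, hfac, Nat.gcd_eq_right (dvd_mul_right _ _),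
      Nat.mul_div_cancel_left _ (by omega)]
  set u : Fˣ := g ^ (q - 1) with hu_def
  refine ⟨(Finset.range 3).image fun i => b * (u : F) ^ i, ?_, fun x hx => ?_⟩
  · rw [Finset.card_image_of_injOn, Finset.card_range]
    · omega
    intro i hi j hj hij
    have h1 : u ^ i = u ^ j := Units.ext (by simpa using mul_left_cancel₀ hb0 hij)
    simp only [Finset.coe_range, Set.mem_Iio] at hi hj
    exact pow_injOn_Iio_orderOf (x := u) (by simp [hu']; omega) (by simp [hu']; omega) h1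
  · obtain ⟨i, -, rfl⟩ := Finset.mem_image.mp hx
    refine ⟨mul_ne_zero hb0 (pow_ne_zero _ u.ne_zero), ?_⟩
    rw [hσ.apply, ← pow_succ', mul_pow, hb, ← pow_mul, mul_comm i, pow_mul, hu, one_pow, mul_one]

/-- The rank-one matrix of an isotropic vector. -/
def rankOne (σ : F →+* F) (v : Fin n → F) : Matrix (Fin n) (Fin n) F :=
  Matrix.vecMulVec v fun k => σ (v k)

theorem IsConj.rankOne_mulVec {σ : F →+* F} (hσ : IsConj q σ) (v u : Fin n → F) :
    rankOne σ v *ᵥ u = hermForm n F q u v • v := by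
  ext i
  simp only [rankOne, Matrix.mulVec, dotProduct, Matrix.vecMulVec_apply, Pi.smul_apply, smul_eq_mul,
    hσ.hermForm_apply, Finset.sum_mul]
  exact Finset.sum_congr rfl fun k _ => by ring

theorem IsConj.exists_transvection {σ : F →+* F} (hσ : IsConj q σ) {v : Fin n → F}
    (hv : hermForm n F q v v = 0) {c : F} (hc : c + σ c = 0) :
    ∃ t : GL (Fin n) F, t ∈ GU n F q ⊓ Geo.specialLinear (Fin n) F ∧
      (t : Matrix (Fin n) (Fin n) F) = 1 + c • rankOne σ v := by
  have hdet : (1 + c • rankOne σ v).det = 1 := by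
    rw [rankOne, ← Matrix.smul_vecMulVec, Matrix.vecMulVec_eq Unit, Matrix.det_one_add_replicateCol_mul_replicateRow,
      dotProduct_smul, smul_eq_mul]
    have : (fun k => σ (v k)) ⬝ᵥ v = hermForm n F q v v := by
      simp [dotProduct, hσ.hermForm_apply, mul_comm]
    rw [this, hv, mul_zero, add_zero]
  refine ⟨Matrix.GeneralLinearGroup.mkOfDetNeZero (1 + c • rankOne σ v) (by rw [hdet]; exact one_ne_zero), ⟨?_, ?_⟩, rfl⟩
  · have h := hσ.herm (n := n)
    have key : ∀ u w, hermForm n F q ((1 + c • rankOne σ v) *ᵥ u) ((1 + c • rankOne σ v) *ᵥ w) = hermForm n F q u w := by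
      intro u w
      simp only [Matrix.add_mulVec, Matrix.one_mulVec, Matrix.smul_mulVec, hσ.rankOne_mulVec, h.add_left, h.add_right,
        h.smul_left, h.smul_right, hv, mul_zero, add_zero]
      rw [← h.herm v w]
      linear_combination hermForm n F q u v * hermForm n F q v w * hc
    exact key
  · show Matrix.GeneralLinearGroup.det _ = 1
    exact Units.ext hdet

theorem IsConj.pair_isotropic {σ : F →+* F} (hσ : IsConj q σ) {i j : Fin n} (hij : i ≠ j) {b : F}
    (hb : b * σ b = -1) : hermForm n F q (Pi.single i 1 + Pi.single j b) (Pi.single i 1 + Pi.single j b) = 0 := by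
  rw [hσ.hermForm_apply, ← Finset.sum_subset (Finset.subset_univ {i, j}), Finset.sum_pair hij]
  · simp [Pi.single_eq_of_ne hij, Pi.single_eq_of_ne hij.symm, hb]
  · intro x _ hx
    simp only [Finset.mem_insert, Finset.mem_singleton, not_or] at hx
    simp [Pi.single_eq_of_ne hx.1, Pi.single_eq_of_ne hx.2]

theorem IsConj.hermForm_pair {σ : F →+* F} (hσ : IsConj q σ) (w : Fin n → F) {i j : Fin n} (hij : i ≠ j) (b : F) :
    hermForm n F q w (Pi.single i 1 + Pi.single j b) = w i + w j * σ b := by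
  rw [hσ.hermForm_apply, ← Finset.sum_subset (Finset.subset_univ {i, j}), Finset.sum_pair hij]
  · simp [Pi.single_eq_of_ne hij, Pi.single_eq_of_ne hij.symm]
  · intro x _ hx
    simp only [Finset.mem_insert, Finset.mem_singleton, not_or] at hx
    simp [Pi.single_eq_of_ne hx.1, Pi.single_eq_of_ne hx.2]

theorem su_irr (hQ : Fintype.card F = q ^ 2) : Irr (GU n F q ⊓ Geo.specialLinear (Fin n) F) := by
  classical
  obtain ⟨σ', -, hσ⟩ := exists_isConj hQ
  set σ : F →+* F := (σ' : F →+* F)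
  intro W hW
  by_cases hb : W = ⊥
  · exact Or.inl hb
  refine Or.inr ?_
  obtain ⟨w, hw, hw0⟩ := (Submodule.ne_bot_iff _).mp hb
  obtain ⟨c, hc0, hc⟩ := hσ.exists_skew
  have hiso : ∀ v, hermForm n F q v v = 0 → hermForm n F q w v ≠ 0 → v ∈ W := by
    intro v hv hne
    obtain ⟨t, ht, htv⟩ := hσ.exists_transvection hv hc
    have h1 := hW t ht w hw
    rw [htv, Matrix.add_mulVec, Matrix.one_mulVec, Matrix.smul_mulVec, hσ.rankOne_mulVec, smul_smul] at h1
    have h2 := W.sub_mem h1 hw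
    rw [add_sub_cancel_left] at h2
    exact (W.smul_mem_iff (mul_ne_zero hc0 hne)).mp h2
  obtain ⟨i, hi⟩ := Function.ne_iff.mp hw0
  obtain ⟨s, hs, hsb⟩ := hσ.exists_three (a := (-1 : F)) (by simp) (by simp)
  have hpair : ∀ j, i ≠ j → (Pi.single i 1 : Fin n → F) ∈ W ∧ (Pi.single j 1 : Fin n → F) ∈ W := by
    intro j hij
    have hbad : (s.filter fun b => w i + w j * σ b = 0).card ≤ 1 := by
      refine Finset.card_le_one.mpr fun b hb b' hb' => ?_
      simp only [Finset.mem_filter] at hb hb'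
      have hwj : w j ≠ 0 := fun h0 => hi (by simpa [h0] using hb.2)
      exact σ.injective (mul_left_cancel₀ hwj (by linear_combination hb.2 - hb'.2))
    have hgood : 1 < (s.filter fun b => ¬ (w i + w j * σ b = 0)).card := by
      have := Finset.card_filter_add_card_filter_not (s := s) (fun b => w i + w j * σ b = 0)
      omega
    obtain ⟨b, hb, b', hb', hne⟩ := Finset.one_lt_card.mp hgood
    simp only [Finset.mem_filter] at hb hb'
    have m1 := hiso _ (hσ.pair_isotropic hij (hsb b hb.1).2) (by rw [hσ.hermForm_pair w hij]; exact hb.2)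
    have m2 := hiso _ (hσ.pair_isotropic hij (hsb b' hb'.1).2) (by rw [hσ.hermForm_pair w hij]; exact hb'.2)
    have m3 := W.sub_mem m1 m2
    rw [add_sub_add_left_eq_sub, ← Pi.single_sub] at m3
    have hj : (Pi.single j 1 : Fin n → F) ∈ W := by
      have := W.smul_mem (b - b')⁻¹ m3
      rwa [← Pi.single_smul, smul_eq_mul, inv_mul_cancel₀ (sub_ne_zero.mpr hne)] at this
    refine ⟨?_, hj⟩
    have := W.sub_mem m1 (W.smul_mem b hj)
    rwa [← Pi.single_smul, smul_eq_mul, mul_one, add_sub_cancel_right] at this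
  rw [eq_top_iff]
  intro v _
  rw [pi_eq_sum_univ' v]
  refine W.sum_mem fun j _ => W.smul_mem _ ?_
  rcases eq_or_ne i j with rfl | hij
  · by_cases h : ∃ j, i ≠ j
    · obtain ⟨j, hj⟩ := h
      exact (hpair j hj).1
    · push Not at h
      have hwi : w = w i • (Pi.single i 1 : Fin n → F) := funext fun k => by rw [← h k]; simp
      rw [hwi] at hw
      exact (W.smul_mem_iff hi).mp hw
  · exact (hpair j hij).2

theorem su_not_le_subspaceStabilizer (hQ : Fintype.card F = q ^ 2) {W : Submodule F (Fin n → F)} (hb : W ≠ ⊥)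
    (ht : W ≠ ⊤) : ¬ GU n F q ⊓ Geo.specialLinear (Fin n) F ≤ Geo.subspaceStabilizer W := by
  intro h
  rcases su_irr hQ W (fun g hg w hw => (h hg w).mp hw) with h1 | h1
  · exact hb h1
  · exact ht h1

theorem IsConj.commutant {σ : F →+* F} (hσ : IsConj q σ) (hn : 3 ≤ n) {M : Matrix (Fin n) (Fin n) F}
    (hM : ∀ v, hermForm n F q v v = 0 → M * rankOne σ v = rankOne σ v * M) :
    ∃ d : F, M = d • (1 : Matrix (Fin n) (Fin n) F) := by
  classical
  have h := hσ.herm (n := n)
  obtain ⟨s, hs, hsb⟩ := hσ.exists_three (a := (-1 : F)) (by simp) (by simp)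
  obtain ⟨b, hb, b', hb', hne⟩ := Finset.one_lt_card.mp (show 1 < s.card by omega)
  have heig : ∀ v, hermForm n F q v v = 0 → v ≠ 0 → ∃ l : F, M *ᵥ v = l • v := by
    intro v hv hv0
    obtain ⟨u, hu⟩ := (h.nondegenerate v hv0).1
    have h1 := congrArg (fun A => A *ᵥ u) (hM v hv)
    simp only [← Matrix.mulVec_mulVec, hσ.rankOne_mulVec, Matrix.mulVec_smul] at h1
    exact ⟨(hermForm n F q u v)⁻¹ * hermForm n F q (M *ᵥ u) v, by rw [← smul_smul, ← h1, inv_smul_smul₀ hu]⟩
  have hpair : ∀ i j : Fin n, i ≠ j → ∀ b ∈ s, ∃ l : F, ∀ k, M k i + b * M k j =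
      l * (Pi.single i 1 + Pi.single j b : Fin n → F) k := by
    intro i j hij b hb
    obtain ⟨l, hl⟩ := heig _ (hσ.pair_isotropic hij (hsb b hb).2) (fun h0 => by
      simpa [Pi.single_eq_of_ne hij] using congrFun h0 i)
    exact ⟨l, fun k => by simpa [Matrix.mulVec_add, Matrix.mulVec_single, mul_comm b] using congrFun hl k⟩
  have hoff : ∀ k j, k ≠ j → M k j = 0 := by
    intro k j hkj
    obtain ⟨i, hik, hij⟩ := exists_third (by simpa using hn) k j
    obtain ⟨l, hl⟩ := hpair i j hij b hb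
    obtain ⟨l', hl'⟩ := hpair i j hij b' hb'
    have h1 := hl k
    have h2 := hl' k
    simp only [Pi.add_apply, Pi.single_eq_of_ne hik.symm, Pi.single_eq_of_ne hkj, add_zero, mul_zero] at h1 h2
    have h3 : (b - b') * M k j = 0 := by linear_combination h1 - h2
    exact (mul_eq_zero.mp h3).resolve_left (sub_ne_zero.mpr hne)
  have hdiag : ∀ i j, M i i = M j j := by
    intro i j
    rcases eq_or_ne i j with rfl | hij
    · rfl
    obtain ⟨l, hl⟩ := hpair i j hij b hb
    have h1 := hl i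
    have h2 := hl j
    simp only [hoff i j hij, hoff j i hij.symm, Pi.add_apply, Pi.single_eq_same, Pi.single_eq_of_ne hij,
      Pi.single_eq_of_ne hij.symm, mul_zero, add_zero, zero_add, mul_one] at h1 h2
    rw [h1]
    exact (mul_left_cancel₀ (hsb b hb).1 (by linear_combination h2)).symm
  refine ⟨M ⟨0, by omega⟩ ⟨0, by omega⟩, Matrix.ext fun i j => ?_⟩
  rcases eq_or_ne i j with rfl | hij
  · simp [hdiag i ⟨0, by omega⟩]
  · simp [hoff i j hij, hij]

theorem su_not_le_subalgebraNormalizer (hQ : Fintype.card F = q ^ 2) (hn : 3 ≤ n) {r : ℕ}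
    {K : Subalgebra F (Matrix (Fin n) (Fin n) F)} (hK : Geo.IsFieldSubalgebra r K) (hr : 1 < r) :
    ¬ GU n F q ⊓ Geo.specialLinear (Fin n) F ≤ Geo.subalgebraNormalizer K := by
  intro h
  obtain ⟨σ', -, hσ⟩ := exists_isConj hQ
  haveI : Nonempty (Fin n) := ⟨⟨0, by omega⟩⟩
  obtain ⟨c, hc0, hc⟩ := hσ.exists_skew
  have hall : ∀ k ∈ K, ∃ d : F, k = d • (1 : Matrix (Fin n) (Fin n) F) := by
    intro k hk
    refine hσ.commutant hn fun v hv => ?_
    obtain ⟨t, ht, htv⟩ := hσ.exists_transvection hv hc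
    have h1 := commute_of_normalizes (by simpa using hn) hK (t := t) (v := c • v) (w := fun i => (σ' : F →+* F) (v i))
      (by rw [htv, rankOne, Matrix.smul_vecMulVec]) (h ht) k hk
    rw [htv, add_mul, mul_add, one_mul, mul_one, Matrix.smul_mul, Matrix.mul_smul] at h1
    exact (smul_right_injective _ hc0 (add_left_cancel h1)).symm
  have hle : Subalgebra.toSubmodule K ≤ Submodule.span F {(1 : Matrix (Fin n) (Fin n) F)} := fun k hk => by
    obtain ⟨d, rfl⟩ := hall k hk
    exact Submodule.smul_mem _ _ (Submodule.mem_span_singleton_self _)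
  have h1 := Submodule.finrank_mono hle
  rw [finrank_span_singleton (one_ne_zero : (1 : Matrix (Fin n) (Fin n) F) ≠ 0)] at h1
  rw [show finrank F (Subalgebra.toSubmodule K) = finrank F K from rfl, hK.finrank_eq] at h1
  omega

theorem su_not_le_normalizer (hQ : Fintype.card F = q ^ 2) (hq : 3 < q) (hn : n.Prime) (hn3 : 3 ≤ n)
    {R : Subgroup (GL (Fin n) F)} (hR : ClassTwo R) :
    ¬ GU n F q ⊓ Geo.specialLinear (Fin n) F ≤ Geo.subgroupNormalizer R := by
  classical
  intro h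
  obtain ⟨σ', -, hσ⟩ := exists_isConj hQ
  set σ : F →+* F := (σ' : F →+* F)
  haveI : Nonempty (Fin n) := ⟨⟨0, hn.pos⟩⟩
  obtain ⟨c, hc0, hc⟩ := hσ.exists_skew
  obtain ⟨μ, hμ, hμs⟩ := hσ.exists_fixed {0, 1, -1} (by
    have := Finset.card_le_three (a := (0 : F)) (b := 1) (c := -1)
    omega)
  simp only [Finset.mem_insert, Finset.mem_singleton, not_or] at hμs
  have hab : c ^ 2 ≠ (c * μ) ^ 2 := by
    intro hh
    have h1 : (μ - 1) * (μ + 1) = 0 := by
      have : c ^ 2 * ((μ - 1) * (μ + 1)) = 0 := by linear_combination -hh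
      exact (mul_eq_zero.mp this).resolve_left (pow_ne_zero _ hc0)
    rcases mul_eq_zero.mp h1 with h2 | h2
    · exact hμs.2.1 (sub_eq_zero.mp h2)
    · exact hμs.2.2 (eq_neg_of_add_eq_zero_left h2)
  have hnm : ∀ s ∈ GU n F q ⊓ Geo.specialLinear (Fin n) F, ∀ r ∈ R, s * r * s⁻¹ ∈ R := fun s hs r hr =>
    (Subgroup.mem_normalizer_iff.mp (h hs) r).mp hr
  have hall : ∀ z ∈ R, ∃ d : F, (z : Matrix (Fin n) (Fin n) F) = d • (1 : Matrix (Fin n) (Fin n) F) := by
    intro z hz
    refine hσ.commutant hn3 fun v hv => ?_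
    obtain ⟨t, ht, htv⟩ := hσ.exists_transvection hv hc
    obtain ⟨t', ht', htv'⟩ := hσ.exists_transvection hv (hσ.skew_mul hc hμ)
    exact (hR.commute_of_transvection (by simpa using hn) (by simpa using hn3) (v := v) (w := fun i => σ (v i))
      (by rw [← hv]; simp [dotProduct, hσ.hermForm_apply, mul_comm]) hc0 hab (mul_ne_zero hc0 hμs.1)
      (t := t) (t' := t') htv htv' (hnm t ht) (hnm t' ht') z hz).symm
  refine hR.notComm fun a ha b _ => ?_
  obtain ⟨d, hd⟩ := hall a ha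
  exact Units.ext (by simp [hd])

/-- An isotropic vector with at least three non-zero coordinates. -/
theorem IsConj.exists_wide {σ : F →+* F} (hσ : IsConj q σ) (hn : 3 ≤ n) (h : 4 ≤ n ∨ 3 ≤ q) :
    ∃ (v : Fin n → F) (i₀ i₁ i₂ : Fin n), i₁ ≠ i₀ ∧ i₂ ≠ i₀ ∧ i₁ ≠ i₂ ∧ v i₀ = 1 ∧ v i₁ ≠ 0 ∧ v i₂ ≠ 0 ∧
      hermForm n F q v v = 0 := by
  classical
  by_cases hq : 3 ≤ q
  · obtain ⟨a, ha, has⟩ := hσ.exists_fixed {0, -1} (by
      have := Finset.card_le_two (a := (0 : F)) (b := -1)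
      omega)
    simp only [Finset.mem_insert, Finset.mem_singleton, not_or] at has
    obtain ⟨s, hs, hsb⟩ := hσ.exists_three ha has.1
    obtain ⟨x, hx⟩ := Finset.card_pos.mp (by omega : 0 < s.card)
    have hb0 : -1 - a ≠ 0 := fun h0 => has.2 (sub_eq_zero.mp h0).symm
    obtain ⟨s', hs', hsb'⟩ := hσ.exists_three (a := -1 - a) (by simp [ha]) hb0
    obtain ⟨y, hy⟩ := Finset.card_pos.mp (by omega : 0 < s'.card)
    refine ⟨fun k => if (k : ℕ) = 0 then 1 else if (k : ℕ) = 1 then x else if (k : ℕ) = 2 then y else 0,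
      ⟨0, by omega⟩, ⟨1, by omega⟩, ⟨2, by omega⟩, by simp, by simp, by simp, by simp, by simpa using (hsb x hx).1,
      by simpa using (hsb' y hy).1, ?_⟩
    rw [hσ.hermForm_apply, ← Finset.sum_subset (Finset.subset_univ
      ({⟨0, by omega⟩, ⟨1, by omega⟩, ⟨2, by omega⟩} : Finset (Fin n)))]
    · rw [Finset.sum_insert (by simp), Finset.sum_pair (by simp)]
      simp [(hsb x hx).2, (hsb' y hy).2]
    · intro k _ hk
      simp only [Finset.mem_insert, Finset.mem_singleton, not_or, Fin.ext_iff] at hk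
      simp [hk.1, hk.2.1, hk.2.2]
  · have hn4 : 4 ≤ n := h.resolve_right hq
    obtain ⟨s, hs, hsb⟩ := hσ.exists_three (a := (-1 : F)) (by simp) (by simp)
    obtain ⟨x, hx⟩ := Finset.card_pos.mp (by omega : 0 < s.card)
    refine ⟨fun k => if (k : ℕ) = 0 then 1 else if (k : ℕ) = 1 then x else if (k : ℕ) = 2 then 1 else
        if (k : ℕ) = 3 then x else 0,
      ⟨0, by omega⟩, ⟨1, by omega⟩, ⟨2, by omega⟩, by simp, by simp, by simp, by simp, by simpa using (hsb x hx).1,
      by simp, ?_⟩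
    rw [hσ.hermForm_apply, ← Finset.sum_subset (Finset.subset_univ
      ({⟨0, by omega⟩, ⟨1, by omega⟩, ⟨2, by omega⟩, ⟨3, by omega⟩} : Finset (Fin n)))]
    · rw [Finset.sum_insert (by simp), Finset.sum_insert (by simp), Finset.sum_pair (by simp)]
      simp [(hsb x hx).2]
    · intro k _ hk
      simp only [Finset.mem_insert, Finset.mem_singleton, not_or, Fin.ext_iff] at hk
      simp [hk.1, hk.2.1, hk.2.2.1, hk.2.2.2]

theorem basisForm_coord (σ : F →+* F) (b : Module.Basis (Fin n) F (Fin n → F)) (u v : Fin n → F) :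
    basisForm σ b u v = ∑ i, b.equivFun u i * σ (b.equivFun v i) := rfl

/-- An orthonormal basis gives a unitary coordinate matrix. -/
theorem IsConj.coordGL_mem {σ : F →+* F} (hσ : IsConj q σ) (b : Module.Basis (Fin n) F (Fin n → F))
    (hb : ∀ i j, hermForm n F q (b i) (b j) = if i = j then 1 else 0) : coordGL b ∈ GU n F q := by
  have h := hσ.herm (n := n)
  intro u v
  show hermForm n F q ((coordGL b : Matrix (Fin n) (Fin n) F) *ᵥ u) ((coordGL b : Matrix (Fin n) (Fin n) F) *ᵥ v) = _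
  rw [coordGL_mulVec, coordGL_mulVec, hσ.hermForm_apply]
  conv_rhs => rw [← b.sum_equivFun u, ← b.sum_equivFun v]
  rw [h.sum_left]
  refine Finset.sum_congr rfl fun i _ => ?_
  rw [h.smul_left, h.herm (b i), h.sum_left, map_sum, Finset.sum_eq_single i]
  · rw [h.smul_left, map_mul, ← h.herm, hb, if_pos rfl, mul_one]
  · intro j _ hj
    rw [h.smul_left, map_mul, ← h.herm, hb, if_neg (Ne.symm hj), mul_zero]
  · simp

theorem su_not_le_orthFrame (hQ : Fintype.card F = q ^ 2) (hn : 3 ≤ n) (hnq : 4 ≤ n ∨ 3 ≤ q)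
    (b : Module.Basis (Fin n) F (Fin n → F)) (ho : ∀ i j, i ≠ j → hermForm n F q (b i) (b j) = 0)
    (hd : ∀ i, hermForm n F q (b i) (b i) ≠ 0) :
    ¬ GU n F q ⊓ Geo.specialLinear (Fin n) F ≤ Geo.decompositionStabilizer (fun i => Submodule.span F {b i}) := by
  classical
  intro hle
  obtain ⟨σ', -, hσ⟩ := exists_isConj hQ
  set σ : F →+* F := (σ' : F →+* F)
  have h := hσ.herm (n := n)
  have hs : ∀ i, ∃ s : F, s ≠ 0 ∧ hermForm n F q (s • b i) (s • b i) = 1 := by
    intro i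
    have hfix : σ (hermForm n F q (b i) (b i))⁻¹ = (hermForm n F q (b i) (b i))⁻¹ := by
      rw [map_inv₀, ← h.herm]
    obtain ⟨s, hs, hsb⟩ := hσ.exists_three hfix (inv_ne_zero (hd i))
    obtain ⟨x, hx⟩ := Finset.card_pos.mp (by omega : 0 < s.card)
    exact ⟨x, (hsb x hx).1, by rw [h.smul_left, h.smul_right, ← mul_assoc, (hsb x hx).2, inv_mul_cancel₀ (hd i)]⟩
  choose s hs0 hs1 using hs
  let e := b.unitsSMul fun i => Units.mk0 (s i) (hs0 i)
  have he : ∀ i, e i = s i • b i := fun i => by simp [e, Module.Basis.unitsSMul_apply]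
  have hB := hσ.coordGL_mem e (fun i j => by
    rw [he, he]
    rcases eq_or_ne i j with rfl | hij
    · rw [if_pos rfl, hs1]
    · rw [if_neg hij, h.smul_left, h.smul_right, ho i j hij, mul_zero, mul_zero])
  set B := coordGL e
  obtain ⟨v, i₀, i₁, i₂, h10, h20, h12, hv0, hv1, hv2, hvv⟩ := hσ.exists_wide hn hnq
  obtain ⟨c, hc0, hc⟩ := hσ.exists_skew
  obtain ⟨t, ht, htv⟩ := hσ.exists_transvection hvv hc
  have hg : B⁻¹ * t * B ∈ GU n F q ⊓ Geo.specialLinear (Fin n) F := by
    refine ⟨(GU n F q).mul_mem ((GU n F q).mul_mem ((GU n F q).inv_mem hB) ht.1) hB, ?_⟩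
    show Matrix.GeneralLinearGroup.det _ = 1
    rw [map_mul, map_mul, map_inv, show Matrix.GeneralLinearGroup.det t = 1 from ht.2, mul_one, inv_mul_cancel]
  obtain ⟨τ, hτ⟩ := hle hg
  have h1 : ((B⁻¹ * t * B : GL (Fin n) F) : Matrix (Fin n) (Fin n) F) *ᵥ b i₀ ∈ Submodule.span F {b (τ i₀)} := by
    have h2 : ((B⁻¹ * t * B : GL (Fin n) F) : Matrix (Fin n) (Fin n) F) *ᵥ b i₀ ∈ (Submodule.span F {b i₀}).map
        (Matrix.toLin' ((B⁻¹ * t * B : GL (Fin n) F) : Matrix (Fin n) (Fin n) F)) :=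
      ⟨b i₀, Submodule.mem_span_singleton_self _, Matrix.toLin'_apply _ _⟩
    rwa [hτ i₀] at h2
  obtain ⟨d, hd'⟩ := Submodule.mem_span_singleton.mp h1
  have hBb : ∀ i, (B : Matrix (Fin n) (Fin n) F) *ᵥ b i = Pi.single i (s i)⁻¹ := fun i => by
    have : b i = (s i)⁻¹ • e i := by rw [he, inv_smul_smul₀ (hs0 i)]
    rw [this, Matrix.mulVec_smul, coordGL_mulVec]
    funext k
    simp [Module.Basis.equivFun_apply, Finsupp.single_apply, Pi.single_apply, eq_comm]
  have h3 := congrArg (fun x => (B : Matrix (Fin n) (Fin n) F) *ᵥ x) hd'.symm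
  simp only [Units.val_mul, ← Matrix.mulVec_mulVec, mulVec_inv_mulVec, hBb, Matrix.mulVec_smul] at h3
  rw [htv, Matrix.add_mulVec, Matrix.one_mulVec, Matrix.smul_mulVec, hσ.rankOne_mulVec,
    hσ.hermForm_apply, Finset.sum_eq_single i₀ (fun k _ hk => by simp [Pi.single_eq_of_ne hk]) (by simp)] at h3
  have e1 := congrFun h3 i₁
  have e2 := congrFun h3 i₂
  simp only [Pi.add_apply, Pi.smul_apply, smul_eq_mul, Pi.single_eq_same, hv0, map_one, mul_one,
    Pi.single_eq_of_ne h10, Pi.single_eq_of_ne h20, zero_add] at e1 e2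
  have hτ1 : i₁ = τ i₀ := by
    by_contra hne
    rw [Pi.single_eq_of_ne hne, mul_zero] at e1
    exact mul_ne_zero hc0 (mul_ne_zero (inv_ne_zero (hs0 i₀)) hv1) e1
  have hτ2 : i₂ = τ i₀ := by
    by_contra hne
    rw [Pi.single_eq_of_ne hne, mul_zero] at e2
    exact mul_ne_zero hc0 (mul_ne_zero (inv_ne_zero (hs0 i₀)) hv2) e2
  exact h12 (hτ1.trans hτ2.symm)

theorem su_not_le_subfieldSubgroup (hQ : Fintype.card F = q ^ 2) (hn : 3 ≤ n) {F₁ : Subfield F} (hF₁ : F₁ ≠ ⊤)
    (P : GL (Fin n) F) : ¬ GU n F q ⊓ Geo.specialLinear (Fin n) F ≤ Geo.subfieldSubgroup F₁ P := by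
  classical
  intro hle
  obtain ⟨σ', -, hσ⟩ := exists_isConj hQ
  set σ : F →+* F := (σ' : F →+* F)
  have h := hσ.herm (n := n)
  obtain ⟨p, hp⟩ := CharP.exists F
  haveI : Fact p.Prime := ⟨CharP.char_is_prime F p⟩
  have hconj : ∀ A : Matrix (Fin n) (Fin n) F, ∀ B : Matrix (Fin n) (Fin n) F,
      ((P⁻¹ : GL (Fin n) F) : Matrix (Fin n) (Fin n) F) * A * P *
        (((P⁻¹ : GL (Fin n) F) : Matrix (Fin n) (Fin n) F) * B * P) =
      ((P⁻¹ : GL (Fin n) F) : Matrix (Fin n) (Fin n) F) * (A * B) * P := fun A B => by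
    simp only [mul_assoc, ← mul_assoc (P : Matrix (Fin n) (Fin n) F), ← Units.val_mul, mul_inv_cancel, Units.val_one,
      one_mul]
  let E : (Fin n → F) → Matrix (Fin n) (Fin n) F := fun v =>
    ((P⁻¹ : GL (Fin n) F) : Matrix (Fin n) (Fin n) F) * rankOne σ v * P
  have hrat : ∀ v, hermForm n F q v v = 0 → ∀ c, c + σ c = 0 → Rational F₁ (c • E v) := by
    intro v hv c hc
    obtain ⟨t, ht, htv⟩ := hσ.exists_transvection hv hc
    obtain ⟨a, ha, hat⟩ := hle ht
    obtain ⟨_, ⟨a₀, rfl⟩, z, hz, rfl⟩ := Subgroup.mem_sup_of_normal_right.mp ha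
    obtain ⟨μ, hμ⟩ := (Geo.mem_scalars_iff z).mp hz
    set A : Matrix (Fin n) (Fin n) F := ((Matrix.GeneralLinearGroup.map F₁.subtype a₀ : GL (Fin n) F) : Matrix (Fin n) (Fin n) F) with hA
    have hAr : Rational F₁ A := fun i j => ((a₀ : Matrix (Fin n) (Fin n) F₁) i j).2
    have hteq : (1 : Matrix (Fin n) (Fin n) F) + c • E v = (μ : F) • A := by
      have h1 : (P⁻¹ * t * P : GL (Fin n) F) = Matrix.GeneralLinearGroup.map F₁.subtype a₀ * z := by
        rw [← hat]
        simp only [MulEquiv.coe_toMonoidHom, MulAut.conj_apply]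
        group
      have h2 := congrArg (fun g : GL (Fin n) F => (g : Matrix (Fin n) (Fin n) F)) h1
      simp only [Units.val_mul, htv, hμ, Matrix.mul_smul, mul_one, ← hA] at h2
      rw [← h2, Matrix.mul_add, Matrix.add_mul, mul_one, ← Units.val_mul, inv_mul_cancel, Units.val_one,
        Matrix.mul_smul, Matrix.smul_mul]
    have hnil : (c • E v) * (c • E v) = 0 := by
      rw [Matrix.smul_mul, Matrix.mul_smul, hconj]
      have : rankOne σ v * rankOne σ v = 0 := by
        rw [rankOne, Matrix.vecMulVec_mul_vecMulVec,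
          show (fun k => σ (v k)) ⬝ᵥ v = hermForm n F q v v by simp [dotProduct, hσ.hermForm_apply, mul_comm],
          hv, zero_smul, Matrix.vecMulVec_zero]
      rw [this, mul_zero, zero_mul, smul_zero, smul_zero]
    have hpow : ∀ k : ℕ, ((1 : Matrix (Fin n) (Fin n) F) + c • E v) ^ k = 1 + (k : F) • (c • E v) := by
      intro k
      induction k with
      | zero => simp
      | succ k ih =>
        rw [pow_succ, ih, add_mul, one_mul, Matrix.smul_mul, mul_add, mul_one, hnil, add_zero]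
        push_cast
        rw [add_smul, one_smul]
        abel
    have hμ1 : (μ : F) ^ p ∈ F₁ := by
      have h3 := hpow p
      rw [CharP.cast_eq_zero, zero_smul, add_zero, hteq, smul_pow] at h3
      have hAp : Rational F₁ (A ^ p) := by
        have : ∀ k : ℕ, Rational F₁ (A ^ k) := by
          intro k
          induction k with
          | zero =>
            intro i j
            rcases eq_or_ne i j with rfl | hij
            · simp [F₁.one_mem]
            · simp [hij, F₁.zero_mem]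
          | succ k ih => rw [pow_succ]; exact ih.mul hAr
        exact this p
      have h4 : (μ : F) ^ p * (A ^ p) ⟨0, by omega⟩ ⟨0, by omega⟩ = 1 := by
        simpa using congrFun (congrFun h3 ⟨0, by omega⟩) ⟨0, by omega⟩
      rw [eq_inv_of_mul_eq_one_left h4]
      exact F₁.inv_mem (hAp _ _)
    have hμF : (μ : F) ∈ F₁ := by
      rw [mem_subfield_iff_pow] at hμ1 ⊢
      apply frobenius_inj F p
      rw [frobenius_def, frobenius_def, ← pow_mul, mul_comm, pow_mul, hμ1]
    intro i j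
    have h5 := congrFun (congrFun hteq i) j
    rw [Matrix.add_apply, Matrix.smul_apply (A := A), smul_eq_mul] at h5
    rw [eq_sub_of_add_eq' h5]
    refine F₁.sub_mem (F₁.mul_mem hμF (hAr i j)) ?_
    rcases eq_or_ne i j with rfl | hij
    · simp [F₁.one_mem]
    · simp [hij, F₁.zero_mem]
  obtain ⟨s, hs, hsb⟩ := hσ.exists_three (a := (-1 : F)) (by simp) (by simp)
  obtain ⟨c, hc0, hc⟩ := hσ.exists_skew
  obtain ⟨b, hb⟩ := Finset.card_pos.mp (by omega : 0 < s.card)
  set i₀ : Fin n := ⟨0, by omega⟩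
  set i₁ : Fin n := ⟨1, by omega⟩
  set i₂ : Fin n := ⟨2, by omega⟩
  have h01 : i₀ ≠ i₁ := by simp [i₀, i₁]
  have h12 : i₁ ≠ i₂ := by simp [i₁, i₂]
  have h20 : i₂ ≠ i₀ := by simp [i₀, i₂]
  set v₁ : Fin n → F := Pi.single i₀ 1 + Pi.single i₁ b
  have hv₁ : hermForm n F q v₁ v₁ = 0 := hσ.pair_isotropic h01 (hsb b hb).2
  have hE0 : E v₁ ≠ 0 := by
    intro h0
    have h1 : rankOne σ v₁ = 0 := by
      have h2 := congrArg (fun A => (P : Matrix (Fin n) (Fin n) F) * A * ((P⁻¹ : GL (Fin n) F) : Matrix (Fin n) (Fin n) F)) h0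
      simp only [E, mul_assoc] at h2
      simp only [← mul_assoc, ← Units.val_mul, mul_inv_cancel, Units.val_one, one_mul, mul_zero, zero_mul] at h2
      simpa only [mul_assoc, ← Units.val_mul, mul_inv_cancel, Units.val_one, mul_one] using h2
    have h3 := congrFun (congrFun h1 i₀) i₀
    simp [rankOne, Matrix.vecMulVec_apply, v₁, Pi.single_eq_of_ne h01] at h3
  obtain ⟨i, j, hij⟩ : ∃ i j, E v₁ i j ≠ 0 := by
    by_contra hcon
    push Not at hcon
    exact hE0 (Matrix.ext hcon)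
  have hfix : ∀ μ, σ μ = μ → μ ∈ F₁ := by
    intro μ hμ
    have h1 := hrat v₁ hv₁ c hc i j
    have h2 := hrat v₁ hv₁ (c * μ) (hσ.skew_mul hc hμ) i j
    rw [Matrix.smul_apply, smul_eq_mul] at h1 h2
    have h3 := F₁.mul_mem h2 (F₁.inv_mem h1)
    rwa [mul_comm c μ, mul_assoc μ, mul_assoc, mul_inv_cancel₀ (mul_ne_zero hc0 hij), mul_one] at h3
  obtain ⟨F₂, hF₂, hmem₂⟩ := hσ.fixed_subfield
  have hF12 : ∀ x ∈ F₁, σ x = x := by
    obtain ⟨m, hm, hcard⟩ := exists_card_pow F₁
    have hle2 : q ≤ Nat.card F₁ := by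
      rw [← hF₂]
      exact Nat.card_le_card_of_injective (fun a : F₂ => (⟨(a : F), hfix _ ((hmem₂ _).mp a.2)⟩ : F₁))
        fun a b h => Subtype.ext (congrArg (fun x : F₁ => (x : F)) h)
    have hm1 : m ≠ 1 := fun h1 => hF₁ ((subfield_eq_top_iff F₁).mpr (by rw [hcard, h1, pow_one]))
    have hq : Nat.card F₁ = q := by
      have h3 : Nat.card F₁ ^ 2 ≤ Nat.card F₁ ^ m := Nat.pow_le_pow_right (Nat.card_pos) (by omega)
      rw [← hcard, hσ.card] at h3
      exact le_antisymm ((Nat.pow_le_pow_iff_left two_ne_zero).mp h3) hle2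
    intro x hx
    rw [hσ.apply, ← hq]
    exact (mem_subfield_iff_pow F₁ x).mp hx
  have htri : ∀ b₁ ∈ s, ∀ b₂ ∈ s, ∀ b₃ ∈ s, (b₁ * b₂ * b₃) * (b₁ * b₂ * b₃) = 1 := by
    intro b₁ hb₁ b₂ hb₂ b₃ hb₃
    set w₁ : Fin n → F := Pi.single i₀ 1 + Pi.single i₁ b₁ with hw₁
    set w₂ : Fin n → F := Pi.single i₁ 1 + Pi.single i₂ b₂ with hw₂
    set w₃ : Fin n → F := Pi.single i₂ 1 + Pi.single i₀ b₃ with hw₃
    have r1 := hrat w₁ (hσ.pair_isotropic h01 (hsb _ hb₁).2) c hc
    have r2 := hrat w₂ (hσ.pair_isotropic h12 (hsb _ hb₂).2) c hc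
    have r3 := hrat w₃ (hσ.pair_isotropic h20 (hsb _ hb₃).2) c hc
    have htr : ((c • E w₁) * (c • E w₂) * (c • E w₃)).trace ∈ F₁ := sum_mem fun k _ => (r1.mul r2).mul r3 k k
    have hcomp : ((c • E w₁) * (c • E w₂) * (c • E w₃)).trace = c ^ 3 * σ (b₁ * b₂ * b₃) := by
      simp only [Matrix.smul_mul, Matrix.mul_smul, Matrix.trace_smul, smul_eq_mul, E, hconj]
      rw [Matrix.trace_mul_cycle, ← Units.val_mul, mul_inv_cancel, Units.val_one, one_mul]
      simp only [rankOne, Matrix.vecMulVec_mul_vecMulVec, smul_dotProduct, smul_eq_mul, Matrix.trace_vecMulVec,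
        dotProduct_smul]
      have e : ∀ x y : Fin n → F, (fun k => σ (x k)) ⬝ᵥ y = hermForm n F q y x := fun x y => by
        simp [dotProduct, hσ.hermForm_apply, mul_comm]
      rw [dotProduct_comm w₁, e, e, e, hw₁, hw₂, hw₃, hσ.hermForm_pair _ h01, hσ.hermForm_pair _ h12,
        hσ.hermForm_pair _ h20]
      simp [Pi.single_eq_of_ne h01, Pi.single_eq_of_ne h01.symm, Pi.single_eq_of_ne h12, Pi.single_eq_of_ne h12.symm,
        Pi.single_eq_of_ne h20, Pi.single_eq_of_ne h20.symm]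
      ring
    rw [hcomp] at htr
    have h1 := hF12 _ htr
    rw [map_mul, map_pow, hσ.invol, eq_neg_of_add_eq_zero_right hc] at h1
    set Z₀ := b₁ * b₂ * b₃ with hZ
    have hN : Z₀ * σ Z₀ = -1 := by
      rw [hZ, map_mul, map_mul]
      linear_combination (b₂ * σ b₂ * (b₃ * σ b₃)) * (hsb _ hb₁).2 - (b₃ * σ b₃) * (hsb _ hb₂).2 + (hsb _ hb₃).2
    have h2 : σ Z₀ = - Z₀ :=
      mul_left_cancel₀ (pow_ne_zero 3 hc0) (by linear_combination -h1)
    rw [h2] at hN
    linear_combination -hN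
  obtain ⟨x, hx, y, hy, hxy⟩ := Finset.one_lt_card.mp (show 1 < s.card by omega)
  obtain ⟨z, hz, hzne⟩ : ∃ z ∈ s, z ≠ x ∧ z ≠ -x := by
    by_contra hcon
    push Not at hcon
    have hsub : s ⊆ {x, -x} := fun z hz => by
      simp only [Finset.mem_insert, Finset.mem_singleton]
      by_cases hzx : z = x
      · exact Or.inl hzx
      · exact Or.inr (hcon z hz hzx)
    have h1 := Finset.card_le_card hsub
    have h2 := Finset.card_le_two (a := x) (b := -x)
    omega
  have h1 := htri b hb b hb x hx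
  have h2 := htri b hb b hb z hz
  have hb0 := (hsb b hb).1
  have h3 : (b * b) * (b * b) * ((z - x) * (z + x)) = 0 := by linear_combination h2 - h1
  rcases mul_eq_zero.mp h3 with h4 | h4
  · simp [hb0] at h4
  rcases mul_eq_zero.mp h4 with h5 | h5
  · exact hzne.1 (sub_eq_zero.mp h5)
  · exact hzne.2 (eq_neg_of_add_eq_zero_left h5)

end Cfsg.Agent.Aschbacher
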